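import Cfsg.Agent.Lib.CFun.MinParab.Rec.SymParts

/-!
# The decomposition

A faithful module with an offender in which the fixed points of a Sylow subgroup are moved decomposes the group
into parts acting as `SL(2, p ^ n)` on natural modules, or as symmetric groups of degree `2 ^ n + 1` on
even-weight modules; the roots lie in the parts.
-/

set_option autoImplicit false
set_option linter.unusedSectionVars false
set_option linter.style.haveILetI false

open CfsgLib.Char.NatSL (fixS mem_fixS)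
open CfsgLib.Fusion (conjBy)

namespace CfsgLib.CFun.MinParab.Rec

variable {H : Type*} [Group H] [Finite H] {V : Type*} [AddCommGroup V] [Finite V] [DistribMulAction H V]
  {p : ℕ} [hp : Fact p.Prime] {T : Sylow p H} {M : Subgroup H}

/-- The decomposition of a module with offenders and moved fixed points. -/
theorem exists_decomp (hc : Ctx V p T M)
    (hoff : ∃ X : Subgroup H, El p X ∧ X ≠ ⊥ ∧ Nat.card V ≤ Nat.card ↥X * Nat.card ↥(fixS V X)) :
    ∃ q, Least (H := H) V p q ∧ ∃ (r : ℕ) (E : Fin r → Subgroup H), Parts V (T : Subgroup H) r E ∧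
      (∀ A : Subgroup H, Root V p q A → ∃ i, A ≤ E i) ∧ ∃ n, 1 ≤ n ∧
      ((2 < q ∧ q = p ^ n ∧ ∀ i, IsNat2 V q (E i) ∧
          ∃ (g : H) (B L : Subgroup H), E i = conjBy g L ∧ Root V p q B ∧ NatBlk V p M B L) ∨
        (q = 2 ∧ p = 2 ∧ ∀ i, IsPermNat V n (E i) ∧ ∃ t ∈ Tv V p, E i = Subgroup.closure (Cls V p t))) := by
  obtain ⟨q, hl, A, hA⟩ := exists_least hoff
  refine ⟨q, hl, ?_⟩
  by_cases hq : q = 2
  · subst hq
    have hs : Sys V p 2 T M := ⟨hc, hl⟩
    obtain ⟨r, E, hP, hcov, n, hn, hE⟩ := exists_parts_sym hs ⟨A, hA⟩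
    exact ⟨r, E, hP, hcov, n, hn, Or.inr ⟨rfl, hs.p_eq_two hA, hE⟩⟩
  · have hq2 : 2 < q := lt_of_le_of_ne hl.two_le (Ne.symm hq)
    obtain ⟨r, E, hP, hcov, hE⟩ := exists_parts_linear (q := q) (⟨hc, hl⟩ : Sys V p q T M) hq2 ⟨A, hA⟩
    obtain ⟨n, hn⟩ := IsPGroup.iff_card.1 hA.el.pgroup
    rw [hA.card] at hn
    refine ⟨r, E, hP, hcov, n, Nat.one_le_iff_ne_zero.2 fun h => ?_, Or.inl ⟨hq2, hn, fun i => ?_⟩⟩
    · rw [h, pow_zero] at hn
      omega
    · obtain ⟨g, B, L, he, hB, hb⟩ := hE i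
      exact ⟨he ▸ (hB.card ▸ isNat2_of_blk hb).conj g, g, B, L, he, hB, hb⟩

end CfsgLib.CFun.MinParab.Rec
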