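import Cfsg.Agent.Lib.CFun.MinParab.Rec.Pairs

/-!
# The parts generated by the translates of one component

If the translates of `L` under a Sylow subgroup `T` commute pairwise, act trivially on each other's commutator
spaces, and `L` is not inside `M` and faithful on `[V, L]`, the group is the product of the translates and `T`.
-/

set_option autoImplicit false
set_option linter.unusedSectionVars false
set_option linter.style.haveILetI false

open CfsgLib.Char.NatSL (fixS mem_fixS fixS_mono tr mem_tr smul_mem_tr)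
open CfsgLib.Fusion (conjBy mem_conjBy conj_mem_conjBy conjBy_le_iff conjBy_eq_iff conjBy_conjBy conjBy_one
  conjBy_mono conjBy_inv_conjBy conjBy_conjBy_inv)

namespace CfsgLib.CFun.MinParab.Rec

variable {H : Type*} [Group H] {V : Type*} [AddCommGroup V] [DistribMulAction H V] {p : ℕ}

theorem conjBy_sup (g : H) (A B : Subgroup H) : conjBy g (A ⊔ B) = conjBy g A ⊔ conjBy g B :=
  Subgroup.map_sup _ _ _

theorem conjBy_iSup {ι : Sort*} (g : H) (A : ι → Subgroup H) : conjBy g (⨆ i, A i) = ⨆ i, conjBy g (A i) :=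
  Subgroup.map_iSup _ _

theorem tr_sup (g : H) (A B : AddSubgroup V) : tr g (A ⊔ B) = tr g A ⊔ tr g B :=
  AddSubgroup.map_sup _ _ _

theorem tr_mono (g : H) {A B : AddSubgroup V} (h : A ≤ B) : tr g A ≤ tr g B :=
  AddSubgroup.map_mono h

theorem tr_top (g : H) : tr g (⊤ : AddSubgroup V) = ⊤ :=
  top_le_iff.1 fun v _ => mem_tr.2 (AddSubgroup.mem_top _)

theorem tr_iSup {ι : Sort*} (g : H) (A : ι → AddSubgroup V) : tr g (⨆ i, A i) = ⨆ i, tr g (A i) :=
  AddSubgroup.map_iSup _ _

theorem commS_conjBy (g : H) (S : Subgroup H) : commS V (conjBy g S) = tr g (commS V S) := by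
  refine le_antisymm (commS_conjBy_le g S) ?_
  rintro _ ⟨u, hu, rfl⟩
  show g • u ∈ commS V (conjBy g S)
  have h := commS_conjBy_le (V := V) g⁻¹ (conjBy g S)
  rw [conjBy_inv_conjBy] at h
  simpa [mem_tr] using h hu

/-- The parts of the decomposition. -/
structure Parts (V : Type*) [AddCommGroup V] [DistribMulAction H V] (T : Subgroup H) (r : ℕ)
    (E : Fin r → Subgroup H) : Prop where
  pos : 1 ≤ r
  com : ∀ i j, i ≠ j → Com (E i) (E j)
  indep : ∀ i, E i ⊓ (⨆ j ∈ {j | j ≠ i}, E j) = ⊥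
  gen : (⨆ i, E i) ⊔ T = ⊤
  trans : ∀ i j, ∃ t ∈ T, conjBy t (E i) = E j
  span : fixS V (⨆ i, E i) ⊔ (⨆ i, commS V (E i)) = ⊤
  cross : ∀ i j, i ≠ j → commS V (E i) ≤ fixS V (E j)
  perm : ∀ g i, ∃ j, conjBy g (E i) = E j

theorem Parts.conj {T : Subgroup H} {r : ℕ} {E : Fin r → Subgroup H} (h : Parts V T r E) (g : H) :
    Parts V (conjBy g T) r (fun i => conjBy g (E i)) where
  pos := h.pos
  com i j hij := (h.com i j hij).conj g
  indep i := by
    have h1 : (⨆ j ∈ {j | j ≠ i}, conjBy g (E j)) = conjBy g (⨆ j ∈ {j | j ≠ i}, E j) := by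
      rw [conjBy_iSup]
      exact iSup_congr fun j => (conjBy_iSup g _).symm
    rw [h1, CfsgLib.Fusion.conjBy, CfsgLib.Fusion.conjBy, ← Subgroup.map_inf_eq _ _ _ (MulAut.conj g).injective,
      h.indep, Subgroup.map_bot]
  gen := by
    rw [← conjBy_iSup, ← conjBy_sup, h.gen]
    exact Subgroup.map_top_of_surjective _ (MulAut.conj g).surjective
  trans i j := by
    obtain ⟨t, ht, he⟩ := h.trans i j
    refine ⟨g * t * g⁻¹, conj_mem_conjBy ht, ?_⟩
    rw [conjBy_conjBy, inv_mul_cancel_right, ← conjBy_conjBy, he]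
  span := by
    rw [← conjBy_iSup, fixS_conjBy]
    simp only [commS_conjBy]
    rw [← tr_iSup, ← tr_sup, h.span, tr_top]
  cross i j hij := by
    rw [commS_conjBy, fixS_conjBy]
    exact tr_mono g (h.cross i j hij)
  perm x i := by
    obtain ⟨j, hj⟩ := h.perm (g⁻¹ * x * g) i
    refine ⟨j, ?_⟩
    rw [← hj, conjBy_conjBy, conjBy_conjBy]
    group

variable [Finite H] [Finite V] [hp : Fact p.Prime] {T : Sylow p H} {M L : Subgroup H}

/-- The translates of `L` form the parts. -/
theorem exists_parts (hc : Ctx V p T M) (hLM : ¬ L ≤ M)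
    (hcom : ∀ u ∈ (T : Subgroup H), ∀ v ∈ (T : Subgroup H), conjBy u L ≠ conjBy v L →
      Com (conjBy u L) (conjBy v L) ∧ commS V (conjBy u L) ≤ fixS V (conjBy v L))
    (hsup : commS V L ⊔ fixS V L = ⊤) :
    ∃ (r : ℕ) (E : Fin r → Subgroup H), Parts V (T : Subgroup H) r E ∧
      ∀ i, ∃ t ∈ (T : Subgroup H), E i = conjBy t L := by
  classical
  set S : Set (Subgroup H) := (fun t : H => conjBy t L) '' (T : Set H) with hS
  haveI : Finite S := Subtype.finite
  obtain ⟨r, ⟨e⟩⟩ : ∃ r, Nonempty (Fin r ≃ S) := ⟨Nat.card S, ⟨(Finite.equivFin S).symm⟩⟩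
  set E : Fin r → Subgroup H := fun i => (e i : Subgroup H) with hE
  have hmem : ∀ i, ∃ t ∈ (T : Subgroup H), E i = conjBy t L := fun i => by
    obtain ⟨t, ht, he⟩ := (e i).2
    exact ⟨t, ht, he.symm⟩
  have hall : ∀ t ∈ (T : Subgroup H), ∃ i, E i = conjBy t L := fun t ht =>
    ⟨e.symm ⟨_, t, ht, rfl⟩, by simp [hE]⟩
  have hne : ∀ i j, i ≠ j → E i ≠ E j := fun i j hij he => hij (e.injective (Subtype.ext he))
  have hcomE : ∀ i j, i ≠ j → Com (E i) (E j) ∧ commS V (E i) ≤ fixS V (E j) := by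
    intro i j hij
    obtain ⟨u, hu, hi⟩ := hmem i
    obtain ⟨v, hv, hj⟩ := hmem j
    rw [hi, hj]
    exact hcom u hu v hv (by rw [← hi, ← hj]; exact hne i j hij)
  have hfull : ∀ i, commS V (E i) ⊔ fixS V (E i) = ⊤ := fun i => by
    obtain ⟨t, -, hi⟩ := hmem i
    rw [hi, commS_conjBy, fixS_conjBy, ← tr_sup, hsup, tr_top]
  have hfixsup : ∀ (s : Set (Fin r)) (v : V), (∀ j ∈ s, v ∈ fixS V (E j)) → v ∈ fixS V (⨆ j ∈ s, E j) := by
    intro s v hv g hg
    have : (⨆ j ∈ s, E j) ≤ MulAction.stabilizer H v := iSup_le fun j => iSup_le fun hj g hg => hv j hj g hg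
    exact this hg
  have hgen : (⨆ i, E i) ⊔ (T : Subgroup H) = ⊤ := by
    by_contra hne'
    obtain ⟨i, hi⟩ := hall 1 (one_mem _)
    rw [conjBy_one] at hi
    exact hLM ((le_iSup E i).trans' hi.ge |>.trans le_sup_left |>.trans (hc.uniq _ le_sup_right hne'))
  have hperm : ∀ g i, ∃ j, conjBy g (E i) = E j := by
    intro g
    have hg : g ∈ Subgroup.closure (((⨆ i, E i : Subgroup H) : Set H) ∪ ((T : Subgroup H) : Set H)) := by
      rw [← Subgroup.sup_eq_closure, hgen]; exact Subgroup.mem_top g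
    induction hg using Subgroup.closure_induction with
    | mem x hx =>
      intro i
      rcases hx with hx | hx
      · refine ⟨i, conjBy_eq_iff.2 ((iSup_le fun j => ?_ : (⨆ j, E j) ≤ Subgroup.normalizer (E i : Set H)) hx)⟩
        rcases eq_or_ne j i with rfl | hji
        · exact Subgroup.le_normalizer
        · exact (hcomE j i hji).1.le_normalizer
      · obtain ⟨t, ht, he⟩ := hmem i
        obtain ⟨j, hj⟩ := hall (x * t) (mul_mem hx ht)
        exact ⟨j, by rw [he, hj, conjBy_conjBy]⟩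
    | one => exact fun i => ⟨i, conjBy_one _⟩
    | mul x y _ _ hx hy =>
      intro i
      obtain ⟨j, hj⟩ := hy i
      obtain ⟨l, hl⟩ := hx j
      exact ⟨l, by rw [← conjBy_conjBy, hj, hl]⟩
    | inv x _ hx =>
      intro i
      choose f hf using hx
      have hfi : Function.Injective f := fun a b h => by
        by_contra hab
        refine hne a b hab ?_
        rw [← conjBy_inv_conjBy x (E a), hf, h, ← hf, conjBy_inv_conjBy]
      obtain ⟨j, hj⟩ := (Finite.injective_iff_surjective.1 hfi) i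
      exact ⟨j, by rw [← hj, ← hf, conjBy_inv_conjBy]⟩
  refine ⟨r, E, ⟨?_, fun i j hij => (hcomE i j hij).1, fun i => ?_, hgen, fun i j => ?_, ?_,
    fun i j hij => (hcomE i j hij).2, hperm⟩, hmem⟩
  · obtain ⟨i, -⟩ := hall 1 (one_mem _)
    exact i.pos
  · rw [Subgroup.eq_bot_iff_forall]
    rintro g ⟨hgi, hgo⟩
    refine hc.faith g fun v => ?_
    obtain ⟨c, hc', z, hz, rfl⟩ := AddSubgroup.mem_sup.1 (hfull i ▸ AddSubgroup.mem_top v : v ∈ commS V (E i) ⊔ fixS V (E i))
    rw [smul_add, hz g hgi, hfixsup {j | j ≠ i} c (fun j hj => (hcomE i j (Ne.symm hj)).2 hc') g hgo]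
  · obtain ⟨u, hu, hi⟩ := hmem i
    obtain ⟨v, hv, hj⟩ := hmem j
    exact ⟨v * u⁻¹, mul_mem hv (inv_mem hu), by rw [hi, hj, conjBy_conjBy, inv_mul_cancel_right]⟩
  · -- peel off one part after the other
    have key : ∀ s : Finset (Fin r), ∀ v : V,
        ∃ u ∈ (⨆ i, commS V (E i)), ∀ i ∈ s, v - u ∈ fixS V (E i) := by
      intro s
      induction s using Finset.induction with
      | empty => exact fun v => ⟨0, zero_mem _, by simp⟩
      | insert i s his ih =>
        intro v
        obtain ⟨u, hu, hus⟩ := ih v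
        obtain ⟨c, hc', z, hz, he⟩ := AddSubgroup.mem_sup.1
          (hfull i ▸ AddSubgroup.mem_top (v - u) : v - u ∈ commS V (E i) ⊔ fixS V (E i))
        refine ⟨u + c, add_mem hu (le_iSup (fun i => commS V (E i)) i hc'), fun j hj => ?_⟩
        have e1 : v - (u + c) = z := by linear_combination (norm := abel) -he
        rw [e1]
        rcases Finset.mem_insert.1 hj with rfl | hj'
        · exact hz
        · have hij : i ≠ j := fun h => his (h ▸ hj')
          have h1 := sub_mem (hus j hj') ((hcomE i j hij).2 hc')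
          rwa [← he, add_sub_cancel_left] at h1
    refine top_le_iff.1 fun v _ => ?_
    obtain ⟨u, hu, hus⟩ := key Finset.univ v
    refine AddSubgroup.mem_sup.2 ⟨v - u, ?_, u, hu, sub_add_cancel _ _⟩
    intro g hg
    have : (⨆ i, E i) ≤ MulAction.stabilizer H (v - u) :=
      iSup_le fun i g hg => hus i (Finset.mem_univ i) g hg
    exact this hg

/-- A root group lies in a part if its conjugates in `T` lie in one or centralize all. -/
theorem Parts.covered {r q : ℕ} {E : Fin r → Subgroup H} (hP : Parts V (T : Subgroup H) r E)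
    (hl : Least (H := H) V p q) (hc : Ctx V p T M) {A : Subgroup H} (hA : Root V p q A)
    (h : ∀ g, conjBy g A ≤ (T : Subgroup H) → (∃ i, conjBy g A ≤ E i) ∨ ∀ i, Com (conjBy g A) (E i)) :
    ∃ i, A ≤ E i := by
  obtain ⟨Q, hQ⟩ := hA.el.pgroup.exists_le_sylow
  obtain ⟨g, rfl⟩ := MulAction.exists_smul_eq H T Q
  have hgT : conjBy g⁻¹ A ≤ (T : Subgroup H) := by
    rw [← conjBy_inv_conjBy g (T : Subgroup H)]
    exact conjBy_mono hQ
  rcases h _ hgT with ⟨i, hi⟩ | hcom
  · obtain ⟨j, hj⟩ := hP.perm g i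
    exact ⟨j, by rw [← conjBy_conjBy_inv g A, ← hj]; exact conjBy_mono hi⟩
  exfalso
  set B := conjBy g⁻¹ A
  set Y : Subgroup H := ⨆ t : ↥(T : Subgroup H), conjBy (t : H) B with hY
  have hYT : Y ≤ (T : Subgroup H) := iSup_le fun t => conjBy_le_iff.2 fun b hb =>
    mul_mem (mul_mem t.2 (hgT hb)) (inv_mem t.2)
  have hTn : (T : Subgroup H) ≤ Subgroup.normalizer (Y : Set H) := fun x hx => by
    refine conjBy_eq_iff.1 (Subgroup.eq_of_le_of_card_ge ?_ (CfsgLib.Fusion.card_conjBy _ _).ge)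
    rw [hY, conjBy_iSup]
    exact iSup_le fun t => (conjBy_conjBy x (t : H) B).le.trans
      (le_iSup (fun t : ↥(T : Subgroup H) => conjBy (t : H) B) ⟨x * t, mul_mem hx t.2⟩)
  have hEc : ∀ i, E i ≤ Subgroup.centralizer (Y : Set H) := fun i => by
    refine Subgroup.le_centralizer_iff.1 (iSup_le fun t => fun b hb => Subgroup.mem_centralizer_iff.2 fun e he => ?_)
    obtain ⟨l, hl'⟩ := hP.perm (t : H)⁻¹ i
    have h1 := (hcom l).conj (t : H)
    rw [← hl', conjBy_conjBy_inv] at h1
    exact (h1 b hb e he).symm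
  have hYn : Y.Normal := by
    refine Subgroup.normalizer_eq_top_iff.1 (top_le_iff.1 ?_)
    rw [← hP.gen]
    exact sup_le (iSup_le fun i => (hEc i).trans (Subgroup.centralizer_le_normalizer _)) hTn
  refine (hA.conj g⁻¹).ne_bot hl (le_bot_iff.1 ?_)
  rw [← hc.core Y hYn (T.2.to_le hYT)]
  exact le_iSup_of_le ⟨1, one_mem _⟩ (conjBy_one B).ge

end CfsgLib.CFun.MinParab.Rec
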