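import Cfsg.Agent.Lib.CFun.MinParab.Rec.Pairs
import Cfsg.Agent.Lib.CFun.OffenderPair.Torus

/-!
# Coordinates in a natural block

A natural block `L` at `B` has coordinates `ψ : V → F × F` with kernel the fixed points of `L`, in which the
fixed space of `B` is the first axis, together with a torus normalizing `B`, a Weyl element and the elements
of `B`.
-/

set_option autoImplicit false
set_option linter.unusedSectionVars false
set_option linter.style.haveILetI false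

open scoped MatrixGroups
open CfsgLib.Char.NatSL (OffData fixS mem_fixS fixS_mono tr mem_tr smul_mem_tr)
open CfsgLib.Fusion (conjBy mem_conjBy conj_mem_conjBy)

namespace CfsgLib.CFun.MinParab.Rec

variable {H : Type*} [Group H] {V : Type*} [AddCommGroup V] [DistribMulAction H V] {p : ℕ}

/-- Coordinates of a block `L` at `B`. -/
structure Coord (V : Type*) [AddCommGroup V] [DistribMulAction H V] (B L : Subgroup H) (F : Type) [Field F] where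
  /-- The coordinates. -/
  ψ : V →+ F × F
  /-- The torus. -/
  tor : F → H
  /-- The Weyl element. -/
  wl : H
  /-- The elements of `B`. -/
  ub : F → H
  surj : Function.Surjective ψ
  ker : ∀ v : V, ψ v = 0 ↔ v ∈ fixS V L
  tor_mem : ∀ s, tor s ∈ L
  wl_mem : wl ∈ L
  ub_mem : ∀ c, ub c ∈ B
  exists_ub : ∀ b ∈ B, ∃ c, ub c = b
  tor_ψ : ∀ s : F, s ≠ 0 → ∀ v : V, ψ (tor s • v) = (s * (ψ v).1, s⁻¹ * (ψ v).2)
  wl_ψ : ∀ v : V, ψ (wl • v) = (-(ψ v).2, (ψ v).1)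
  ub_ψ : ∀ (c : F) (v : V), ψ (ub c • v) = ((ψ v).1 + c * (ψ v).2, (ψ v).2)
  memW : ∀ v : V, v ∈ fixS V B ↔ (ψ v).2 = 0
  le : B ≤ L
  torN : ∀ s : F, s ≠ 0 → conjBy (tor s) B = B
  tor_comm : ∀ s t : F, s ≠ 0 → t ≠ 0 → tor s * tor t = tor t * tor s
  tor_inv : ∀ s : F, s ≠ 0 → tor s * tor s⁻¹ = 1
  wl_tor : ∀ s : F, s ≠ 0 → wl * tor s = tor s⁻¹ * wl
  gen : B ⊔ conjBy wl B = L

variable [Finite H] [Finite V] [hp : Fact p.Prime] {M B L : Subgroup H}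

theorem exists_coord (hb : NatBlk V p M B L) :
    ∃ (F : Type) (_ : Field F) (_ : Fintype F), Fintype.card F = Nat.card ↥B ∧ Nonempty (Coord V B L F) ∧
      Nonempty (↥L ≃* SL(2, F)) := by
  classical
  obtain ⟨T₀, hd⟩ := hb.data
  obtain ⟨F, iF, iFf, hF, -, ρ₀, ψ₀, hψ₀s, hψ₀0, hψ₀⟩ := hd.natural
  obtain ⟨w0, hw0, hw0Z⟩ := hb.exists_W_notZ
  have hu : ψ₀ w0 ≠ 0 := fun h => hw0Z (by rw [← NatBlk.fixL]; exact (hψ₀0 w0).1 h)
  obtain ⟨Q, hQ⟩ : ∃ Q : SL(2, F), (Q : Matrix (Fin 2) (Fin 2) F).mulVec ![1, 0] = ψ₀ w0 := by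
    set u := ψ₀ w0
    by_cases h0 : u 0 = 0
    · have h1 : u 1 ≠ 0 := fun h1 => hu (funext fun i => by fin_cases i <;> assumption)
      refine ⟨⟨!![u 0, -(u 1)⁻¹; u 1, 0], by simp [Matrix.det_fin_two_of, h1]⟩, ?_⟩
      ext i
      fin_cases i <;> simp [Matrix.mulVec, dotProduct, Fin.sum_univ_two]
    · refine ⟨⟨!![u 0, 0; u 1, (u 0)⁻¹], by simp [Matrix.det_fin_two_of, h0]⟩, ?_⟩
      ext i
      fin_cases i <;> simp [Matrix.mulVec, dotProduct, Fin.sum_univ_two]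
  let ρ : ↥L ≃* SL(2, F) := ρ₀.trans (MulAut.conj Q⁻¹)
  let ψ' : V →+ (Fin 2 → F) :=
    (Matrix.mulVecLin ((Q⁻¹ : SL(2, F)) : Matrix (Fin 2) (Fin 2) F)).toAddMonoidHom.comp ψ₀
  have hinv : ∀ x : Fin 2 → F, ((Q⁻¹ : SL(2, F)) : Matrix (Fin 2) (Fin 2) F).mulVec
      ((Q : Matrix (Fin 2) (Fin 2) F).mulVec x) = x := fun x => by
    rw [Matrix.mulVec_mulVec, ← Matrix.SpecialLinearGroup.coe_mul, inv_mul_cancel,
      Matrix.SpecialLinearGroup.coe_one, Matrix.one_mulVec]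
  have hinv' : ∀ x : Fin 2 → F, (Q : Matrix (Fin 2) (Fin 2) F).mulVec
      (((Q⁻¹ : SL(2, F)) : Matrix (Fin 2) (Fin 2) F).mulVec x) = x := fun x => by
    rw [Matrix.mulVec_mulVec, ← Matrix.SpecialLinearGroup.coe_mul, mul_inv_cancel,
      Matrix.SpecialLinearGroup.coe_one, Matrix.one_mulVec]
  have hψ' : ∀ (g : ↥L) (v : V), ψ' ((g : H) • v) =
      ((ρ g : SL(2, F)) : Matrix (Fin 2) (Fin 2) F).mulVec (ψ' v) := fun g v => by
    show ((Q⁻¹ : SL(2, F)) : Matrix (Fin 2) (Fin 2) F).mulVec (ψ₀ (g • v)) =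
      ((Q⁻¹ * ρ₀ g * Q⁻¹⁻¹ : SL(2, F)) : Matrix (Fin 2) (Fin 2) F).mulVec
        (((Q⁻¹ : SL(2, F)) : Matrix (Fin 2) (Fin 2) F).mulVec (ψ₀ v))
    rw [hψ₀, Matrix.mulVec_mulVec, Matrix.mulVec_mulVec, ← Matrix.SpecialLinearGroup.coe_mul,
      ← Matrix.SpecialLinearGroup.coe_mul, inv_mul_cancel_right]
  have hψ'0 : ∀ v, ψ' v = 0 ↔ v ∈ fixS V L := fun v => by
    rw [← NatBlk.fixL, ← hψ₀0]
    refine ⟨fun h => ?_, fun h => ?_⟩
    · rw [← hinv' (ψ₀ v)]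
      show (Q : Matrix (Fin 2) (Fin 2) F).mulVec (ψ' v) = 0
      rw [h, Matrix.mulVec_zero]
    · show ((Q⁻¹ : SL(2, F)) : Matrix (Fin 2) (Fin 2) F).mulVec (ψ₀ v) = 0
      rw [h, Matrix.mulVec_zero]
  have hw0' : ψ' w0 = ![1, 0] := by
    show ((Q⁻¹ : SL(2, F)) : Matrix (Fin 2) (Fin 2) F).mulVec (ψ₀ w0) = ![1, 0]
    rw [← hQ, hinv]
  let ψ : V →+ F × F := AddMonoidHom.mk' (fun v => (ψ' v 0, ψ' v 1)) fun u v => by simp
  have hψ1 : ∀ v, (ψ v).1 = ψ' v 0 := fun _ => rfl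
  have hψ2 : ∀ v, (ψ v).2 = ψ' v 1 := fun _ => rfl
  have hψ : ∀ (g : ↥L) (v : V), ψ ((g : H) • v) =
      ((ρ g : SL(2, F)) 0 0 * (ψ v).1 + (ρ g : SL(2, F)) 0 1 * (ψ v).2,
        (ρ g : SL(2, F)) 1 0 * (ψ v).1 + (ρ g : SL(2, F)) 1 1 * (ψ v).2) := fun g v => by
    refine Prod.ext ?_ ?_
    · rw [hψ1, hψ']; simp [Matrix.mulVec, dotProduct, Fin.sum_univ_two, hψ1, hψ2]
    · rw [hψ2, hψ']; simp [Matrix.mulVec, dotProduct, Fin.sum_univ_two, hψ1, hψ2]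
  have hψ0 : ∀ v, ψ v = 0 ↔ v ∈ fixS V L := fun v => by
    rw [← hψ'0]
    refine ⟨fun h => funext fun i => ?_, fun h => Prod.ext ?_ ?_⟩
    · fin_cases i
      · exact congrArg Prod.fst h
      · exact congrArg Prod.snd h
    · rw [hψ1, h]; rfl
    · rw [hψ2, h]; rfl
  -- the image of `B`
  have hB : ∀ (b : ↥L), (b : H) ∈ B →
      (ρ b : SL(2, F)) 0 0 = 1 ∧ (ρ b : SL(2, F)) 1 0 = 0 ∧ (ρ b : SL(2, F)) 1 1 = 1 := by
    intro b hb'
    have h1 : ψ ((b : H) • w0) = ψ w0 := by rw [hw0 _ hb']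
    rw [hψ] at h1
    have h00 : (ρ b : SL(2, F)) 0 0 = 1 := by simpa [hψ1, hψ2, hw0'] using congrArg Prod.fst h1
    have h10 : (ρ b : SL(2, F)) 1 0 = 0 := by simpa [hψ1, hψ2, hw0'] using congrArg Prod.snd h1
    have h2 := (ρ b : SL(2, F)).2
    rw [Matrix.det_fin_two] at h2
    change (ρ b : SL(2, F)) 0 0 * (ρ b : SL(2, F)) 1 1 - (ρ b : SL(2, F)) 0 1 * (ρ b : SL(2, F)) 1 0 = 1 at h2
    rw [h00, h10] at h2
    exact ⟨h00, h10, by simpa using h2⟩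
  let co : ↥B → F := fun b => (ρ ⟨b, hb.le b.2⟩ : SL(2, F)) 0 1
  have hco : Function.Injective co := by
    intro b b' h
    obtain ⟨a1, a2, a3⟩ := hB ⟨b, hb.le b.2⟩ b.2
    obtain ⟨c1, c2, c3⟩ := hB ⟨b', hb.le b'.2⟩ b'.2
    have h1 : ρ ⟨b, hb.le b.2⟩ = ρ ⟨b', hb.le b'.2⟩ := Subtype.ext (by
      ext i j
      fin_cases i <;> fin_cases j
      · exact a1.trans c1.symm
      · exact h
      · exact a2.trans c2.symm
      · exact a3.trans c3.symm)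
    exact Subtype.ext (congrArg Subtype.val (ρ.injective h1) : _)
  have hcard : Fintype.card F = Nat.card ↥B := hF.trans hb.cardA
  have hbij : Function.Bijective co :=
    (Nat.bijective_iff_injective_and_card co).2 ⟨hco, by rw [← hcard, Nat.card_eq_fintype_card (α := F)]⟩
  let eB : ↥B ≃ F := Equiv.ofBijective co hbij
  let ub : F → H := fun c => (eB.symm c : H)
  let tor : F → H := fun s => if hs : s = 0 then 1 else
    ((ρ.symm (CfsgLib.CFun.OffenderPair.diagU (Units.mk0 s hs)) : ↥L) : H)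
  let wlM : SL(2, F) := ⟨!![0, -1; 1, 0], by simp [Matrix.det_fin_two_of]⟩
  let wl : H := ((ρ.symm wlM : ↥L) : H)
  have htor : ∀ s : F, s ≠ 0 → ∀ v, ψ (tor s • v) = (s * (ψ v).1, s⁻¹ * (ψ v).2) := fun s hs v => by
    simp only [tor, dif_neg hs]
    rw [hψ, MulEquiv.apply_symm_apply]
    simp [CfsgLib.CFun.OffenderPair.diagU]
  have hub : ∀ (c : F) (v : V), ψ (ub c • v) = ((ψ v).1 + c * (ψ v).2, (ψ v).2) := fun c v => by
    have h1 := hψ ⟨_, hb.le (eB.symm c).2⟩ v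
    obtain ⟨a1, a2, a3⟩ := hB ⟨_, hb.le (eB.symm c).2⟩ (eB.symm c).2
    have h2 : (ρ ⟨_, hb.le (eB.symm c).2⟩ : SL(2, F)) 0 1 = c := eB.apply_symm_apply c
    rw [a1, a2, a3, h2] at h1
    simpa using h1
  have hwl : ∀ v, ψ (wl • v) = (-(ψ v).2, (ψ v).1) := fun v => by
    rw [hψ, MulEquiv.apply_symm_apply]
    simp [wlM]
  have hmemW : ∀ v : V, v ∈ fixS V B ↔ (ψ v).2 = 0 := by
    intro v
    refine ⟨fun h => ?_, fun h => ?_⟩
    · have h1 := congrArg Prod.fst (hub 1 v)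
      rw [h _ (eB.symm 1).2] at h1
      simpa using h1
    · obtain ⟨b, hb', hb1⟩ := hb.exists_ne_one
      refine hb.sep hb' hb1 ((hψ0 _).1 ?_)
      rw [map_sub, hψ ⟨b, hb.le hb'⟩ v, (hB ⟨b, hb.le hb'⟩ hb').1, (hB ⟨b, hb.le hb'⟩ hb').2.1,
        (hB ⟨b, hb.le hb'⟩ hb').2.2, h]
      refine Prod.ext ?_ ?_ <;> simp [h]
  have hwlM : wl ∉ M := by
    intro hm
    have h1 := hd.tr_eq (m := ⟨wl, (ρ.symm wlM).2⟩) hm
    rw [hb.fixA] at h1
    have h2 : wl • w0 ∈ fixS V B := h1.le (smul_mem_tr (x := (⟨wl, (ρ.symm wlM).2⟩ : ↥L)) hw0)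
    rw [hmemW, hwl] at h2
    simp [hψ1, hw0'] at h2
  refine ⟨F, iF, iFf, hcard, ⟨⟨ψ, tor, wl, ub, fun z => ?_, hψ0, fun s => ?_, (ρ.symm wlM).2,
    fun c => (eB.symm c).2, fun b hb' => ⟨eB ⟨b, hb'⟩, congrArg Subtype.val (eB.symm_apply_apply ⟨b, hb'⟩)⟩,
    htor, hwl, hub, hmemW, hb.le, fun s hs => ?_, fun s t hs ht => ?_, fun s hs => ?_, fun s hs => ?_,
    hb.gen _ (ρ.symm wlM).2 hwlM⟩⟩, ⟨ρ⟩⟩
  · obtain ⟨v, hv⟩ := hψ₀s ((Q : Matrix (Fin 2) (Fin 2) F).mulVec ![z.1, z.2])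
    have h1 : ψ' v = ![z.1, z.2] := by
      show ((Q⁻¹ : SL(2, F)) : Matrix (Fin 2) (Fin 2) F).mulVec (ψ₀ v) = ![z.1, z.2]
      rw [hv, hinv]
    exact ⟨v, Prod.ext (by rw [hψ1, h1]; rfl) (by rw [hψ2, h1]; rfl)⟩
  · simp only [tor]
    split_ifs
    · exact one_mem _
    · exact SetLike.coe_mem _
  · refine Subgroup.eq_of_le_of_card_ge ?_ (by rw [CfsgLib.Fusion.card_conjBy])
    rintro _ ⟨b, hb', rfl⟩
    set c := co ⟨b, hb'⟩
    set g : ↥L := ρ.symm (CfsgLib.CFun.OffenderPair.diagU (Units.mk0 s hs)) with hg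
    have hgs : tor s = (g : H) := by simp [tor, dif_neg hs, hg]
    obtain ⟨d, hd'⟩ := hbij.2 (s * s * c)
    have key : g * ⟨b, hb.le hb'⟩ = (⟨d, hb.le d.2⟩ : ↥L) * g := by
      apply ρ.injective
      obtain ⟨a1, a2, a3⟩ := hB ⟨b, hb.le hb'⟩ hb'
      obtain ⟨c1, c2, c3⟩ := hB ⟨d, hb.le d.2⟩ d.2
      have hd'' : (ρ ⟨d, hb.le d.2⟩ : SL(2, F)) 0 1 = s * s * c := hd'
      have hc : (ρ ⟨b, hb.le hb'⟩ : SL(2, F)) 0 1 = c := rfl
      rw [map_mul, map_mul, hg, MulEquiv.apply_symm_apply]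
      apply Subtype.ext
      rw [Matrix.SpecialLinearGroup.coe_mul, Matrix.SpecialLinearGroup.coe_mul]
      ext i j
      rw [Matrix.mul_apply, Matrix.mul_apply, Fin.sum_univ_two, Fin.sum_univ_two]
      fin_cases i <;> fin_cases j <;>
        simp [CfsgLib.CFun.OffenderPair.diagU, a1, a2, a3, c1, c2, c3, hd'', hc, hs]
      field_simp
    show (MulAut.conj (tor s)) b ∈ B
    have h1 : tor s * b * (tor s)⁻¹ = (d : H) := by
      rw [hgs, mul_inv_eq_iff_eq_mul]; exact congrArg Subtype.val key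
    simpa [h1] using d.2
  · simp only [tor, dif_neg hs, dif_neg ht, ← Subgroup.coe_mul, ← map_mul,
      ← CfsgLib.CFun.OffenderPair.diagU_mul, mul_comm]
  · have hs' : s⁻¹ ≠ 0 := inv_ne_zero hs
    simp only [tor, dif_neg hs, dif_neg hs', ← Subgroup.coe_mul, ← map_mul,
      ← CfsgLib.CFun.OffenderPair.diagU_mul]
    have h1 : Units.mk0 s hs * Units.mk0 s⁻¹ hs' = 1 := Units.ext (mul_inv_cancel₀ hs)
    have h2 : CfsgLib.CFun.OffenderPair.diagU (1 : Fˣ) = 1 := by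
      apply Subtype.ext
      ext i j
      fin_cases i <;> fin_cases j <;> simp [CfsgLib.CFun.OffenderPair.diagU]
    rw [h1, h2, map_one, Subgroup.coe_one]
  · have hs' : s⁻¹ ≠ 0 := inv_ne_zero hs
    simp only [tor, dif_neg hs, dif_neg hs', wl, ← Subgroup.coe_mul, ← map_mul]
    congr 2
    apply Subtype.ext
    rw [Matrix.SpecialLinearGroup.coe_mul, Matrix.SpecialLinearGroup.coe_mul]
    ext i j
    fin_cases i <;> fin_cases j <;>
      simp [CfsgLib.CFun.OffenderPair.diagU, wlM, Matrix.mul_apply, Fin.sum_univ_two]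

end CfsgLib.CFun.MinParab.Rec
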