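import Cfsg.Agent.Lib.CFun.MinParab.Loc
import Cfsg.Agent.Lib.CFun.MinParab.Block

/-!
# Root groups of a module with moved Sylow fixed points

`Ctx` is a faithful module of a group with a unique maximal subgroup `M` over a Sylow subgroup `T` and without
normal `p`-subgroups, in which the fixed points of `T` are moved. There are no over-offenders. A root group is an
offender of the least possible order `q`; every root group has a natural block outside some conjugate of `M`,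
so it acts quadratically and all its non-trivial elements have the same fixed space.
-/

set_option autoImplicit false
set_option linter.unusedSectionVars false
set_option linter.style.haveILetI false

open CfsgLib.Char.NatSL (OffData fixS mem_fixS fixS_mono fixS_conj tr mem_tr card_tr smul_mem_tr card_sup_mul_card_inf)
open CfsgLib.Fusion (conjBy mem_conjBy conj_mem_conjBy conjBy_le_iff conjBy_eq_iff conjBy_conjBy conjBy_mono
  card_conjBy isPGroup_conjBy conjBy_inv_conjBy conjBy_conjBy_inv)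
open CfsgLib.CFun.OffenderPair (exists_local fixS_map fixS_sup chainStab)

namespace CfsgLib.CFun.MinParab.Rec

variable {H : Type*} [Group H] {V : Type*} [AddCommGroup V] [DistribMulAction H V] {p : ℕ}

theorem fixS_conjBy (x : H) (X : Subgroup H) : fixS V (conjBy x X) = tr x (fixS V X) := fixS_conj x X

/-- The hypotheses. -/
structure Ctx (V : Type*) [AddCommGroup V] [DistribMulAction H V] (p : ℕ) [Fact p.Prime] (T : Sylow p H)
    (M : Subgroup H) : Prop where
  vp : ∀ v : V, p • v = 0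
  faith : ∀ g : H, (∀ v : V, g • v = v) → g = 1
  le_M : (T : Subgroup H) ≤ M
  ne_top : M ≠ ⊤
  uniq : ∀ K : Subgroup H, (T : Subgroup H) ≤ K → K ≠ ⊤ → K ≤ M
  core : ∀ X : Subgroup H, X.Normal → IsPGroup p X → X = ⊥
  moved : ¬ fixS V (T : Subgroup H) ≤ fixS V (⊤ : Subgroup H)

/-- A root group of order `q`. -/
structure Root (V : Type*) [AddCommGroup V] [DistribMulAction H V] (p q : ℕ) (A : Subgroup H) : Prop where
  el : El p A
  card : Nat.card ↥A = q
  off : Nat.card V ≤ q * Nat.card ↥(fixS V A)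

/-- `q` is the least order of a non-trivial offender. -/
structure Least (V : Type*) [AddCommGroup V] [DistribMulAction H V] (p q : ℕ) : Prop where
  two_le : 2 ≤ q
  min : ∀ X : Subgroup H, El p X → X ≠ ⊥ → Nat.card V ≤ Nat.card ↥X * Nat.card ↥(fixS V X) → q ≤ Nat.card ↥X

variable [Finite H] [Finite V] [hp : Fact p.Prime] {T : Sylow p H} {M : Subgroup H}

theorem exists_least (h : ∃ X : Subgroup H, El p X ∧ X ≠ ⊥ ∧
    Nat.card V ≤ Nat.card ↥X * Nat.card ↥(fixS V X)) :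
    ∃ q, Least (H := H) V p q ∧ ∃ A : Subgroup H, Root V p q A := by
  classical
  have h' : ∃ n, ∃ X : Subgroup H, El p X ∧ X ≠ ⊥ ∧
      Nat.card V ≤ Nat.card ↥X * Nat.card ↥(fixS V X) ∧ Nat.card ↥X = n :=
    let ⟨X, h1, h2, h3⟩ := h
    ⟨_, X, h1, h2, h3, rfl⟩
  obtain ⟨X, h1, h2, h3, h4⟩ := Nat.find_spec h'
  refine ⟨Nat.find h', ⟨?_, fun Y hY hYne hYoff => Nat.find_min' h' ⟨Y, hY, hYne, hYoff, rfl⟩⟩, X, h1, h4,
    by rwa [← h4]⟩
  have h5 : 1 < Nat.card ↥X := Subgroup.one_lt_card_iff_ne_bot X |>.2 h2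
  omega

namespace Ctx

theorem vp' (hc : Ctx V p T M) : ∃ k : ℕ, ∀ v : V, p ^ k • v = 0 :=
  ⟨1, fun v => by rw [pow_one]; exact hc.vp v⟩

theorem eq_top (hc : Ctx V p T M) {m : H} (hm : m ∈ M) {K : Subgroup H}
    (hK : conjBy m (T : Subgroup H) ≤ K) (hKM : ¬ K ≤ M) : K = ⊤ := by
  by_contra hne
  refine hKM fun x hx => ?_
  have h1 : (T : Subgroup H) ≤ conjBy m⁻¹ K := by
    rw [← conjBy_inv_conjBy m (T : Subgroup H)]
    exact conjBy_mono hK
  have h2 := hc.uniq _ h1 (fun h => hne (by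
    rw [← conjBy_conjBy_inv m K, h]
    exact Subgroup.map_top_of_surjective _ (MulAut.conj m).surjective)) (conj_mem_conjBy (g := m⁻¹) hx)
  have h3 := M.mul_mem (M.mul_mem hm h2) (M.inv_mem hm)
  simpa [mul_assoc] using h3

/-- A fixed vector of an `M`-conjugate of the Sylow subgroup is moved by every subgroup outside `M`. -/
theorem exists_moved (hc : Ctx V p T M) {m : H} (hm : m ∈ M) {L : Subgroup H} (hL : ¬ L ≤ M) :
    ∃ v ∈ fixS V (conjBy m (T : Subgroup H)), v ∉ fixS V L := by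
  obtain ⟨v, hv, hvtop⟩ := SetLike.not_le_iff_exists.1 hc.moved
  refine ⟨m • v, ?_, fun h => hvtop ?_⟩
  · rw [fixS_conjBy]
    exact smul_mem_tr hv
  · have h1 : m • v ∈ fixS V (conjBy m (T : Subgroup H) ⊔ L) := by
      rw [fixS_sup, fixS_conjBy]
      exact ⟨smul_mem_tr hv, h⟩
    rw [hc.eq_top hm le_sup_left fun h => hL (le_sup_right.trans h)] at h1
    have h2 := mem_fixS.1 h1 m⁻¹ (Subgroup.mem_top _)
    rw [inv_smul_smul] at h2
    rwa [h2]

/-- The data for a minimal offender generating with any conjugate outside `M`. -/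
theorem offData (hc : Ctx V p T M) {A L : Subgroup H} (T₀ : Sylow p ↥L) {m : H} (hm : m ∈ M)
    (hA : El p A) (hAL : A ≤ L) (hLM : ¬ L ≤ M) (hAM : A ≤ M) (hAT₀ : A.subgroupOf L ≤ (T₀ : Subgroup ↥L))
    (hT₀M : (T₀ : Subgroup ↥L) ≤ M.subgroupOf L)
    (hT₀P : ∀ t ∈ (T₀ : Subgroup ↥L), m⁻¹ * (t : H) * m ∈ (T : Subgroup H))
    (hover : ∀ K : Subgroup ↥L, A.subgroupOf L ≤ K → K ≠ ⊤ → K ≤ M.subgroupOf L)
    (hgen : ∀ x ∈ L, x ∉ M → A ⊔ conjBy x A = L)
    (hoff : Nat.card V ≤ Nat.card ↥A * Nat.card ↥(fixS V A))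
    (hstrict : ∀ X : Subgroup H, X ≤ A → X ≠ ⊥ → X ≠ A →
      Nat.card ↥X * Nat.card ↥(fixS V X) < Nat.card ↥A * Nat.card ↥(fixS V A)) :
    OffData V p T₀ (M.subgroupOf L) (A.subgroupOf L) := by
  set A' : Subgroup ↥L := A.subgroupOf L with hA'
  set M₀ : Subgroup ↥L := M.subgroupOf L with hM₀
  have hA'map : A'.map L.subtype = A := by
    rw [hA', Subgroup.subgroupOf_map_subtype, inf_eq_left.2 hAL]
  have hcardA : Nat.card ↥A' = Nat.card ↥A := Nat.card_congr (Subgroup.subgroupOfEquivOfLe hAL).toEquiv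
  have hfixA : fixS V A' = fixS V A := by rw [← fixS_map A', hA'map]
  have hM₀ne : M₀ ≠ ⊤ := fun h => hLM fun x hx => by
    have h1 : (⟨x, hx⟩ : ↥L) ∈ M₀ := by rw [h]; exact Subgroup.mem_top _
    exact h1
  have hA'M : A' ≤ M₀ := fun a ha' => hAM ha'
  have hcoatom : IsCoatom M₀ := ⟨hM₀ne, fun K hK => by
    by_contra hKt
    exact hK.not_ge (hover K (hA'M.trans hK.le) hKt)⟩
  have hgen' : ∀ x : ↥L, x ∉ M₀ → A' ⊔ A'.map (MulAut.conj x).toMonoidHom = ⊤ := fun x hx => by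
    apply Subgroup.map_injective L.subtype_injective
    rw [Subgroup.map_sup, hA'map, ← MonoidHom.range_eq_map, Subgroup.range_subtype, Subgroup.map_map]
    conv_rhs => rw [← hgen x x.2 hx]
    congr 1
    conv_rhs => rw [← hA'map, CfsgLib.Fusion.conjBy, Subgroup.map_map]
    rfl
  exact
    { faith := fun g hg => Subtype.ext (hc.faith g hg)
      vp := hc.vp'
      acomm := fun a ha' b hb => Subtype.ext (hA.comm _ ha' _ hb)
      apow := fun a ha' => Subtype.ext (hA.pow _ ha')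
      aT := hAT₀
      coatom := hcoatom
      tM := hT₀M
      uniq := fun K hK hTK => by
        rcases (hover K (hAT₀.trans hTK) hK.1).eq_or_lt with h | h
        · exact h
        · exact absurd (hK.2 _ h) hM₀ne
      notNormal := fun hn => by
        obtain ⟨x, hx, hxM⟩ := SetLike.not_le_iff_exists.1 hLM
        refine hM₀ne (top_le_iff.1 ((hgen' ⟨x, hx⟩ hxM).ge.trans (le_trans ?_ hT₀M)))
        refine sup_le hAT₀ ?_
        rintro _ ⟨a, ha', rfl⟩
        exact hn.conj_mem a (hAT₀ ha') _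
      off := by rw [hcardA, hfixA]; exact hoff
      strict := fun X hX hXne hXA => by
        have h1 : X.map L.subtype ≤ A := hA'map ▸ Subgroup.map_mono hX
        have h2 : X.map L.subtype ≠ ⊥ := fun h =>
          hXne ((Subgroup.map_eq_bot_iff_of_injective _ L.subtype_injective).1 h)
        have h3 : X.map L.subtype ≠ A := fun h =>
          hXA (Subgroup.map_injective L.subtype_injective (h.trans hA'map.symm))
        have h4 := hstrict _ h1 h2 h3
        rw [hcardA, hfixA]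
        rwa [fixS_map, Subgroup.card_map_of_injective L.subtype_injective] at h4
      moved := by
        obtain ⟨v, hv, hvL⟩ := hc.exists_moved hm hLM
        refine ⟨v, fun t ht => hv _ ⟨m⁻¹ * (t : H) * m, hT₀P t ht, by simp [mul_assoc]⟩, fun h => hvL ?_⟩
        intro x hx
        exact h ⟨x, hx⟩ (Subgroup.mem_top _)
      gen := hgen' }

/-- There is no over-offender. -/
theorem card_le (hc : Ctx V p T M) {X : Subgroup H} (hX : El p X) :
    Nat.card ↥X * Nat.card ↥(fixS V X) ≤ Nat.card V := by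
  classical
  let f : Subgroup H → ℕ := fun Y => Nat.card ↥Y * Nat.card ↥(fixS V Y)
  by_contra hlt
  replace hlt : Nat.card V < f X := not_le.1 hlt
  let S : Set (Subgroup H) := {A | El p A ∧ A ≠ ⊥ ∧ Nat.card V < f A ∧
    ∀ Y : Subgroup H, Y ≤ A → Y ≠ ⊥ → Y ≠ A → f Y < f A}
  have hf : ∀ (g : H) (Y : Subgroup H), f (conjBy g Y) = f Y := fun g Y => by
    show Nat.card ↥(conjBy g Y) * Nat.card ↥(fixS V (conjBy g Y)) = Nat.card ↥Y * Nat.card ↥(fixS V Y)
    rw [card_conjBy, fixS_conjBy, card_tr]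
  have hbot : ∀ (g : H) (Y : Subgroup H), conjBy g Y = ⊥ → Y = ⊥ := fun g Y h => by
    rw [← Subgroup.card_eq_one, ← card_conjBy g Y, h, Subgroup.card_bot]
  have hSconj : ∀ A ∈ S, ∀ g : H, conjBy g A ∈ S := by
    rintro A ⟨hA, hne, hoff, hmin⟩ g
    refine ⟨hA.conjBy g, fun h => hne (hbot g A h), by rw [hf]; exact hoff, fun Y hY hYne hYA => ?_⟩
    have h1 : conjBy g⁻¹ Y ≤ A := conjBy_inv_conjBy g A ▸ conjBy_mono hY
    rw [hf, ← hf g⁻¹ Y]
    refine hmin _ h1 (fun h => hYne (hbot _ _ h)) fun h => hYA ?_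
    rw [← h, conjBy_conjBy_inv]
  have hXne : X ≠ ⊥ := fun h => by
    subst h
    refine hlt.not_ge ?_
    show Nat.card ↥(⊥ : Subgroup H) * Nat.card ↥(fixS V (⊥ : Subgroup H)) ≤ Nat.card V
    rw [Subgroup.card_bot, one_mul]
    exact AddSubgroup.card_le_card_addGroup _
  obtain ⟨A₀, ⟨hA₀X, hA₀ne, hA₀f⟩, hA₀min⟩ := (Set.toFinite {Y : Subgroup H | Y ≤ X ∧ Y ≠ ⊥ ∧ f X ≤ f Y}).exists_minimal
    ⟨X, le_rfl, hXne, le_rfl⟩
  have hA₀S : A₀ ∈ S := ⟨hX.mono hA₀X, hA₀ne, hlt.trans_le hA₀f, fun Y hY hYne hYA => by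
    by_contra hY'
    exact hYA (le_antisymm hY (hA₀min ⟨hY.trans hA₀X, hYne, hA₀f.trans (not_lt.1 hY')⟩ hY))⟩
  obtain ⟨Q, hQ⟩ := (hX.mono hA₀X).pgroup.exists_le_sylow
  obtain ⟨g, rfl⟩ := MulAction.exists_smul_eq H T Q
  have hex : ∃ A ∈ S, A ≤ (T : Subgroup H) := by
    refine ⟨conjBy g⁻¹ A₀, hSconj _ hA₀S _, ?_⟩
    rw [← conjBy_inv_conjBy g (T : Subgroup H)]
    exact conjBy_mono hQ
  obtain ⟨A, L, T₀, m, hAS, hm, hAL, hAM, hLM, hAT₀, hT₀M, hT₀P, hover, hgen⟩ :=
    exists_local T M hc.le_M hc.ne_top hc.uniq hc.core S hSconj (fun A hA => hA.1.pgroup) (fun A hA => hA.2.1) hex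
  obtain ⟨hAel, -, hAoff, hAmin⟩ := hAS
  have hd := hc.offData T₀ hm hAel hAL hLM hAM hAT₀ hT₀M hT₀P hover hgen hAoff.le hAmin
  obtain ⟨x, hx⟩ := hd.exists_notMem
  obtain ⟨htop, hW, -, -⟩ := hd.surj_card hx
  have h2 := card_sup_mul_card_inf (fixS V (A.subgroupOf L)) (tr x (fixS V (A.subgroupOf L)))
  rw [htop, hd.inf_eq hx, card_tr, AddSubgroup.card_top] at h2
  have hfixA : fixS V (A.subgroupOf L) = fixS V A := by
    rw [← fixS_map (A.subgroupOf L), Subgroup.subgroupOf_map_subtype, inf_eq_left.2 hAL]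
  have hcardA : Nat.card ↥(A.subgroupOf L) = Nat.card ↥A := Nat.card_congr (Subgroup.subgroupOfEquivOfLe hAL).toEquiv
  rw [hfixA, hcardA] at hW
  rw [hfixA] at h2
  have hZpos : 0 < Nat.card ↥(fixS V (⊤ : Subgroup ↥L)) := Nat.card_pos
  change Nat.card V < Nat.card ↥A * Nat.card ↥(fixS V A) at hAoff
  nlinarith [Nat.mul_lt_mul_of_pos_right hAoff hZpos]

/-- An element fixing every fixed vector of `T` lies in `M`. -/
theorem mem_of_fix (hc : Ctx V p T M) {g : H} (hg : ∀ v ∈ fixS V (T : Subgroup H), g • v = v) : g ∈ M := by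
  let K : Subgroup H :=
    { carrier := {g | ∀ v ∈ fixS V (T : Subgroup H), g • v = v}
      one_mem' := fun v _ => one_smul H v
      mul_mem' := fun {a b} ha hb v hv => by rw [mul_smul, hb v hv, ha v hv]
      inv_mem' := fun {a} ha v hv => by rw [inv_smul_eq_iff, ha v hv] }
  refine hc.uniq K (fun t ht v hv => hv t ht) (fun h => hc.moved fun v hv x _ => ?_) hg
  exact (h.symm ▸ Subgroup.mem_top x : x ∈ K) v hv

end Ctx

namespace Root

variable {q : ℕ} {A : Subgroup H}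

theorem conj (h : Root V p q A) (g : H) : Root V p q (conjBy g A) :=
  ⟨h.el.conjBy g, by rw [card_conjBy]; exact h.card, by rw [fixS_conjBy, card_tr]; exact h.off⟩

theorem ne_bot (h : Root V p q A) (hl : Least (H := H) V p q) : A ≠ ⊥ := fun e => by
  have h1 := h.card
  rw [e, Subgroup.card_bot] at h1
  exact absurd hl.two_le (by omega)

theorem exists_ne_one (h : Root V p q A) (hl : Least (H := H) V p q) : ∃ a ∈ A, a ≠ 1 := by
  by_contra! hh
  exact h.ne_bot hl ((Subgroup.eq_bot_iff_forall A).2 hh)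

theorem card_V (h : Root V p q A) (hc : Ctx V p T M) : Nat.card V = q * Nat.card ↥(fixS V A) :=
  le_antisymm h.off (h.card ▸ hc.card_le h.el)

theorem strict (h : Root V p q A) (hl : Least (H := H) V p q) (hc : Ctx V p T M) (X : Subgroup H) (hX : X ≤ A)
    (hne : X ≠ ⊥) (hXA : X ≠ A) :
    Nat.card ↥X * Nat.card ↥(fixS V X) < Nat.card ↥A * Nat.card ↥(fixS V A) := by
  rw [h.card, ← h.card_V hc]
  by_contra hh
  refine hXA (Subgroup.eq_of_le_of_card_ge hX ?_)
  rw [h.card]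
  exact hl.min X (h.el.mono hX) hne (not_lt.1 hh)

/-- Some conjugate lies in an `M`-conjugate of `T` and has a block outside `M`. -/
theorem exists_conj_blk (h : Root V p q A) (hl : Least (H := H) V p q) (hc : Ctx V p T M) :
    ∃ (g : H) (L : Subgroup H) (m : H), m ∈ M ∧ conjBy g A ≤ conjBy m (T : Subgroup H) ∧
      NatBlk V p M (conjBy g A) L := by
  classical
  let S : Set (Subgroup H) := Set.range fun g => conjBy g A
  have hS : ∀ B ∈ S, ∀ g : H, conjBy g B ∈ S := by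
    rintro _ ⟨x, rfl⟩ g
    exact ⟨g * x, (conjBy_conjBy g x A).symm⟩
  obtain ⟨Q, hQ⟩ := h.el.pgroup.exists_le_sylow
  obtain ⟨g, rfl⟩ := MulAction.exists_smul_eq H T Q
  have hex : ∃ B ∈ S, B ≤ (T : Subgroup H) := by
    refine ⟨conjBy g⁻¹ A, ⟨g⁻¹, rfl⟩, ?_⟩
    rw [← conjBy_inv_conjBy g (T : Subgroup H)]
    exact conjBy_mono hQ
  obtain ⟨B, L, T₀, m, ⟨x, rfl⟩, hm, hBL, hBM, hLM, hBT₀, hT₀M, hT₀P, hover, hgen⟩ :=
    exists_local T M hc.le_M hc.ne_top hc.uniq hc.core S hS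
      (by rintro _ ⟨y, rfl⟩; exact (h.conj y).el.pgroup) (by rintro _ ⟨y, rfl⟩; exact (h.conj y).ne_bot hl) hex
  refine ⟨x, L, m, hm, fun a ha => ?_, hBL, hLM, hBM, hgen, T₀,
    hc.offData T₀ hm (h.conj x).el hBL hLM hBM hBT₀ hT₀M hT₀P hover hgen (by
      rw [(h.conj x).card]; exact (h.conj x).off) ((h.conj x).strict hl hc)⟩
  rw [mem_conjBy]
  exact hT₀P ⟨a, hBL ha⟩ (hBT₀ ha)

theorem quadratic (h : Root V p q A) (hl : Least (H := H) V p q) (hc : Ctx V p T M) {a : H} (ha : a ∈ A)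
    (u : V) : a • u - u ∈ fixS V A := by
  obtain ⟨g, L, m, -, -, hb⟩ := h.exists_conj_blk hl hc
  have h1 := hb.quadratic (conj_mem_conjBy ha) (g • u)
  rw [fixS_conjBy, mem_tr, ← mul_smul, show g * a * g⁻¹ * g = g * a by group, mul_smul, ← smul_sub,
    inv_smul_smul] at h1
  exact h1

/-- A non-trivial element fixes only the fixed space of the root group. -/
theorem sep (h : Root V p q A) (hl : Least (H := H) V p q) (hc : Ctx V p T M) {a : H} (ha : a ∈ A) (ha1 : a ≠ 1)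
    {v : V} (hv : a • v = v) : v ∈ fixS V A := by
  obtain ⟨g, L, m, -, -, hb⟩ := h.exists_conj_blk hl hc
  have h1 := hb.sep (a := g * a * g⁻¹) (conj_mem_conjBy ha) (fun e => ha1 (conj_eq_one_iff.1 e)) (v := g • v) (by
    rw [← mul_smul, show g * a * g⁻¹ * g = g * a by group, mul_smul, hv, sub_self]
    exact zero_mem _)
  rwa [fixS_conjBy, mem_tr, inv_smul_smul] at h1

theorem chain (h : Root V p q A) (hl : Least (H := H) V p q) (hc : Ctx V p T M) :
    A ≤ chainStab (fixS V A) :=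
  fun a ha => ⟨fun _ hw => hw a ha, h.quadratic hl hc ha⟩

end Root

end CfsgLib.CFun.MinParab.Rec
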