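import Cfsg.Agent.Lib.CFun.MinParab.Rec.Trans
import Mathlib.GroupTheory.GroupAction.Quotient

/-!
# The degree of the symmetric components

The classes of a transvection not generating inside `M` form one orbit of a Sylow subgroup, so the class generates
inside no conjugate of `M`. Over a Sylow subgroup containing a largest commuting set of the class, `M` contains
the members inside the parts of every invariant division of the points and, if there is no fixed point, the
double transpositions moving the pairs in `T`; so the degree is one more than a power of two.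
-/

set_option autoImplicit false
set_option linter.unusedSectionVars false
set_option linter.style.haveILetI false

open CfsgLib.Char.NatSL (fixS mem_fixS fixS_mono tr mem_tr card_tr smul_mem_tr)
open CfsgLib.Fusion (conjBy mem_conjBy conj_mem_conjBy conjBy_le_iff conjBy_eq_iff conjBy_conjBy conjBy_one
  conjBy_mono card_conjBy conjBy_inv_conjBy conjBy_conjBy_inv)

namespace CfsgLib.CFun.MinParab.Rec

variable {H : Type*} [Group H] [Finite H] {V : Type*} [AddCommGroup V] [Finite V] [DistribMulAction H V]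
  {p : ℕ} [hp : Fact p.Prime] {T : Sylow p H} {M : Subgroup H} {t₀ : H}

/-- The system over a conjugate of `T`. -/
theorem Sys.move {q : ℕ} (hs : Sys V p q T M) (h : H) : Sys V p q (h • T : Sylow p H) (conjBy h M) := by
  refine ⟨
    { vp := hs.ctx.vp
      faith := hs.ctx.faith
      le_M := conjBy_mono hs.ctx.le_M
      ne_top := fun e => hs.ctx.ne_top (by
        rw [← conjBy_inv_conjBy h M, e]
        exact Subgroup.map_top_of_surjective _ (MulAut.conj h⁻¹).surjective)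
      uniq := fun K hK hne => ?_
      core := hs.ctx.core
      moved := fun e => hs.ctx.moved fun v hv => ?_ }, hs.least⟩
  · have h1 : conjBy h⁻¹ K ≤ M := hs.ctx.uniq _ (by
      rw [← conjBy_inv_conjBy h (T : Subgroup H)]
      exact conjBy_mono hK) fun e => hne (by
      rw [← conjBy_conjBy_inv h K, e]
      exact Subgroup.map_top_of_surjective _ (MulAut.conj h).surjective)
    rw [← conjBy_conjBy_inv h K]
    exact conjBy_mono h1
  · have h1 : h • v ∈ fixS V (((h • T : Sylow p H)) : Subgroup H) := by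
      show h • v ∈ fixS V (conjBy h (T : Subgroup H))
      rw [fixS_conjBy]
      exact smul_mem_tr hv
    intro g _
    have h2 := e h1 (h * g * h⁻¹) (Subgroup.mem_top _)
    rw [mul_smul, inv_smul_smul, mul_smul] at h2
    exact smul_left_cancel h h2

theorem cls_conj_eq {g t u : H} (h : Cls V p t = Cls V p u) :
    Cls V p (g * t * g⁻¹) = Cls V p (g * u * g⁻¹) := by
  rw [← cls_conj_image, ← cls_conj_image, h]

theorem Sys.cls_fix (hs : Sys V p 2 T M) (ht₀ : t₀ ∈ Tv V p) {a : H} (ha : a ∈ Cls V p t₀) :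
    Cls V p (a * t₀ * a⁻¹) = Cls V p t₀ := by
  rw [inv_eq_of_mul_eq_one_right (Tv.sq (cls_tv ht₀ ha))]
  exact cls_eq ((hs.symSys_cls ht₀).conj a ha t₀ (mem_cls_self t₀))

/-- A member of a class fixes every other class pointwise. -/
theorem Sys.cls_comm (hs : Sys V p 2 T M) (ht₀ : t₀ ∈ Tv V p) {a u : H} (ha : a ∈ Cls V p t₀) (hu : u ∈ Tv V p)
    (hne : Cls V p u ≠ Cls V p t₀) {b : H} (hb : b ∈ Cls V p u) : a * b * a⁻¹ = b := by
  rw [comm_of_cls_ne ht₀ hu (Ne.symm hne) ha hb, mul_inv_cancel_right]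

/-- The classes conjugate to one not inside `M` are its translates by `T`. -/
theorem Sys.cls_orbit (hs : Sys V p 2 T M) (ht₀ : t₀ ∈ Tv V p) (hLM : ¬ Subgroup.closure (Cls V p t₀) ≤ M) (g : H) :
    ∃ τ ∈ (T : Subgroup H), Cls V p (g * t₀ * g⁻¹) = Cls V p (τ * t₀ * τ⁻¹) := by
  classical
  set S : Set (Set H) := (fun τ => Cls V p (τ * t₀ * τ⁻¹)) '' (T : Set H) with hS
  let img : H → Set H → Set H := fun g s => (fun u => g * u * g⁻¹) '' s
  have himg : ∀ a b s, img a (img b s) = img (a * b) s := fun a b s => by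
    simp only [img, Set.image_image]
    exact Set.image_congr fun x _ => by group
  have himg1 : ∀ s, img 1 s = s := fun s => by simp [img]
  let N : Subgroup H :=
    { carrier := {g | ∀ s ∈ S, img g s ∈ S}
      one_mem' := fun s hs => by rw [himg1]; exact hs
      mul_mem' := fun {a b} ha hb s hs => by rw [← himg]; exact ha _ (hb s hs)
      inv_mem' := fun {a} ha s hs' => by
        let f : S → S := fun s => ⟨img a s, ha _ s.2⟩
        have hf : Function.Injective f := fun s s' h => Subtype.ext (by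
          have h' : img a s = img a s' := congrArg Subtype.val h
          rw [← himg1 (s : Set H), ← himg1 (s' : Set H), ← inv_mul_cancel a, ← himg, h', himg])
        obtain ⟨s', hs''⟩ := (Finite.injective_iff_surjective.1 hf) ⟨s, hs'⟩
        have h' : img a s' = s := congrArg Subtype.val hs''
        rw [← h', himg, inv_mul_cancel, himg1]
        exact s'.2 }
  have hT : (T : Subgroup H) ≤ N := by
    rintro g hg _ ⟨τ, hτ, rfl⟩
    refine ⟨g * τ, mul_mem hg hτ, ?_⟩
    show _ = (fun u => g * u * g⁻¹) '' Cls V p (τ * t₀ * τ⁻¹)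
    rw [cls_conj_image]
    group
  have hL : Subgroup.closure (Cls V p t₀) ≤ N := by
    refine (Subgroup.closure_le _).2 ?_
    rintro a ha _ ⟨τ, hτ, rfl⟩
    by_cases h : Cls V p (τ * t₀ * τ⁻¹) = Cls V p t₀
    · refine ⟨τ, hτ, ?_⟩
      show Cls V p (τ * t₀ * τ⁻¹) = (fun u => a * u * a⁻¹) '' Cls V p (τ * t₀ * τ⁻¹)
      rw [cls_conj_image, cls_conj_eq h, hs.cls_fix ht₀ ha, h]
    · refine ⟨τ, hτ, ?_⟩
      show Cls V p (τ * t₀ * τ⁻¹) = (fun u => a * u * a⁻¹) '' Cls V p (τ * t₀ * τ⁻¹)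
      rw [cls_conj_image, hs.cls_comm ht₀ ha (Tv.conj ht₀ τ) h (mem_cls_self _)]
  have htop : N = ⊤ := by
    by_contra h
    exact hLM (hL.trans (hs.ctx.uniq N hT h))
  obtain ⟨τ, hτ, he⟩ := (htop.symm ▸ Subgroup.mem_top g : g ∈ N) (Cls V p t₀)
    ⟨1, one_mem _, by simp⟩
  refine ⟨τ, hτ, ?_⟩
  rw [← cls_conj_image g t₀]
  exact he.symm

/-- A class not inside `M` is inside no conjugate of `M`. -/
theorem Sys.cls_notM (hs : Sys V p 2 T M) (ht₀ : t₀ ∈ Tv V p) (hLM : ¬ Subgroup.closure (Cls V p t₀) ≤ M) (h : H) :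
    ¬ Subgroup.closure (Cls V p t₀) ≤ conjBy h M := by
  intro hle
  obtain ⟨τ, hτ, he⟩ := hs.cls_orbit ht₀ hLM h⁻¹
  have h1 := conjBy_mono (g := h⁻¹) hle
  rw [conjBy_inv_conjBy, conjBy_closure_cls, he, ← conjBy_closure_cls] at h1
  refine hLM ?_
  have h2 := conjBy_mono (g := τ⁻¹) h1
  rw [conjBy_inv_conjBy] at h2
  refine h2.trans (le_of_eq (conjBy_eq_iff.2 ?_))
  exact Subgroup.le_normalizer (M.inv_mem (hs.ctx.le_M hτ))

/-- The elements of `T` fixing the class. -/
def fixCls (V : Type*) [AddCommGroup V] [DistribMulAction H V] (p : ℕ) (T : Subgroup H) (t : H) : Set H :=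
  {g | g ∈ T ∧ Cls V p (g * t * g⁻¹) = Cls V p t}

/-- The indexing of a class by pairs. -/
structure Pairs (V : Type*) [AddCommGroup V] [DistribMulAction H V] (p : ℕ) (t : H) (k : ℕ)
    (e : Fin k → Fin k → H) : Prop where
  three : 3 ≤ k
  mem : ∀ a b, a ≠ b → e a b ∈ Cls V p t
  symm : ∀ a b, e a b = e b a
  surj : ∀ u ∈ Cls V p t, ∃ a b, a ≠ b ∧ e a b = u
  inj : ∀ a b c d, a ≠ b → c ≠ d → e a b = e c d → (a = c ∧ b = d) ∨ (a = d ∧ b = c)
  conj : ∀ a b c d, a ≠ b → c ≠ d → e a b * e c d * e a b = e (Equiv.swap a b c) (Equiv.swap a b d)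
  comm : ∀ a b c d, a ≠ b → c ≠ d → (e a b * e c d = e c d * e a b ↔
    ((a = c ∧ b = d) ∨ (a = d ∧ b = c)) ∨ (a ≠ c ∧ a ≠ d ∧ b ≠ c ∧ b ≠ d))

namespace Pairs

variable {k : ℕ} {e : Fin k → Fin k → H}

theorem conj' (hP : Pairs V p t₀ k e) (ht₀ : t₀ ∈ Tv V p) {a b c d : Fin k} (hab : a ≠ b) (hcd : c ≠ d) :
    e a b * e c d * (e a b)⁻¹ = e (Equiv.swap a b c) (Equiv.swap a b d) := by
  rw [inv_eq_of_mul_eq_one_right (Tv.sq (cls_tv ht₀ (hP.mem a b hab))), hP.conj a b c d hab hcd]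

theorem exists_other (hP : Pairs V p t₀ k e) (a b : Fin k) : ∃ c, c ≠ a ∧ c ≠ b := by
  classical
  obtain ⟨c, -, hc⟩ := Finset.exists_mem_notMem_of_card_lt_card (s := ({a, b} : Finset (Fin k)))
    (t := Finset.univ) (by
      rw [Finset.card_univ, Fintype.card_fin]
      exact lt_of_le_of_lt Finset.card_le_two (by have := hP.three; omega))
  simp only [Finset.mem_insert, Finset.mem_singleton, not_or] at hc
  exact ⟨c, hc⟩

theorem perm_unique (hP : Pairs V p t₀ k e) {σ σ' : Equiv.Perm (Fin k)}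
    (h : ∀ a b, a ≠ b → e (σ a) (σ b) = e (σ' a) (σ' b)) : σ = σ' := by
  refine Equiv.ext fun a => ?_
  by_contra hne
  obtain ⟨b, hb, hb'⟩ := hP.exists_other a (σ.symm (σ' a))
  rcases hP.inj _ _ _ _ (σ.injective.ne hb.symm) (σ'.injective.ne hb.symm) (h a b hb.symm) with h1 | h1
  · exact hne h1.1
  · exact hb' (by rw [Equiv.eq_symm_apply]; exact h1.2)

/-- An element fixing the class permutes the points. -/
theorem exists_perm (hP : Pairs V p t₀ k e) (hk : 5 ≤ k) {g : H}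
    (hg : Cls V p (g * t₀ * g⁻¹) = Cls V p t₀) :
    ∃ σ : Equiv.Perm (Fin k), ∀ a b, a ≠ b → g * e a b * g⁻¹ = e (σ a) (σ b) := by
  classical
  have himg : ∀ a b, a ≠ b → ∃ c d, c ≠ d ∧ e c d = g * e a b * g⁻¹ := fun a b h =>
    hP.surj _ (hg ▸ cls_conj g t₀ (hP.mem a b h))
  have hinj : ∀ a b a' b', a ≠ b → a' ≠ b' → g * e a b * g⁻¹ = g * e a' b' * g⁻¹ →
      (a = a' ∧ b = b') ∨ (a = b' ∧ b = a') := fun a b a' b' h h' he =>
    hP.inj a b a' b' h h' (mul_left_cancel (mul_right_cancel he))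
  let In : Fin k → H → Prop := fun P u => ∃ Q, P ≠ Q ∧ e P Q = u
  have hnc : ∀ a b c, a ≠ b → a ≠ c → b ≠ c →
      ¬ (g * e a b * g⁻¹) * (g * e a c * g⁻¹) = (g * e a c * g⁻¹) * (g * e a b * g⁻¹) := by
    intro a b c hab hac hbc h
    have h1 : e a b * e a c = e a c * e a b := by
      simpa [mul_assoc] using congrArg (fun z => g⁻¹ * z * g) h
    rcases (hP.comm a b a c hab hac).1 h1 with (⟨-, h2⟩ | ⟨h2, -⟩) | ⟨h2, -⟩
    · exact hbc h2
    · exact hac h2
    · exact h2 rfl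
  have hcol : ∀ a, ∃ P, ∀ b, a ≠ b → In P (g * e a b * g⁻¹) := by
    intro a
    obtain ⟨b1, -, hb1⟩ := Finset.exists_mem_notMem_of_card_lt_card (s := ({a} : Finset (Fin k))) (t := Finset.univ)
      (by rw [Finset.card_univ, Fintype.card_fin, Finset.card_singleton]; omega)
    obtain ⟨b2, hb2a, hb2⟩ := hP.exists_other a b1
    have hab1 : a ≠ b1 := fun h => hb1 (Finset.mem_singleton.2 h.symm)
    obtain ⟨x, y, hxy, hxye⟩ := himg a b1 hab1
    obtain ⟨u, w, huw, huwe⟩ := himg a b2 hb2a.symm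
    have hsh : ¬ (e x y * e u w = e u w * e x y) := by rw [hxye, huwe]; exact hnc a b1 b2 hab1 hb2a.symm hb2.symm
    rw [hP.comm x y u w hxy huw, not_or] at hsh
    obtain ⟨P, Q, R, hPQ, hPR, hQR, e1, e2⟩ : ∃ P Q R, P ≠ Q ∧ P ≠ R ∧ Q ≠ R ∧ e P Q = g * e a b1 * g⁻¹ ∧
        e P R = g * e a b2 * g⁻¹ := by
      have hne : ¬ ((x = u ∧ y = w) ∨ (x = w ∧ y = u)) := hsh.1
      by_cases h1 : x = u
      · subst h1; exact ⟨x, y, w, hxy, huw, fun h => hne (Or.inl ⟨rfl, h⟩), hxye, huwe⟩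
      by_cases h2 : x = w
      · subst h2; exact ⟨x, y, u, hxy, huw.symm, fun h => hne (Or.inr ⟨rfl, h⟩), hxye, by rw [hP.symm, huwe]⟩
      by_cases h3 : y = u
      · subst h3; exact ⟨y, x, w, hxy.symm, huw, h2, by rw [hP.symm, hxye], huwe⟩
      by_cases h4 : y = w
      · subst h4; exact ⟨y, x, u, hxy.symm, huw.symm, h1, by rw [hP.symm, hxye], by rw [hP.symm, huwe]⟩
      exact absurd ⟨h1, h2, h3, h4⟩ hsh.2
    have key : ∀ b, a ≠ b → b ≠ b1 → b ≠ b2 → In P (g * e a b * g⁻¹) ∨ g * e a b * g⁻¹ = e Q R := by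
      intro b hab hbb1 hbb2
      obtain ⟨c, d, hcd, hcde⟩ := himg a b hab
      have n1 : ¬ (e c d * e P Q = e P Q * e c d) := by rw [hcde, e1]; exact hnc a b b1 hab hab1 hbb1
      have n2 : ¬ (e c d * e P R = e P R * e c d) := by rw [hcde, e2]; exact hnc a b b2 hab hb2a.symm hbb2
      rw [hP.comm c d P Q hcd hPQ, not_or] at n1
      rw [hP.comm c d P R hcd hPR, not_or] at n2
      by_cases hc : c = P
      · exact Or.inl ⟨d, hc ▸ hcd, hc ▸ hcde⟩
      by_cases hd : d = P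
      · exact Or.inl ⟨c, hd ▸ hcd.symm, by rw [hP.symm, ← hd]; exact hcde⟩
      right
      have q1 : c = Q ∨ d = Q := by
        by_contra! h
        exact n1.2 ⟨hc, h.1, hd, h.2⟩
      have r1 : c = R ∨ d = R := by
        by_contra! h
        exact n2.2 ⟨hc, h.1, hd, h.2⟩
      rcases q1 with q1 | q1 <;> rcases r1 with r1 | r1
      · exact absurd (q1.symm.trans r1) hQR
      · rw [← hcde, q1, r1]
      · rw [← hcde, q1, r1, hP.symm]
      · exact absurd (q1.symm.trans r1) hQR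
    refine ⟨P, fun b hab => ?_⟩
    by_cases h1 : b = b1
    · exact ⟨Q, hPQ, by rw [h1, e1]⟩
    by_cases h2 : b = b2
    · exact ⟨R, hPR, by rw [h2, e2]⟩
    refine (key b hab h1 h2).resolve_right fun hQRe => ?_
    obtain ⟨b', -, hb'⟩ := Finset.exists_mem_notMem_of_card_lt_card (s := ({a, b1, b2, b} : Finset (Fin k)))
      (t := Finset.univ) (by
        rw [Finset.card_univ, Fintype.card_fin]
        refine lt_of_le_of_lt ((Finset.card_insert_le _ _).trans (Nat.succ_le_succ ((Finset.card_insert_le _ _).trans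
          (Nat.succ_le_succ Finset.card_le_two)))) ?_
        omega)
    simp only [Finset.mem_insert, Finset.mem_singleton, not_or] at hb'
    rcases key b' (Ne.symm hb'.1) hb'.2.1 hb'.2.2.1 with ⟨S, hPS, hS⟩ | h
    · have hSQ : S ≠ Q := fun h => by
        rcases hinj a b' a b1 (Ne.symm hb'.1) hab1 (by rw [← hS, ← e1, h]) with ⟨-, h'⟩ | ⟨h', -⟩
        · exact hb'.2.1 h'
        · exact hab1 h'
      have hSR : S ≠ R := fun h => by
        rcases hinj a b' a b2 (Ne.symm hb'.1) hb2a.symm (by rw [← hS, ← e2, h]) with ⟨-, h'⟩ | ⟨h', -⟩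
        · exact hb'.2.2.1 h'
        · exact hb2a h'.symm
      refine hnc a b' b (Ne.symm hb'.1) hab hb'.2.2.2 ?_
      rw [← hS, hQRe]
      exact (hP.comm P S Q R hPS hQR).2 (Or.inr ⟨hPQ, hPR, hSQ, hSR⟩)
    · rcases hinj a b' a b (Ne.symm hb'.1) hab (by rw [h, hQRe]) with ⟨-, h'⟩ | ⟨h', -⟩
      · exact hb'.2.2.2 h'
      · exact hab h'
  choose σ hσ using hcol
  have hσi : Function.Injective σ := by
    intro a b h
    by_contra hab
    obtain ⟨c, hca, hcb⟩ := hP.exists_other a b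
    obtain ⟨d, -, hd⟩ := Finset.exists_mem_notMem_of_card_lt_card (s := ({a, b, c} : Finset (Fin k)))
      (t := Finset.univ) (by
        rw [Finset.card_univ, Fintype.card_fin]
        exact lt_of_le_of_lt ((Finset.card_insert_le _ _).trans (Nat.succ_le_succ Finset.card_le_two)) (by omega))
    simp only [Finset.mem_insert, Finset.mem_singleton, not_or] at hd
    obtain ⟨Q, hQ, hQe⟩ := hσ a c hca.symm
    obtain ⟨R, hR, hRe⟩ := hσ b d (Ne.symm hd.2.1)
    rw [← h] at hR hRe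
    have hc : e a c * e b d = e b d * e a c :=
      (hP.comm a c b d hca.symm (Ne.symm hd.2.1)).2 (Or.inr ⟨hab, Ne.symm hd.1, hcb, Ne.symm hd.2.2⟩)
    have hc' : e (σ a) Q * e (σ a) R = e (σ a) R * e (σ a) Q := by
      rw [hQe, hRe]
      simpa [mul_assoc] using congrArg (fun z => g * z * g⁻¹) hc
    rcases (hP.comm _ _ _ _ hQ hR).1 hc' with (⟨-, h'⟩ | ⟨h', -⟩) | ⟨h', -⟩
    · rcases hinj a c b d hca.symm (Ne.symm hd.2.1) (by rw [← hQe, ← hRe, h']) with ⟨h'', -⟩ | ⟨h'', -⟩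
      · exact hab h''
      · exact hd.1 h''.symm
    · exact hR h'
    · exact h' rfl
  refine ⟨Equiv.ofBijective σ (Finite.injective_iff_bijective.1 hσi), fun a b hab => ?_⟩
  show g * e a b * g⁻¹ = e (σ a) (σ b)
  obtain ⟨Q, hQ, hQe⟩ := hσ a b hab
  obtain ⟨R, hR, hRe⟩ := hσ b a hab.symm
  rw [hP.symm b a] at hRe
  rcases hP.inj _ _ _ _ hQ hR (hQe.trans hRe.symm) with ⟨h1, -⟩ | ⟨-, h2⟩
  · exact absurd (hσi h1) hab
  · rw [← hQe, h2]

end Pairs

/-- Both points on the same side. -/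
def Same {k : ℕ} (O : Set (Fin k)) (a b : Fin k) : Prop := a ∈ O ↔ b ∈ O

theorem exists_card_le_two_split {k : ℕ} (hk : 5 ≤ k) (O : Set (Fin k)) :
    ∃ a x y : Fin k, a ≠ x ∧ a ≠ y ∧ x ≠ y ∧ Same O a x ∧ Same O a y := by
  classical
  have h := Finset.card_filter_add_card_filter_not (s := (Finset.univ : Finset (Fin k))) (fun a => a ∈ O)
  rw [Finset.card_univ, Fintype.card_fin] at h
  by_cases h1 : 2 < (Finset.univ.filter fun a => a ∈ O).card
  · obtain ⟨a, b, c, ha, hb, hc, hab, hac, hbc⟩ := Finset.two_lt_card_iff.1 h1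
    simp only [Finset.mem_filter] at ha hb hc
    exact ⟨a, b, c, hab, hac, hbc, iff_of_true ha.2 hb.2, iff_of_true ha.2 hc.2⟩
  · obtain ⟨a, b, c, ha, hb, hc, hab, hac, hbc⟩ := Finset.two_lt_card_iff.1
      (show 2 < (Finset.univ.filter fun a => ¬ a ∈ O).card by omega)
    simp only [Finset.mem_filter] at ha hb hc
    exact ⟨a, b, c, hab, hac, hbc, iff_of_false ha.2 hb.2, iff_of_false ha.2 hc.2⟩

variable {k : ℕ} {e : Fin k → Fin k → H}

/-- `M` contains the members inside the two sides of an invariant division. -/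
theorem Sys.within_mem (hs : Sys V p 2 T M) (ht₀ : t₀ ∈ Tv V p) (hP : Pairs V p t₀ k e) (O : Set (Fin k))
    (hO : ∃ a c, ¬ Same O a c)
    (hinv : ∀ g ∈ fixCls V p (T : Subgroup H) t₀, ∀ σ : Equiv.Perm (Fin k),
      (∀ a b, a ≠ b → g * e a b * g⁻¹ = e (σ a) (σ b)) → ∀ a b, Same O (σ a) (σ b) ↔ Same O a b)
    (hperm : ∀ g ∈ fixCls V p (T : Subgroup H) t₀,
      ∃ σ : Equiv.Perm (Fin k), ∀ a b, a ≠ b → g * e a b * g⁻¹ = e (σ a) (σ b))
    {a b : Fin k} (hab : a ≠ b) (hS : Same O a b) : e a b ∈ M := by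
  classical
  set X : Set H := {u | ∃ a b, a ≠ b ∧ Same O a b ∧ e a b = u} with hX
  set Y : Set H := {u | ∃ τ ∈ (T : Subgroup H), ∃ w ∈ X, τ * w * τ⁻¹ = u} with hY
  have hYc : ∀ u ∈ Y, u ∈ Cls V p t₀ → u ∈ X := by
    rintro _ ⟨τ, hτ, w, ⟨a, b, hab, hS, rfl⟩, rfl⟩ hu
    have h1 : Cls V p (τ * t₀ * τ⁻¹) = Cls V p t₀ := by
      rw [← cls_eq (cls_conj τ t₀ (hP.mem a b hab)), cls_eq hu]
    obtain ⟨σ, hσ⟩ := hperm τ ⟨hτ, h1⟩
    exact ⟨σ a, σ b, σ.injective.ne hab, (hinv τ ⟨hτ, h1⟩ σ hσ a b).2 hS, (hσ a b hab).symm⟩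
  have hXY : X ⊆ Y := fun u hu => ⟨1, one_mem _, u, hu, by simp⟩
  let N : Subgroup H :=
    { carrier := {g | ∀ u ∈ Y, g * u * g⁻¹ ∈ Y}
      one_mem' := fun u hu => by simpa using hu
      mul_mem' := fun {a b} ha hb u hu => by simpa [mul_assoc] using ha _ (hb u hu)
      inv_mem' := fun {a} ha u hu => by
        let f : Y → Y := fun w => ⟨a * w * a⁻¹, ha _ w.2⟩
        have hf : Function.Injective f := fun w w' h =>
          Subtype.ext (mul_left_cancel (mul_right_cancel (congrArg Subtype.val h)))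
        obtain ⟨w, hw⟩ := (Finite.injective_iff_surjective.1 hf) ⟨u, hu⟩
        have h' : a * (w : H) * a⁻¹ = u := congrArg Subtype.val hw
        rw [← h']
        simpa [mul_assoc] using w.2 }
  have hTN : (T : Subgroup H) ≤ N := by
    rintro g hg _ ⟨τ, hτ, w, hw, rfl⟩
    exact ⟨g * τ, mul_mem hg hτ, w, hw, by group⟩
  have heN : ∀ a b, a ≠ b → Same O a b → e a b ∈ N := by
    intro a b hab hS u hu
    obtain ⟨τ, hτ, w, hw, rfl⟩ := hu
    by_cases h : τ * w * τ⁻¹ ∈ Cls V p t₀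
    · obtain ⟨c, d, hcd, hcdS, he⟩ := hYc _ ⟨τ, hτ, w, hw, rfl⟩ h
      refine hXY ⟨_, _, (Equiv.swap a b).injective.ne hcd, ?_, (by rw [← he, hP.conj' ht₀ hab hcd])⟩
      have hsw : ∀ z, Same O (Equiv.swap a b z) z := fun z => by
        rcases eq_or_ne z a with rfl | hza
        · rw [Equiv.swap_apply_left]; exact hS.symm
        rcases eq_or_ne z b with rfl | hzb
        · rw [Equiv.swap_apply_right]; exact hS
        rw [Equiv.swap_apply_of_ne_of_ne hza hzb]
        exact Iff.rfl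
      exact (hsw c).trans (hcdS.trans (hsw d).symm)
    · obtain ⟨c, d, hcd, hcdS, rfl⟩ := hw
      have htv : τ * e c d * τ⁻¹ ∈ Tv V p := Tv.conj (cls_tv ht₀ (hP.mem c d hcd)) τ
      rw [hs.cls_comm ht₀ (hP.mem a b hab) htv
        (fun hh => h (hh ▸ mem_cls_self (τ * e c d * τ⁻¹))) (mem_cls_self _)]
      exact ⟨τ, hτ, _, ⟨c, d, hcd, hcdS, rfl⟩, rfl⟩
  refine hs.ctx.uniq N hTN (fun htop => ?_) (heN a b hab hS)
  obtain ⟨a, c, hac⟩ := hO
  have hne : a ≠ c := fun h => hac (h ▸ Iff.rfl)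
  obtain ⟨x, hxa, hxc⟩ := hP.exists_other a c
  -- a member inside a side moved across by a crossing one
  obtain ⟨a', c', hne', hcr, x', hx'a, hx'c, hx'S⟩ : ∃ a' c', a' ≠ c' ∧ ¬ Same O a' c' ∧ ∃ x', x' ≠ a' ∧ x' ≠ c' ∧
      Same O a' x' := by
    by_cases h : Same O a x
    · exact ⟨a, c, hne, hac, x, hxa, hxc, h⟩
    · refine ⟨c, a, hne.symm, fun hh => hac hh.symm, x, hxc, hxa, ?_⟩
      unfold Same at h hac ⊢
      tauto
  have hg : e a' c' ∈ N := htop.symm ▸ Subgroup.mem_top _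
  have h1 := hg _ (hXY ⟨a', x', hx'a.symm, hx'S, rfl⟩)
  rw [hP.conj' ht₀ hne' hx'a.symm, Equiv.swap_apply_left, Equiv.swap_apply_of_ne_of_ne hx'a hx'c] at h1
  obtain ⟨u, w, huw, huwS, he⟩ := hYc _ h1 (hP.mem _ _ hx'c.symm)
  rcases hP.inj _ _ _ _ huw hx'c.symm he with ⟨rfl, rfl⟩ | ⟨rfl, rfl⟩
  · exact hcr (hx'S.trans huwS.symm)
  · exact hcr (hx'S.trans huwS)

theorem Sys.le_M_of_cross (ht₀ : t₀ ∈ Tv V p) (hP : Pairs V p t₀ k e) (O : Set (Fin k))
    (hw : ∀ a b, a ≠ b → Same O a b → e a b ∈ M) {a c : Fin k} (hac : ¬ Same O a c) (hM : e a c ∈ M) :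
    Subgroup.closure (Cls V p t₀) ≤ M := by
  classical
  have hne : a ≠ c := fun h => hac (h ▸ Iff.rfl)
  have h1 : ∀ a c a', ¬ Same O a c → e a c ∈ M → Same O a a' → e a' c ∈ M := by
    intro a c a' hac hM hS
    by_cases h : a = a'
    · exact h ▸ hM
    have hne : a ≠ c := fun h => hac (h ▸ Iff.rfl)
    have hne' : a' ≠ c := fun h' => hac (hS.trans (h' ▸ Iff.rfl))
    have h2 := M.mul_mem (M.mul_mem (hw a a' h hS) hM) (M.inv_mem (hw a a' h hS))
    rwa [hP.conj' ht₀ h hne, Equiv.swap_apply_left, Equiv.swap_apply_of_ne_of_ne hne.symm hne'.symm] at h2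
  refine (Subgroup.closure_le _).2 fun u hu => ?_
  obtain ⟨x, y, hxy, rfl⟩ := hP.surj u hu
  by_cases h : Same O x y
  · exact hw x y hxy h
  have key : ∀ x y, Same O a x → ¬ Same O x y → e x y ∈ M := by
    intro x y hx hxy
    have h2 := h1 a c x hac hM hx
    rw [hP.symm] at h2 ⊢
    refine h1 c x y (fun hh => hac (hx.trans hh.symm)) h2 ?_
    unfold Same at hx hxy hac ⊢
    tauto
  by_cases hx : Same O a x
  · exact key x y hx h
  · show e x y ∈ M
    rw [hP.symm]
    refine key y x ?_ fun hh => h hh.symm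
    unfold Same at hx h ⊢
    tauto

/-- The degree is not four. -/
theorem Sys.ne_four (hs : Sys V p 2 T M) (ht₀ : t₀ ∈ Tv V p) (hP : Pairs V p t₀ k e) : k ≠ 4 := by
  classical
  rintro rfl
  have hp2 := hs.p_eq_two ht₀
  set x : Fin 4 → H := fun i =>
    if i = 1 then e 0 1 * e 2 3 else if i = 2 then e 0 2 * e 1 3 else e 0 3 * e 1 2 with hx
  set Q := Subgroup.closure (Set.range x) with hQ
  have hmemQ : ∀ a b c d : Fin 4, a ≠ b → c ≠ d → a ≠ c → a ≠ d → b ≠ c → b ≠ d → e a b * e c d ∈ Q := by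
    intro a b c d hab hcd hac had hbc hbd
    have hq1 : e 0 1 * e 2 3 ∈ Q := Subgroup.subset_closure ⟨1, by simp [hx]⟩
    have hq2 : e 0 2 * e 1 3 ∈ Q := Subgroup.subset_closure ⟨2, by simp [hx]⟩
    have hq3 : e 0 3 * e 1 2 ∈ Q := Subgroup.subset_closure ⟨3, by simp [hx]⟩
    have c1 : e 2 3 * e 0 1 = e 0 1 * e 2 3 := (hP.comm 2 3 0 1 (by decide) (by decide)).2 (Or.inr (by decide))
    have c2 : e 1 3 * e 0 2 = e 0 2 * e 1 3 := (hP.comm 1 3 0 2 (by decide) (by decide)).2 (Or.inr (by decide))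
    have c3 : e 1 2 * e 0 3 = e 0 3 * e 1 2 := (hP.comm 1 2 0 3 (by decide) (by decide)).2 (Or.inr (by decide))
    have s : ∀ i j, e i j = e j i := hP.symm
    fin_cases a <;> fin_cases b <;> (try exact absurd rfl hab) <;> fin_cases c <;>
      (try exact absurd rfl hac) <;> (try exact absurd rfl hbc) <;> fin_cases d <;>
      (try exact absurd rfl hcd) <;> (try exact absurd rfl had) <;> (try exact absurd rfl hbd) <;>
      simp only [s 1 0, s 2 0, s 3 0, s 2 1, s 3 1, s 3 2, c1, c2, c3, Fin.mk_zero, Fin.mk_one,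
        Fin.reduceFinMk] at * <;> assumption
  have hform : ∀ i, ∃ a b c d : Fin 4, a ≠ b ∧ c ≠ d ∧ a ≠ c ∧ a ≠ d ∧ b ≠ c ∧ b ≠ d ∧ x i = e a b * e c d := by
    intro i
    simp only [hx]
    split_ifs
    · exact ⟨0, 1, 2, 3, by decide, by decide, by decide, by decide, by decide, by decide, rfl⟩
    · exact ⟨0, 2, 1, 3, by decide, by decide, by decide, by decide, by decide, by decide, rfl⟩
    · exact ⟨0, 3, 1, 2, by decide, by decide, by decide, by decide, by decide, by decide, rfl⟩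
  have hcn : ∀ u ∈ Cls V p t₀, ∀ i, u * x i * u⁻¹ ∈ Q := by
    intro u hu i
    obtain ⟨r, r', hr, rfl⟩ := hP.surj u hu
    obtain ⟨a, b, c, d, hab, hcd, hac, had, hbc, hbd, he⟩ := hform i
    rw [he, show e r r' * (e a b * e c d) * (e r r')⁻¹ =
      (e r r' * e a b * (e r r')⁻¹) * (e r r' * e c d * (e r r')⁻¹) by group,
      hP.conj' ht₀ hr hab, hP.conj' ht₀ hr hcd]
    have hi := (Equiv.swap r r').injective
    exact hmemQ _ _ _ _ (hi.ne hab) (hi.ne hcd) (hi.ne hac) (hi.ne had) (hi.ne hbc) (hi.ne hbd)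
  have hQn : ∀ u ∈ Subgroup.closure (Cls V p t₀), u ∈ Subgroup.normalizer (Q : Set H) := by
    refine (Subgroup.closure_le _).2 fun u hu => conjBy_eq_iff.1 (Subgroup.eq_of_le_of_card_ge ?_ (card_conjBy _ _).ge)
    rw [hQ, CfsgLib.Fusion.conjBy, MonoidHom.map_closure, Subgroup.closure_le]
    rintro _ ⟨_, ⟨i, rfl⟩, rfl⟩
    exact hcn u hu i
  have hxinv : ∀ i, x i * x i = 1 := by
    intro i
    obtain ⟨a, b, c, d, hab, hcd, hac, had, hbc, hbd, he⟩ := hform i
    have hc := (hP.comm c d a b hcd hab).2 (Or.inr ⟨hac.symm, hbc.symm, had.symm, hbd.symm⟩)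
    rw [he, mul_assoc, ← mul_assoc (e c d), hc, mul_assoc (e a b), Tv.sq (cls_tv ht₀ (hP.mem c d hcd)), mul_one,
      Tv.sq (cls_tv ht₀ (hP.mem a b hab))]
  have hxcomm : ∀ i j, x i * x j = x j * x i := by
    intro i j
    obtain ⟨a, b, c, d, hab, hcd, hac, had, hbc, hbd, he⟩ := hform i
    obtain ⟨a', b', c', d', hab', hcd', hac', had', hbc', hbd', he'⟩ := hform j
    by_cases hij : x i = x j
    · rw [hij]
    -- conjugation by a double transposition fixes each double transposition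
    have key : e a b * e c d * (e a' b' * e c' d') * (e a b * e c d)⁻¹ =
        e (Equiv.swap a b (Equiv.swap c d a')) (Equiv.swap a b (Equiv.swap c d b')) *
        e (Equiv.swap a b (Equiv.swap c d c')) (Equiv.swap a b (Equiv.swap c d d')) := by
      rw [← hP.conj' ht₀ hab ((Equiv.swap c d).injective.ne hab'),
        ← hP.conj' ht₀ hab ((Equiv.swap c d).injective.ne hcd'), ← hP.conj' ht₀ hcd hab',
        ← hP.conj' ht₀ hcd hcd']
      group
    have hfix : e a b * e c d * (e a' b' * e c' d') * (e a b * e c d)⁻¹ = e a' b' * e c' d' := by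
      rw [key]
      have s : ∀ i j, e i j = e j i := hP.symm
      have hdec : ∀ a b c d a' b' c' d' : Fin 4, a ≠ b → c ≠ d → a ≠ c → a ≠ d → b ≠ c → b ≠ d → a' ≠ b' →
          c' ≠ d' → a' ≠ c' → a' ≠ d' → b' ≠ c' → b' ≠ d' →
          let f := fun z => Equiv.swap a b (Equiv.swap c d z)
          ((f a' = a' ∧ f b' = b') ∨ (f a' = b' ∧ f b' = a')) ∧ ((f c' = c' ∧ f d' = d') ∨ (f c' = d' ∧ f d' = c')) ∨
          ((f a' = c' ∧ f b' = d') ∨ (f a' = d' ∧ f b' = c')) ∧ ((f c' = a' ∧ f d' = b') ∨ (f c' = b' ∧ f d' = a')) := by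
        decide +kernel
      have hcc : e c' d' * e a' b' = e a' b' * e c' d' :=
        (hP.comm c' d' a' b' hcd' hab').2 (Or.inr ⟨hac'.symm, hbc'.symm, had'.symm, hbd'.symm⟩)
      have hd := hdec a b c d a' b' c' d' hab hcd hac had hbc hbd hab' hcd' hac' had' hbc' hbd'
      simp only at hd
      rcases hd with ⟨h1 | h1, h2 | h2⟩ | ⟨h1 | h1, h2 | h2⟩ <;> rw [h1.1, h1.2, h2.1, h2.2] <;>
        first
          | exact hcc
          | (rw [s b' a']; done)
          | (rw [s d' c']; done)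
          | (rw [s b' a', s d' c']; done)
          | (rw [s b' a']; exact hcc)
          | (rw [s d' c']; exact hcc)
          | (rw [s b' a', s d' c']; exact hcc)
    rw [mul_inv_eq_iff_eq_mul] at hfix
    rw [he, he']
    exact hfix
  have hQel : El p Q := by
    have hc1 : Q ≤ Subgroup.centralizer (Q : Set H) := by
      rw [hQ, Subgroup.centralizer_closure, Subgroup.closure_le]
      rintro _ ⟨i, rfl⟩
      exact Subgroup.mem_centralizer_iff.2 fun _ ⟨j, hj⟩ => hj ▸ hxcomm j i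
    refine ⟨fun a ha b hb => Subgroup.mem_centralizer_iff.1 (hc1 hb) a ha, fun a ha => ?_⟩
    rw [hp2, pow_two]
    have hca : ∀ {a b : H}, a ∈ Q → b ∈ Q → a * b = b * a := fun ha hb => Subgroup.mem_centralizer_iff.1 (hc1 hb) _ ha
    induction ha using Subgroup.closure_induction with
    | mem z hz => obtain ⟨i, rfl⟩ := hz; exact hxinv i
    | one => exact one_mul 1
    | mul y z hy hz ihy ihz =>
      rw [mul_assoc, ← mul_assoc z, hca hz hy, mul_assoc y z z, ihz, mul_one, ihy]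
    | inv y _ ih => rw [← mul_inv_rev, ih, inv_one]
  have hQL : Q ≤ Subgroup.closure (Cls V p t₀) := (Subgroup.closure_le _).2 (by
    rintro _ ⟨i, rfl⟩
    obtain ⟨a, b, c, d, hab, hcd, -, -, -, -, he⟩ := hform i
    rw [he]
    exact mul_mem (Subgroup.subset_closure (hP.mem a b hab)) (Subgroup.subset_closure (hP.mem c d hcd)))
  -- the conjugates of `Q` generate a normal two-subgroup
  have hcomconj : ∀ g h : H, Com (conjBy g Q) (conjBy h Q) ∨
      Cls V p (g * t₀ * g⁻¹) = Cls V p (h * t₀ * h⁻¹) := by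
    intro g h
    by_cases he : Cls V p (g * t₀ * g⁻¹) = Cls V p (h * t₀ * h⁻¹)
    · exact Or.inr he
    · exact Or.inl ((hs.com_cls (Tv.conj ht₀ g) (Tv.conj ht₀ h) he).1.mono
        (by rw [← conjBy_closure_cls]; exact conjBy_mono hQL) (by rw [← conjBy_closure_cls]; exact conjBy_mono hQL))
  let R : Subgroup H := ⨆ g : H, conjBy g Q
  have hnorm : ∀ g h : H, conjBy h Q ≤ Subgroup.normalizer (conjBy g Q : Set H) := by
    intro g h
    rcases hcomconj h g with hh | hh
    · exact hh.le_normalizer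
    · refine le_trans (conjBy_mono hQL) ?_
      rw [conjBy_closure_cls, hh, ← conjBy_closure_cls, ← CfsgLib.Fusion.conjBy_normalizer]
      exact conjBy_mono hQn
  have hRp : IsPGroup p R := by
    haveI : Fintype H := Fintype.ofFinite H
    have key : ∀ s : Finset H, IsPGroup p (⨆ g ∈ s, conjBy g Q : Subgroup H) := by
      intro s
      induction s using Finset.induction with
      | empty => exact IsPGroup.of_bot.to_le (iSup_le fun g => iSup_le fun hg => absurd hg (Finset.notMem_empty g))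
      | insert g s _ ih =>
        rw [Finset.iSup_insert]
        exact IsPGroup.to_sup_of_normal_left' (hQel.conjBy g).pgroup ih
          (iSup_le fun h => iSup_le fun _ => hnorm g h)
    exact (key Finset.univ).to_le (iSup_le fun g => le_iSup_of_le g (le_iSup_of_le (Finset.mem_univ g) le_rfl))
  have hRn : R.Normal := by
    refine ⟨fun z hz g => ?_⟩
    have h1 : conjBy g R ≤ R := by
      show conjBy g (⨆ h : H, conjBy h Q) ≤ R
      rw [conjBy_iSup]
      exact iSup_le fun h => (conjBy_conjBy g h Q).le.trans (le_iSup (fun h => conjBy h Q) _)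
    exact h1 (conj_mem_conjBy hz)
  have h1 : x 1 ∈ (⊥ : Subgroup H) := by
    rw [← hs.ctx.core R hRn hRp]
    exact le_iSup (fun h => conjBy h Q) 1 (by rw [conjBy_one]; exact Subgroup.subset_closure ⟨1, rfl⟩)
  rw [Subgroup.mem_bot] at h1
  have h2 : e 0 1 = e 2 3 := by
    rw [show x 1 = e 0 1 * e 2 3 from rfl] at h1
    rw [eq_inv_of_mul_eq_one_left h1, inv_eq_of_mul_eq_one_right (Tv.sq (cls_tv ht₀ (hP.mem 2 3 (by decide))))]
  exact absurd (hP.inj 0 1 2 3 (by decide) (by decide) h2) (by decide)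

/-- A stabiliser of the roots in `T` lies in `M`. -/
theorem Sys.mem_M_of_stab (hs : Sys V p 2 T M) (ht₀ : t₀ ∈ Tv V p) {g : H}
    (hg : ∀ u ∈ Tv V p, u ∈ (T : Subgroup H) → g * u * g⁻¹ ∈ (T : Subgroup H)) : g ∈ M := by
  classical
  let D : Set H := {u | u ∈ Tv V p ∧ u ∈ (T : Subgroup H)}
  let N : Subgroup H :=
    { carrier := {g | ∀ u ∈ D, g * u * g⁻¹ ∈ D}
      one_mem' := fun u hu => by simpa using hu
      mul_mem' := fun {a b} ha hb u hu => by simpa [mul_assoc] using ha _ (hb u hu)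
      inv_mem' := fun {a} ha u hu => by
        let f : D → D := fun w => ⟨a * w * a⁻¹, ha _ w.2⟩
        have hf : Function.Injective f := fun w w' h =>
          Subtype.ext (mul_left_cancel (mul_right_cancel (congrArg Subtype.val h)))
        obtain ⟨w, hw⟩ := (Finite.injective_iff_surjective.1 hf) ⟨u, hu⟩
        have h' : a * (w : H) * a⁻¹ = u := congrArg Subtype.val hw
        rw [← h']
        simpa [mul_assoc] using w.2 }
  refine hs.ctx.uniq N (fun t ht u hu => ⟨Tv.conj hu.1 t, mul_mem (mul_mem ht hu.2) (inv_mem ht)⟩) (fun htop => ?_)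
    (fun u hu => ⟨Tv.conj hu.1 g, hg u hu.1 hu.2⟩)
  obtain ⟨h, hh⟩ : ∃ h : H, h * t₀ * h⁻¹ ∈ (T : Subgroup H) := by
    obtain ⟨Q, hQ⟩ := (show Root V p 2 (Subgroup.zpowers t₀) from ht₀).el.pgroup.exists_le_sylow
    obtain ⟨y, rfl⟩ := MulAction.exists_smul_eq H T Q
    refine ⟨y⁻¹, ?_⟩
    obtain ⟨z, hz, hze⟩ := hQ (Subgroup.mem_zpowers t₀)
    have hze' : y * z * y⁻¹ = t₀ := hze
    rw [← hze', show y⁻¹ * (y * z * y⁻¹) * y⁻¹⁻¹ = z by group]
    exact hz
  have hn : (Subgroup.normalClosure ({h * t₀ * h⁻¹} : Set H)) ≤ (T : Subgroup H) := by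
    rw [Subgroup.normalClosure, Subgroup.closure_le]
    intro z hz
    obtain ⟨_, rfl, g, hgz⟩ := Group.mem_conjugatesOfSet_iff.1 hz
    have h1 := ((htop.symm ▸ Subgroup.mem_top (g : H)) : (g : H) ∈ N) (h * t₀ * h⁻¹) ⟨Tv.conj ht₀ h, hh⟩
    have h2 : (g : H) * (h * t₀ * h⁻¹) * (g : H)⁻¹ = z := mul_inv_eq_iff_eq_mul.2 hgz
    exact h2 ▸ h1.2
  have h3 : h * t₀ * h⁻¹ ∈ (⊥ : Subgroup H) := by
    rw [← hs.ctx.core _ Subgroup.normalClosure_normal (T.2.to_le hn)]
    exact Subgroup.subset_normalClosure rfl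
  exact Tv.ne_one (Tv.conj ht₀ h) (Subgroup.mem_bot.1 h3)

/-- The degree is one more than a power of two. -/
theorem Sys.degree (hs : Sys V p 2 T M) (ht₀ : t₀ ∈ Tv V p) (hLM : ¬ Subgroup.closure (Cls V p t₀) ≤ M)
    (hP : Pairs V p t₀ k e) (hk : 5 ≤ k) (μ : Fin k → Fin k) (hμ : ∀ a, μ (μ a) = a)
    (hμf : ∀ a b, μ a = a → μ b = b → a = b) (hμT : ∀ a, μ a ≠ a → e a (μ a) ∈ (T : Subgroup H)) :
    ∃ n, 1 ≤ n ∧ k = 2 ^ n + 1 := by
  classical
  have hp2 := hs.p_eq_two ht₀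
  have hperm : ∀ g ∈ fixCls V p (T : Subgroup H) t₀,
      ∃ σ : Equiv.Perm (Fin k), ∀ a b, a ≠ b → g * e a b * g⁻¹ = e (σ a) (σ b) := fun g hg => hP.exists_perm hk hg.2
  -- the members in `T`
  have hinT : ∀ a b, a ≠ b → e a b ∈ (T : Subgroup H) → μ a = b := by
    intro a b hab hT
    have aux : ∀ a b, a ≠ b → e a b ∈ (T : Subgroup H) → μ a ≠ a → μ a = b := by
      intro a b hab hT ha
      by_contra hne
      have hc : e a b * e a (μ a) = e a (μ a) * e a b :=
        com_zpowers.1 (hs.com_in T.2 (cls_tv ht₀ (hP.mem a b hab)) (cls_tv ht₀ (hP.mem a (μ a) (Ne.symm ha)))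
          (Subgroup.zpowers_le.2 hT) (Subgroup.zpowers_le.2 (hμT a ha)))
      rcases (hP.comm a b a (μ a) hab (Ne.symm ha)).1 hc with (⟨-, h⟩ | ⟨h, -⟩) | ⟨h, -⟩
      · exact hne h.symm
      · exact ha h.symm
      · exact h rfl
    by_cases ha : μ a = a
    · by_cases hb : μ b = b
      · exact absurd (hμf a b ha hb) hab
      · have h := aux b a hab.symm (by rw [hP.symm]; exact hT) hb
        rw [← h, hμ]
    · exact aux a b hab hT ha
  -- the action on the points
  let S₁ : Subgroup H :=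
    { carrier := fixCls V p (T : Subgroup H) t₀
      one_mem' := ⟨one_mem _, by simp⟩
      mul_mem' := fun {a b} ha hb => ⟨mul_mem ha.1 hb.1, by
        have := (cls_conj_eq (g := a) hb.2).trans ha.2
        simpa [mul_assoc] using this⟩
      inv_mem' := fun {a} ha => ⟨inv_mem ha.1, by
        have := cls_conj_eq (V := V) (p := p) (g := a⁻¹) ha.2
        simp only [inv_inv] at this ⊢
        rw [← this]
        group⟩ }
  have hS₁p : IsPGroup p S₁ := T.2.to_le fun g hg => hg.1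
  choose σ hσ using fun g : ↥S₁ => hperm g g.2
  have hσ1 : σ 1 = 1 := hP.perm_unique fun a b hab => by rw [← hσ 1 a b hab]; simp
  have hσmul : ∀ g h : ↥S₁, σ (g * h) = σ g * σ h := fun g h => hP.perm_unique fun a b hab => by
    rw [← hσ (g * h) a b hab, Equiv.Perm.mul_apply, Equiv.Perm.mul_apply,
      ← hσ g _ _ ((σ h).injective.ne hab), ← hσ h a b hab, Subgroup.coe_mul]
    group
  letI act : MulAction ↥S₁ (Fin k) :=
    { smul := fun g a => σ g a
      one_smul := fun a => by show σ 1 a = a; rw [hσ1]; rfl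
      mul_smul := fun g h a => by show σ (g * h) a = σ g (σ h a); rw [hσmul]; rfl }
  have hact : ∀ (g : ↥S₁) (a : Fin k), g • a = σ g a := fun _ _ => rfl
  have hμS : ∀ a, μ a ≠ a → e a (μ a) ∈ S₁ := fun a ha =>
    ⟨hμT a ha, hs.cls_fix ht₀ (hP.mem _ _ (Ne.symm ha))⟩
  have hσμ : ∀ a (ha : μ a ≠ a), σ ⟨_, hμS a ha⟩ = Equiv.swap a (μ a) := fun a ha => hP.perm_unique fun c d hcd => by
    rw [← hσ ⟨_, hμS a ha⟩ c d hcd]
    exact hP.conj' ht₀ (Ne.symm ha) hcd
  have hσcomm : ∀ (g : ↥S₁) a, σ g (μ a) = μ (σ g a) := by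
    have aux : ∀ (g : ↥S₁) a, μ a ≠ a → μ (σ g a) = σ g (μ a) := fun g a ha => by
      refine hinT _ _ ((σ g).injective.ne (Ne.symm ha)) ?_
      rw [← hσ g a (μ a) (Ne.symm ha)]
      exact mul_mem (mul_mem g.2.1 (hμT a ha)) (inv_mem g.2.1)
    intro g a
    by_cases ha : μ a = a
    · rw [ha]
      by_contra hne
      set c := σ g a
      have hc : μ c ≠ c := fun h => hne h.symm
      have h1 := aux g⁻¹ c hc
      have hinv : σ g⁻¹ c = a := by
        rw [← hact, show c = g • a from rfl, inv_smul_smul]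
      rw [hinv, ha] at h1
      exact hc ((σ g⁻¹).injective (h1.symm.trans hinv.symm))
    · exact (aux g a ha).symm
  -- a division with a crossing member in `M`
  have hinvO : ∀ O : Set (Fin k), (∀ (g : ↥S₁) a b, Same O (σ g a) (σ g b) ↔ Same O a b) →
      ∀ g ∈ fixCls V p (T : Subgroup H) t₀, ∀ τ : Equiv.Perm (Fin k),
        (∀ a b, a ≠ b → g * e a b * g⁻¹ = e (τ a) (τ b)) → ∀ a b, Same O (τ a) (τ b) ↔ Same O a b := by
    intro O hinv g hg τ hτ a b
    have he : τ = σ ⟨g, hg⟩ := hP.perm_unique fun c d hcd => by rw [← hτ c d hcd, ← hσ ⟨g, hg⟩ c d hcd]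
    rw [he]
    exact hinv _ a b
  by_cases hfix : ∃ a₀, μ a₀ = a₀
  · -- one fixed point
    obtain ⟨a₀, ha₀⟩ := hfix
    have hfix₀ : ∀ g : ↥S₁, σ g a₀ = a₀ := fun g => hμf _ _ (by rw [← hσcomm, ha₀]) ha₀
    obtain ⟨x₀, hx₀, -⟩ := hP.exists_other a₀ a₀
    set O : Set (Fin k) := MulAction.orbit ↥S₁ x₀ with hO
    have hmemO : ∀ (g : ↥S₁) a, σ g a ∈ O ↔ a ∈ O := fun g a => by
      refine ⟨fun ⟨h, hh⟩ => ⟨g⁻¹ * h, ?_⟩, fun ⟨h, hh⟩ => ⟨g * h, ?_⟩⟩
      · show (g⁻¹ * h) • x₀ = a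
        rw [mul_smul, show h • x₀ = σ g a from hh, ← hact, inv_smul_smul]
      · show (g * h) • x₀ = σ g a
        rw [mul_smul, show h • x₀ = a from hh, hact]
    have ha₀O : a₀ ∉ O := fun ⟨h, hh⟩ => hx₀ (by
      have h1 : σ h x₀ = σ h a₀ := (show σ h x₀ = a₀ from hh).trans (hfix₀ h).symm
      exact (σ h).injective h1)
    have hall : ∀ y, y ≠ a₀ → y ∈ O := by
      by_contra! h
      obtain ⟨y, hy, hyO⟩ := h
      refine hLM (Sys.le_M_of_cross ht₀ hP ({a₀} : Set (Fin k)) (fun a b hab hS =>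
        hs.within_mem ht₀ hP ({a₀} : Set (Fin k)) ⟨a₀, y, fun hS => hy (hS.1 rfl)⟩
          (hinvO _ fun g a b => by
            unfold Same
            simp only [Set.mem_singleton_iff]
            have h1 : ∀ c, σ g c = a₀ ↔ c = a₀ := fun c =>
              ⟨fun h => (σ g).injective (h.trans (hfix₀ g).symm), fun h => h ▸ hfix₀ g⟩
            rw [h1, h1]) hperm hab hS) (a := a₀) (c := y) (fun hS => hy (hS.1 rfl)) ?_)
      exact hs.within_mem ht₀ hP O ⟨x₀, y, fun hS => hyO (hS.1 (MulAction.mem_orbit_self x₀))⟩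
        (hinvO _ fun g a b => by unfold Same; rw [hmemO, hmemO]) hperm hy.symm (iff_of_false ha₀O hyO)
    have hcard : Nat.card O = k - 1 := by
      have hset : O = ({a₀} : Set (Fin k))ᶜ := Set.ext fun y =>
        ⟨fun hy h => ha₀O (Set.mem_singleton_iff.1 h ▸ hy), fun hy => hall y hy⟩
      rw [Nat.card_coe_set_eq, hset, Set.ncard_compl, Set.ncard_singleton, Nat.card_fin]
    obtain ⟨n, hn⟩ := hS₁p.card_orbit x₀
    refine ⟨n, ?_, ?_⟩
    · by_contra h
      have h0 : n = 0 := by omega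
      rw [h0, pow_zero] at hn
      rw [← hO, hcard] at hn
      omega
    · rw [← hO, hcard, hp2] at hn
      omega
  -- no fixed point
  exfalso
  push Not at hfix
  have hswapM : ∀ a c, a ≠ c → μ a ≠ c → e a c * e (μ a) (μ c) ∈ M := by
    intro a c hac hμac
    have hμinj : Function.Injective μ := Function.LeftInverse.injective hμ
    have haμc : a ≠ μ c := fun h => hμac (by rw [h, hμ])
    refine hs.mem_M_of_stab ht₀ fun u hu huT => ?_
    have hg : ∀ z, e a c * e (μ a) (μ c) * z * (e a c * e (μ a) (μ c))⁻¹ =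
        e a c * (e (μ a) (μ c) * z * (e (μ a) (μ c))⁻¹) * (e a c)⁻¹ := fun z => by group
    rw [hg]
    by_cases hcl : u ∈ Cls V p t₀
    · obtain ⟨v, w, hvw, rfl⟩ := hP.surj u hcl
      obtain rfl := hinT v w hvw huT
      rw [hP.conj' ht₀ (hμinj.ne hac) hvw, hP.conj' ht₀ hac ((Equiv.swap _ _).injective.ne hvw)]
      set f : Fin k → Fin k := fun z => Equiv.swap a c (Equiv.swap (μ a) (μ c) z)
      have hsw : ∀ y, Equiv.swap a c (Equiv.swap (μ a) (μ c) y) = Equiv.swap (μ a) (μ c) (Equiv.swap a c y) :=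
        fun y => by
          rw [← (Equiv.swap a c).injective.swap_apply, Equiv.swap_apply_of_ne_of_ne (hfix a) hμac,
            Equiv.swap_apply_of_ne_of_ne haμc.symm (hfix c)]
      have hf : f (μ v) = μ (f v) := by
        simp only [f]
        rw [← hμinj.swap_apply, ← hμinj.swap_apply, hμ, hμ]
        exact hsw _
      show e (f v) (f (μ v)) ∈ (T : Subgroup H)
      rw [hf]
      exact hμT _ (hfix _)
    · have hne : Cls V p u ≠ Cls V p t₀ := fun h => hcl (h ▸ mem_cls_self u)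
      rw [hs.cls_comm ht₀ (hP.mem _ _ (hμinj.ne hac)) hu hne (mem_cls_self u),
        hs.cls_comm ht₀ (hP.mem _ _ hac) hu hne (mem_cls_self u)]
      exact huT
  have hsplit : ∀ O : Set (Fin k), (∀ (g : ↥S₁) a b, Same O (σ g a) (σ g b) ↔ Same O a b) →
      (∀ a, Same O a (μ a)) → (∃ a c, ¬ Same O a c) → False := by
    intro O hinv hμO hO
    have hw : ∀ a b, a ≠ b → Same O a b → e a b ∈ M := fun a b hab hS =>
      hs.within_mem ht₀ hP O hO (hinvO O hinv) hperm hab hS
    obtain ⟨a, x, y, hax, hay, hxy, hSx, hSy⟩ := exists_card_le_two_split hk O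
    obtain ⟨z, hz, hzS⟩ : ∃ z, z ≠ a ∧ z ≠ μ a ∧ Same O a z := by
      by_cases h : x = μ a
      · exact ⟨y, hay.symm, fun h' => hxy (h.trans h'.symm), hSy⟩
      · exact ⟨x, hax.symm, h, hSx⟩
    obtain ⟨c, hc⟩ : ∃ c, ¬ Same O a c := by
      obtain ⟨a', c', h⟩ := hO
      by_contra! hh
      exact h ((hh a').symm.trans (hh c'))
    have hne : a ≠ c := fun h => hc (h ▸ Iff.rfl)
    have hμac : μ a ≠ c := fun h => hc (h ▸ hμO a)
    have hzc : z ≠ c := fun h => hc (h ▸ hzS.2)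
    have hzμc : z ≠ μ c := fun h => hc ((hzS.2).trans (h ▸ (hμO c).symm))
    have hμinj : Function.Injective μ := Function.LeftInverse.injective hμ
    have hsM := hswapM a c hne hμac
    have hzM := hw a z hz.symm hzS.2
    have h1 := M.mul_mem (M.mul_mem hsM hzM) (M.inv_mem hsM)
    have hg : e a c * e (μ a) (μ c) * e a z * (e a c * e (μ a) (μ c))⁻¹ =
        e a c * (e (μ a) (μ c) * e a z * (e (μ a) (μ c))⁻¹) * (e a c)⁻¹ := by group
    have haμc : a ≠ μ c := fun h => hμac (by rw [h, hμ])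
    rw [hg, hP.conj' ht₀ (hμinj.ne hne) hz.symm, Equiv.swap_apply_of_ne_of_ne (Ne.symm (hfix a)) haμc,
      Equiv.swap_apply_of_ne_of_ne hzS.1 hzμc, hP.conj' ht₀ hne hz.symm, Equiv.swap_apply_left,
      Equiv.swap_apply_of_ne_of_ne hz hzc] at h1
    rw [hP.symm] at h1
    exact hLM (Sys.le_M_of_cross ht₀ hP O hw (fun hS => hc ((hzS.2).trans hS)) h1)
  obtain ⟨a₁, -⟩ : ∃ a : Fin k, a = a := ⟨⟨0, by omega⟩, rfl⟩
  by_cases htr : ∀ y, y ∈ MulAction.orbit ↥S₁ a₁
  · -- transitive: a subgroup of index two over a point stabiliser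
    set St := MulAction.stabilizer ↥S₁ a₁
    have hindex : St.index = k := by
      rw [MulAction.index_stabilizer, Set.eq_univ_of_forall htr, Set.ncard_univ, Nat.card_fin]
    obtain ⟨m, hm⟩ := hS₁p.index St
    rw [hindex, hp2] at hm
    obtain ⟨N, hN⟩ := IsPGroup.iff_card.1 hS₁p
    rw [hp2] at hN
    obtain ⟨j, hj⟩ := IsPGroup.iff_card.1 (hS₁p.to_subgroup St)
    rw [hp2] at hj
    have hcard := St.card_mul_index
    rw [hj, hindex, hm, hN, ← pow_add] at hcard
    have hNj := Nat.pow_right_injective le_rfl hcard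
    have hm1 : 1 ≤ m := by
      by_contra h
      have : m = 0 := by omega
      rw [this, pow_zero] at hm
      omega
    haveI : Fact (Nat.Prime 2) := ⟨Nat.prime_two⟩
    obtain ⟨K, hK, hKle⟩ := Sylow.exists_subgroup_card_pow_prime_le 2 (n := j) (m := N - 1)
      (G := ↥S₁) (by rw [hN]; exact pow_dvd_pow 2 (by omega)) St hj (by omega)
    have hKi : K.index = 2 := by
      have h1 := K.card_mul_index
      rw [hK, hN, show N = N - 1 + 1 by omega, pow_succ] at h1
      simp only [Nat.add_sub_cancel] at h1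
      exact Nat.eq_of_mul_eq_mul_left (pow_pos (by norm_num) _) h1
    choose γ hγ using htr
    set O : Set (Fin k) := {y | γ y ∈ K} with hO
    have hmem : ∀ (g : ↥S₁) y, g • a₁ = y → (y ∈ O ↔ g ∈ K) := fun g y h => by
      have h1 : g⁻¹ * γ y ∈ K := hKle (by
        show (g⁻¹ * γ y) • a₁ = a₁
        rw [mul_smul, show γ y • a₁ = y from hγ y, ← h, inv_smul_smul])
      show γ y ∈ K ↔ g ∈ K
      rw [Subgroup.mul_mem_iff_of_index_two hKi, Subgroup.inv_mem_iff] at h1
      exact h1.symm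
    have hmov : ∀ (g : ↥S₁) y, σ g y ∈ O ↔ (g ∈ K ↔ y ∈ O) := fun g y => by
      rw [hmem (g * γ y) (σ g y) (by rw [mul_smul, show γ y • a₁ = y from hγ y, hact]),
        Subgroup.mul_mem_iff_of_index_two hKi]
      exact Iff.rfl
    refine hsplit O (fun g a b => by unfold Same; rw [hmov, hmov]; tauto) (fun a => ?_) ?_
    · have hK2 : ⟨_, hμS a (hfix a)⟩ ∈ K := by
        obtain ⟨z, hz1, hz2⟩ := hP.exists_other a (μ a)
        have h1 : (γ z)⁻¹ * ⟨_, hμS a (hfix a)⟩ * γ z ∈ K := hKle (by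
          show ((γ z)⁻¹ * ⟨_, hμS a (hfix a)⟩ * γ z : ↥S₁) • a₁ = a₁
          rw [mul_smul, mul_smul, inv_smul_eq_iff, show γ z • a₁ = z from hγ z, hact, hσμ a (hfix a),
            Equiv.swap_apply_of_ne_of_ne hz1 hz2])
        haveI := Subgroup.normal_of_index_eq_two hKi
        simpa [mul_assoc] using (inferInstance : K.Normal).conj_mem _ h1 (γ z)
      have h2 := hmov ⟨_, hμS a (hfix a)⟩ a
      rw [hσμ a (hfix a), Equiv.swap_apply_left] at h2
      unfold Same
      tauto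
    · obtain ⟨g, hg⟩ : ∃ g : ↥S₁, g ∉ K := by
        by_contra! h
        have : K = ⊤ := top_le_iff.1 fun g _ => h g
        rw [this, Subgroup.index_top] at hKi
        omega
      refine ⟨a₁, σ g a₁, ?_⟩
      have h1 := hmov g a₁
      have h2 := hmem 1 a₁ (one_smul _ _)
      unfold Same
      simp only [K.one_mem, iff_true] at h2
      tauto
  · push Not at htr
    obtain ⟨y, hy⟩ := htr
    set O : Set (Fin k) := MulAction.orbit ↥S₁ a₁ with hO
    have hmemO : ∀ (g : ↥S₁) a, σ g a ∈ O ↔ a ∈ O := fun g a => by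
      refine ⟨fun ⟨h, hh⟩ => ⟨g⁻¹ * h, ?_⟩, fun ⟨h, hh⟩ => ⟨g * h, ?_⟩⟩
      · show (g⁻¹ * h) • a₁ = a
        rw [mul_smul, show h • a₁ = σ g a from hh, ← hact, inv_smul_smul]
      · show (g * h) • a₁ = σ g a
        rw [mul_smul, show h • a₁ = a from hh, hact]
    refine hsplit O (fun g a b => by unfold Same; rw [hmemO, hmemO]) (fun a => ?_)
      ⟨a₁, y, fun hS => hy (hS.1 (MulAction.mem_orbit_self a₁))⟩
    have h1 := hmemO ⟨_, hμS a (hfix a)⟩ a
    rw [hσμ a (hfix a), Equiv.swap_apply_left] at h1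
    exact h1.symm

end CfsgLib.CFun.MinParab.Rec
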