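import Cfsg.Agent.Lib.CFun.MinParab.Rec.Pencil
import Cfsg.Agent.Lib.CFun.MinParab.Rec.Parts

/-!
# The parts for more than two scalars

A root group commuting with `B` centralizes every block at `B`; so the translates of a block `L` at `B ≤ T` by
elements moving `B` commute with it. A second block at `B` would have a root group meeting the fixed spaces of
the root groups of `L` in a way that puts two of them over the same conjugate of `M`; so `B` has one block.
-/

set_option autoImplicit false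
set_option linter.unusedSectionVars false
set_option linter.style.haveILetI false

open CfsgLib.Char.NatSL (fixS mem_fixS fixS_mono tr mem_tr card_tr smul_mem_tr card_sup_mul_card_inf)
open CfsgLib.Fusion (conjBy mem_conjBy conj_mem_conjBy conjBy_le_iff conjBy_eq_iff conjBy_conjBy conjBy_one
  conjBy_mono card_conjBy isPGroup_conjBy conjBy_inv_conjBy conjBy_conjBy_inv)
open CfsgLib.CFun.OffenderPair (fixS_sup)

namespace CfsgLib.CFun.MinParab.Rec

variable {H : Type*} [Group H] [Finite H] {V : Type*} [AddCommGroup V] [Finite V] [DistribMulAction H V]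
  {p q : ℕ} [hp : Fact p.Prime] {T : Sylow p H} {M B L E : Subgroup H} {F : Type} [Field F]

theorem tr_inv_tr (g : H) (A : AddSubgroup V) : tr g⁻¹ (tr g A) = A := by
  ext v
  rw [mem_tr, mem_tr, inv_inv, inv_smul_smul]

theorem com_conj_iff (g : H) {A B : Subgroup H} : Com (conjBy g A) (conjBy g B) ↔ Com A B :=
  ⟨fun h => by simpa only [conjBy_inv_conjBy] using h.conj g⁻¹, fun h => h.conj g⟩

namespace Coord

theorem gen_inv (c : Coord V B L F) : conjBy c.wl⁻¹ B ⊔ B = L := by
  have h := congrArg (conjBy c.wl⁻¹) c.gen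
  rw [conjBy_sup, conjBy_inv_conjBy] at h
  exact h.trans (conjBy_eq_iff.2 (Subgroup.le_normalizer (L.inv_mem c.wl_mem)))

theorem wl_le (c : Coord V B L F) : conjBy c.wl B ≤ L := le_sup_right.trans c.gen.le

theorem not_com_wl (hs : Sys V p q T M) (c : Coord V B L F) (hB : Root V p q B) :
    ¬ Com B (conjBy c.wl B) := by
  intro h
  obtain ⟨v, hv⟩ := c.surj (0, 1)
  have h1 := hs.le_of_com hB (hB.conj _) h (sub_mem_commS (c.ub_mem 1) v)
  rw [fixS_conjBy] at h1
  obtain ⟨u, hu, hue⟩ := h1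
  have h2 : c.ψ (c.wl • u) = c.ψ (c.ub 1 • v - v) := congrArg c.ψ hue
  rw [c.wl_ψ, (c.memW u).1 hu, map_sub, c.ub_ψ, hv] at h2
  simpa using congrArg Prod.fst h2

theorem com_block_conj (hs : Sys V p q T M) [Fintype F] (c : Coord V B L F) (hF : Fintype.card F = q) (hq : 2 < q)
    (hB : Root V p q B) {E : Subgroup H} (hE : Root V p q E) (g : H) (h : Com E (conjBy g B))
    (hne : E ≠ conjBy g B) : Com E (conjBy g L) := by
  have h1 := c.com_block hs hF hq hB (hE.conj g⁻¹)
    (by rw [← com_conj_iff g, conjBy_conjBy_inv]; exact h)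
    (fun e => hne (by rw [← e, conjBy_conjBy_inv]))
  rw [← conjBy_conjBy_inv g E]
  exact h1.conj g

theorem com_conj_blocks (hs : Sys V p q T M) [Fintype F] (c : Coord V B L F) (hF : Fintype.card F = q) (hq : 2 < q)
    (hB : Root V p q B) (hBT : B ≤ (T : Subgroup H)) {u v : H} (hu : u ∈ (T : Subgroup H))
    (hv : v ∈ (T : Subgroup H)) (hne : conjBy u B ≠ conjBy v B) :
    Com (conjBy u L) (conjBy v L) ∧ commS V (conjBy u L) ≤ fixS V (conjBy v L) := by
  have hT : ∀ {w : H}, w ∈ (T : Subgroup H) → conjBy w B ≤ (T : Subgroup H) := fun hw =>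
    conjBy_le_iff.2 fun b hb => mul_mem (mul_mem hw (hBT hb)) (inv_mem hw)
  have h0 : Com (conjBy u B) (conjBy v B) := hs.com_in T.2 (hB.conj u) (hB.conj v) (hT hu) (hT hv)
  have huv := c.com_block_conj hs hF hq hB (hB.conj u) v h0 hne
  have hvu := c.com_block_conj hs hF hq hB (hB.conj v) u h0.symm hne.symm
  set u' := u * c.wl
  set v' := v * c.wl
  have hu' : conjBy u' B = conjBy u (conjBy c.wl B) := (conjBy_conjBy _ _ _).symm
  have hv' : conjBy v' B = conjBy v (conjBy c.wl B) := (conjBy_conjBy _ _ _).symm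
  have hu'L : conjBy u' B ≤ conjBy u L := hu' ▸ conjBy_mono c.wl_le
  have hv'L : conjBy v' B ≤ conjBy v L := hv' ▸ conjBy_mono c.wl_le
  have hwl := c.not_com_wl hs hB
  have h1 : Com (conjBy u B) (conjBy v' B) := huv.mono le_rfl hv'L
  have h2 : Com (conjBy v B) (conjBy u' B) := hvu.mono le_rfl hu'L
  have hu'ne : conjBy u' B ≠ conjBy v B := fun e => hwl ((com_conj_iff u).1 (by rw [← hu', e]; exact h0))
  have hu'v := c.com_block_conj hs hF hq hB (hB.conj u') v h2.symm hu'ne
  have hgen : ∀ w : H, conjBy w B ⊔ conjBy (w * c.wl) B = conjBy w L := fun w => by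
    rw [← conjBy_conjBy, ← conjBy_sup, c.gen]
  have hroots : ∀ G G' : Subgroup H, Root V p q G → Root V p q G' → G ≤ conjBy u L → G' ≤ conjBy v L →
      Com (conjBy u L) (conjBy v L) → commS V G ≤ fixS V G' := fun G G' hG hG' hGu hG'v h =>
    hs.le_of_com hG hG' (h.mono hGu hG'v)
  have hcom : Com (conjBy u L) (conjBy v L) := by
    intro x hx y hy
    rw [← hgen u] at hx
    have hc : conjBy u B ⊔ conjBy u' B ≤ Subgroup.centralizer ({y} : Set H) :=
      sup_le (fun b hb => Subgroup.mem_centralizer_iff.2 fun z hz => by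
          rw [Set.mem_singleton_iff.1 hz]; exact (huv b hb y hy).symm)
        (fun b hb => Subgroup.mem_centralizer_iff.2 fun z hz => by
          rw [Set.mem_singleton_iff.1 hz]; exact (hu'v b hb y hy).symm)
    exact (Subgroup.mem_centralizer_iff.1 (hc hx) y rfl).symm
  refine ⟨hcom, ?_⟩
  rw [← hgen u, ← hgen v, commS_sup, fixS_sup]
  exact sup_le
    (le_inf (hroots _ _ (hB.conj u) (hB.conj v) (conjBy_mono c.le) (conjBy_mono c.le) hcom)
      (hroots _ _ (hB.conj u) (hB.conj v') (conjBy_mono c.le) hv'L hcom))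
    (le_inf (hroots _ _ (hB.conj u') (hB.conj v) hu'L (conjBy_mono c.le) hcom)
      (hroots _ _ (hB.conj u') (hB.conj v') hu'L hv'L hcom))

end Coord

/-- A root group with a non-trivial element in `M` lies in `M`. -/
theorem Sys.le_M_of_mem (hs : Sys V p q T M) (hE : Root V p q E) {e : H} (he : e ∈ E) (he1 : e ≠ 1)
    (heM : e ∈ M) : E ≤ M := by
  have hzp : IsPGroup p (Subgroup.zpowers e) := hE.el.pgroup.to_le (Subgroup.zpowers_le.2 he)
  obtain ⟨m, hm, hle⟩ := CfsgLib.Fusion.exists_conj_le_of_not_dvd_relIndex (T := (T : Subgroup H)) (H := M) T.2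
    hs.ctx.le_M (fun h => T.not_dvd_index (h.trans (Subgroup.relIndex_dvd_index_of_le hs.ctx.le_M))) hzp
    (Subgroup.zpowers_le.2 heM)
  intro x hx
  have h1 : m * x * m⁻¹ ∈ M := hs.ctx.mem_of_fix fun v hv => by
    have h2 : (m * e * m⁻¹) • v = v := hv _ (hle (conj_mem_conjBy (Subgroup.mem_zpowers e)))
    have h3 := hs.sep (hE.conj m) (conj_mem_conjBy he) (fun h => he1 (conj_eq_one_iff.1 h)) h2
    exact h3 _ (conj_mem_conjBy hx)
  simpa [mul_assoc] using M.mul_mem (M.mul_mem (M.inv_mem hm) h1) hm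

/-- The subgroup generated by the blocks at `B` under the stabilizer of `B` in `T`. -/
def kernelBlocks (T B L : Subgroup H) : Subgroup H :=
  ⨆ u ∈ {u | u ∈ T ∧ conjBy u B = B}, conjBy u L

theorem le_kernelBlocks (c : Coord V B L F) (S : Subgroup H) : B ≤ kernelBlocks S B L :=
  c.le.trans (le_trans (le_of_eq (conjBy_one L).symm) (le_biSup (fun u => conjBy u L)
    (show (1 : H) ∈ {u | u ∈ S ∧ conjBy u B = B} from ⟨one_mem _, conjBy_one B⟩)))

variable [Fintype F]

/-- An element of `kernelBlocks` conjugating `B` into `M` lies in `M`. -/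
theorem mem_M_of_le (hs : Sys V p q T M) (c : Coord V B L F) (hF : Fintype.card F = q) (hq : 2 < q)
    (hB : Root V p q B) (hBT : B ≤ (T : Subgroup H)) {k : H}
    (hk : k ∈ kernelBlocks (T : Subgroup H) B L) (hkM : conjBy k B ≤ M) : k ∈ M := by
  classical
  set D : Set (Subgroup H) := {G | (∃ g, G = conjBy g B) ∧ G ≤ (T : Subgroup H)} with hD
  have hfix : ∀ G ∈ D, G ≠ B → conjBy k G = G := by
    rintro G ⟨⟨g, rfl⟩, hGT⟩ hne
    refine conjBy_eq_iff.2 (Subgroup.centralizer_le_normalizer _ ?_)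
    have h : kernelBlocks (T : Subgroup H) B L ≤ Subgroup.centralizer (conjBy g B : Set H) := by
      refine iSup_le fun u => iSup_le fun hu x hx => Subgroup.mem_centralizer_iff.2 fun y hy => ?_
      exact c.com_block_conj hs hF hq hB (hB.conj g) u
        (by rw [hu.2]; exact hs.com_in T.2 (hB.conj g) hB hGT hBT) (by rw [hu.2]; exact hne) y hy x hx
    exact h hk
  set J : Subgroup H := ⨆ G ∈ D, G with hJ
  have hJT : J ≤ (T : Subgroup H) := iSup_le fun G => iSup_le fun hG => hG.2
  have hJk : conjBy k J ≤ M := by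
    rw [hJ, conjBy_iSup]
    refine iSup_le fun G => ?_
    rw [conjBy_iSup]
    refine iSup_le fun hG => ?_
    by_cases h : G = B
    · rw [h]; exact hkM
    · rw [hfix G hG h]; exact hG.2.trans hs.ctx.le_M
  obtain ⟨m, hm, hle⟩ := CfsgLib.Fusion.exists_conj_le_of_not_dvd_relIndex (T := (T : Subgroup H)) (H := M) T.2
    hs.ctx.le_M (fun h => T.not_dvd_index (h.trans (Subgroup.relIndex_dvd_index_of_le hs.ctx.le_M)))
    (isPGroup_conjBy k (T.2.to_le hJT)) hJk
  set X := {g : H | ∀ G ∈ D, conjBy g G ∈ D} with hX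
  have hmk : m * k ∈ X := by
    rintro G hG
    obtain ⟨g, rfl⟩ := hG.1
    refine ⟨⟨m * k * g, conjBy_conjBy _ _ _⟩, ?_⟩
    rw [← conjBy_conjBy (m) k]
    exact (conjBy_mono (conjBy_mono (le_biSup (fun G => G) hG))).trans hle
  let N : Subgroup H :=
    { carrier := X
      one_mem' := fun G hG => by rw [conjBy_one]; exact hG
      mul_mem' := fun {a b} ha hb G hG => by rw [← conjBy_conjBy]; exact ha _ (hb G hG)
      inv_mem' := fun {a} ha G hG => by
        let f : D → D := fun G => ⟨conjBy a G, ha _ G.2⟩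
        have hf : Function.Injective f := fun G G' h => Subtype.ext (by
          rw [← conjBy_inv_conjBy a (G : Subgroup H), show conjBy a (G : Subgroup H) = conjBy a (G' : Subgroup H) from
            congrArg Subtype.val h, conjBy_inv_conjBy])
        obtain ⟨G', hG'⟩ := (Finite.injective_iff_surjective.1 hf) ⟨G, hG⟩
        have h' : conjBy a (G' : Subgroup H) = G := congrArg Subtype.val hG'
        rw [← h', conjBy_inv_conjBy]
        exact G'.2 }
  have hTN : (T : Subgroup H) ≤ N := fun t ht G hG => by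
    obtain ⟨g, rfl⟩ := hG.1
    exact ⟨⟨t * g, conjBy_conjBy _ _ _⟩, conjBy_le_iff.2 fun x hx => mul_mem (mul_mem ht (hG.2 hx)) (inv_mem ht)⟩
  have hNM : N ≤ M := hs.ctx.uniq N hTN fun h => by
    refine hB.ne_bot hs.least (le_bot_iff.1 ?_)
    have hBD : B ∈ D := ⟨⟨1, (conjBy_one B).symm⟩, hBT⟩
    have hn : (⨆ g : H, conjBy g B).Normal := by
      refine ⟨fun x hx g => ?_⟩
      have h1 : conjBy g (⨆ g : H, conjBy g B) ≤ ⨆ g : H, conjBy g B := by
        rw [conjBy_iSup]
        exact iSup_le fun g' => (conjBy_conjBy g g' B).le.trans (le_iSup (fun g => conjBy g B) _)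
      exact h1 (conj_mem_conjBy hx)
    rw [← hs.ctx.core _ hn (T.2.to_le (iSup_le fun g =>
      ((h.symm ▸ Subgroup.mem_top g : g ∈ N) B hBD).2))]
    exact le_trans (le_of_eq (conjBy_one B).symm) (le_iSup (fun g => conjBy g B) 1)
  simpa using M.mul_mem (M.inv_mem hm) (hNM hmk)

/-- Two root groups of a component with an element of one moving the other little lie over one conjugate
of `M`. -/
theorem mem_M_of_small (hs : Sys V p q T M) (c : Coord V B L F) (hF : Fintype.card F = q) (hq : 2 < q)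
    (hB : Root V p q B) (hBT : B ≤ (T : Subgroup H)) :
    ∀ (n : ℕ) (k : H), k ∈ kernelBlocks (T : Subgroup H) B L → ¬ Com (conjBy k B) B →
      Nat.card V ≤ n + Nat.card ↥(fixS V (conjBy k B) ⊓ fixS V B) →
      Nat.card ↥(fixS V B) < q * Nat.card ↥(fixS V (conjBy k B) ⊓ fixS V B) → k ∈ M := by
  classical
  intro n
  induction n with
  | zero =>
    intro k hk hnc hn _
    have hh : (⊤ : AddSubgroup V) ≤ fixS V B :=
      (AddSubgroup.eq_top_of_le_card _ (by rw [zero_add] at hn; exact hn)).ge.trans inf_le_right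
    obtain ⟨b, hb, hb1⟩ := hB.exists_ne_one hs.least
    exact absurd (hs.ctx.faith b fun v => hh (AddSubgroup.mem_top v) b hb) hb1
  | succ n ih =>
    intro k hk hnc hn hlt
    set A := conjBy k B with hAdef
    have hA : Root V p q A := hB.conj k
    set C := fixS V A ⊓ fixS V B with hC
    set S := fixS V A ⊔ fixS V B with hSdef
    have hBk := le_kernelBlocks c (T : Subgroup H)
    have hAk : A ≤ kernelBlocks (T : Subgroup H) B L :=
      conjBy_le_iff.2 fun b hb => mul_mem (mul_mem hk (hBk hb)) (inv_mem hk)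
    by_contra hkM
    have hnot : ∀ a ∈ A, a ≠ 1 → a ∉ M := fun a ha ha1 haM =>
      hkM (mem_M_of_le hs c hF hq hB hBT hk (hs.le_M_of_mem hA ha ha1 haM))
    have hSC : Nat.card ↥S * Nat.card ↥C = Nat.card ↥(fixS V B) * Nat.card ↥(fixS V B) := by
      rw [hSdef, hC, card_sup_mul_card_inf, hs.card_W hA hB]
    have hSne : S ≠ ⊤ := fun h => by
      rw [h, AddSubgroup.card_top, hs.card_V hB] at hSC
      have : 0 < Nat.card ↥(fixS V B) := Nat.card_pos
      nlinarith [Nat.mul_lt_mul_of_pos_left hlt this]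
    -- the translates by `A`
    have hpair : ∀ a ∈ A, a ≠ 1 → fixS V (conjBy a B) ⊓ fixS V B = C := by
      intro a ha ha1
      have hle : C ≤ fixS V (conjBy a B) ⊓ fixS V B := fun v hv => ⟨by
        rw [fixS_conjBy]
        exact mem_tr.2 (by rw [hv.1 _ (A.inv_mem ha)]; exact hv.2), hv.2⟩
      by_contra hne
      have hlt' : Nat.card ↥C < Nat.card ↥(fixS V (conjBy a B) ⊓ fixS V B) :=
        lt_of_le_of_ne (AddSubgroup.card_le_of_le hle) fun e => hne (AddSubgroup.eq_of_le_of_card_ge hle e.ge).symm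
      by_cases hcom : Com (conjBy a B) B
      · by_cases heq : conjBy a B = B
        · refine hnot a ha ha1 (mem_M_of_le hs c hF hq hB hBT (hAk ha) ?_)
          rw [heq]; exact hBT.trans hs.ctx.le_M
        · refine hSne (top_le_iff.1 ((hs.sup_eq_top_of_com (hB.conj a) hB heq hcom).ge.trans (sup_le ?_ le_sup_right)))
          rw [fixS_conjBy]
          rintro _ ⟨w, hw, rfl⟩
          show a • w ∈ S
          have := add_mem (AddSubgroup.mem_sup_left (hs.quad hA ha w) : a • w - w ∈ S) (AddSubgroup.mem_sup_right hw)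
          rwa [sub_add_cancel] at this
      · refine hnot a ha ha1 (ih a (hAk ha) hcom (by omega) (hlt.trans_le ?_))
        exact Nat.mul_le_mul_left _ hlt'.le
    have hAB : fixS V A ⊓ fixS V B = C := hC.symm
    have hpair2 : ∀ a ∈ A, ∀ a' ∈ A, a ≠ a' → fixS V (conjBy a B) ⊓ fixS V (conjBy a' B) ≤ C := by
      intro a ha a' ha' hne v hv
      have h1 : a⁻¹ * a' ≠ 1 := fun h => hne (inv_mul_eq_one.1 h)
      rw [fixS_conjBy, fixS_conjBy] at hv
      have h2 : a⁻¹ • v ∈ fixS V (conjBy (a⁻¹ * a') B) ⊓ fixS V B := by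
        refine ⟨?_, mem_tr.1 hv.1⟩
        rw [fixS_conjBy]
        refine mem_tr.2 ?_
        rw [mul_inv_rev, inv_inv, mul_smul, smul_inv_smul]
        exact mem_tr.1 hv.2
      rw [hpair _ (A.mul_mem (A.inv_mem ha) ha') h1] at h2
      have h3 := h2.1 a ha
      rw [smul_inv_smul] at h3
      rwa [h3]
    have hpairA : ∀ a ∈ A, fixS V (conjBy a B) ⊓ fixS V A ≤ C := by
      intro a ha v hv
      rw [fixS_conjBy] at hv
      have h1 := mem_tr.1 hv.1
      rw [hv.2 _ (A.inv_mem ha)] at h1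
      exact ⟨hv.2, h1⟩
    -- counting in `S`
    set W : Option ↥A → AddSubgroup V := fun o => o.elim (fixS V A) (fun a => fixS V (conjBy (a : H) B)) with hW
    have hWS : ∀ o, W o ≤ S := by
      rintro (_ | a)
      · exact le_sup_left
      · show fixS V (conjBy (a : H) B) ≤ S
        rw [fixS_conjBy]
        rintro _ ⟨w, hw, rfl⟩
        show (a : H) • w ∈ S
        have := add_mem (AddSubgroup.mem_sup_left (hs.quad hA a.2 w) : (a : H) • w - w ∈ S) (AddSubgroup.mem_sup_right hw)
        rwa [sub_add_cancel] at this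
    have hinf : ∀ o o', o ≠ o' → W o ⊓ W o' ≤ C := by
      rintro (_ | a) (_ | a') hne
      · exact absurd rfl hne
      · exact (inf_comm _ _).le.trans (hpairA a' a'.2)
      · exact hpairA a a.2
      · exact hpair2 a a.2 a' a'.2 fun h => hne (congrArg some (Subtype.ext h))
    have hCW : ∀ o, C ≤ W o := by
      rintro (_ | a) v hv
      · exact hv.1
      · show v ∈ fixS V (conjBy (a : H) B)
        rw [fixS_conjBy, mem_tr, hv.1 _ (A.inv_mem a.2)]
        exact hv.2
    have hWcard : ∀ o, Nat.card ↥(W o) = Nat.card ↥(fixS V B) := by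
      rintro (_ | a)
      · exact hs.card_W hA hB
      · exact hs.card_W (hB.conj _) hB
    let Z : Option ↥A → Type _ := fun o => {v : V // v ∈ W o ∧ v ∉ C}
    let f : (Σ o, Z o) → {v : V // v ∈ S ∧ v ∉ C} := fun z => ⟨z.2.1, hWS _ z.2.2.1, z.2.2.2⟩
    have hf : Function.Injective f := by
      rintro ⟨o, v, hv⟩ ⟨o', v', hv'⟩ h
      have hvv : v = v' := congrArg Subtype.val h
      subst hvv
      by_cases ho : o = o'
      · subst ho; rfl
      · exact absurd (hinf o o' ho ⟨hv.1, hv'.1⟩) hv.2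
    have hdiff : ∀ X : AddSubgroup V, C ≤ X → Nat.card {v : V // v ∈ X ∧ v ∉ C} + Nat.card ↥C = Nat.card ↥X := by
      intro X hX
      have h := Set.ncard_diff_add_ncard_of_subset (s := (C : Set V)) (t := (X : Set V)) hX
      rw [← Nat.card_coe_set_eq, ← Nat.card_coe_set_eq, ← Nat.card_coe_set_eq] at h
      exact h
    haveI : Fintype ↥A := Fintype.ofFinite _
    have hcount := Nat.card_le_card_of_injective f hf
    rw [Nat.card_sigma] at hcount
    have hopt : Fintype.card (Option ↥A) = q + 1 := by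
      rw [Fintype.card_option, ← Nat.card_eq_fintype_card, hA.card]
    have hZc : ∀ o, Nat.card (Z o) = Nat.card ↥(fixS V B) - Nat.card ↥C := fun o => by
      have h1 : Nat.card (Z o) + Nat.card ↥C = Nat.card ↥(fixS V B) := by
        rw [← hWcard o]; exact hdiff _ (hCW o)
      omega
    simp only [hZc, Finset.sum_const, Finset.card_univ, hopt, smul_eq_mul] at hcount
    have h4 : Nat.card {v : V // v ∈ S ∧ v ∉ C} + Nat.card ↥C = Nat.card ↥S :=
      hdiff S (inf_le_left.trans le_sup_left)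
    have hCle : Nat.card ↥C ≤ Nat.card ↥(fixS V B) := AddSubgroup.card_le_of_le inf_le_right
    have hCne : Nat.card ↥C < Nat.card ↥(fixS V B) := lt_of_le_of_ne hCle fun e => hnc (by
      have h5 : C = fixS V B := AddSubgroup.eq_of_le_of_card_ge inf_le_right e.ge
      rw [hs.eq_of_W_le hB hA (fun v hv => (h5.ge hv).1)]
      exact hA.el.comm)
    have hWC : 0 < Nat.card ↥(fixS V B) - Nat.card ↥C := by omega
    set w := Nat.card ↥(fixS V B)
    set d := Nat.card ↥C
    have hd0 : 0 < d := Nat.card_pos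
    have e1 : w - d + d = w := Nat.sub_add_cancel hCle
    set z := Nat.card {v : V // v ∈ S ∧ v ∉ C}
    set sS := Nat.card ↥S
    have e3 : z * d + d * d = (w - d) * (w + d) + d * d := by
      have e4 : z * d + d * d = sS * d := by rw [← h4]; ring
      rw [e4, hSC]
      have e5 : (w - d) * (w + d) + d * d = (w - d + d) * (w - d + d) := by
        have e6 : w + d = w - d + d + d := by omega
        rw [e6]; ring
      rw [e5, e1]
    have e7 : (q + 1) * d * (w - d) ≤ (w + d) * (w - d) := by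
      have e8 := Nat.mul_le_mul_right d hcount
      have e9 : z * d = (w - d) * (w + d) := Nat.add_right_cancel e3
      rw [e9] at e8
      calc (q + 1) * d * (w - d) = (q + 1) * (w - d) * d := by ring
        _ ≤ _ := e8.trans (le_of_eq (mul_comm _ _))
    have e10 := Nat.le_of_mul_le_mul_right e7 hWC
    rw [add_mul, one_mul] at e10
    omega

/-- There is only one block at `B` among the translates by the stabilizer of `B` in `T`. -/
theorem conjBy_block_eq (hs : Sys V p q T M) (c : Coord V B L F) (hF : Fintype.card F = q) (hq : 2 < q)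
    (hB : Root V p q B) (hBT : B ≤ (T : Subgroup H)) (hLM : ¬ L ≤ M) {u : H} (hu : u ∈ (T : Subgroup H))
    (huB : conjBy u B = B) : conjBy u L = L := by
  classical
  set K := kernelBlocks (T : Subgroup H) B L with hK
  have hLK : L ≤ K := le_trans (le_of_eq (conjBy_one L).symm) (le_biSup (fun u => conjBy u L)
    (show (1 : H) ∈ {u | u ∈ (T : Subgroup H) ∧ conjBy u B = B} from ⟨one_mem _, conjBy_one B⟩))
  have huK : conjBy u L ≤ K := le_biSup (fun u => conjBy u L)
    (show u ∈ {u | u ∈ (T : Subgroup H) ∧ conjBy u B = B} from ⟨hu, huB⟩)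
  set x := u * c.wl * u⁻¹ with hx
  have hxK : x ∈ K := huK (conj_mem_conjBy c.wl_mem)
  set F' := conjBy x B with hF'def
  have hF' : Root V p q F' := hB.conj x
  have hF'u : F' = conjBy u (conjBy c.wl B) := by
    have h1 : conjBy x (conjBy u B) = conjBy u (conjBy c.wl B) := by
      rw [conjBy_conjBy, conjBy_conjBy, hx, inv_mul_cancel_right]
    rwa [huB] at h1
  have hgen : B ⊔ F' = conjBy u L := by
    have h1 := congrArg (conjBy u) c.gen
    rw [conjBy_sup, huB, ← hF'u] at h1
    exact h1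
  have hncom : ¬ Com B F' := fun h => c.not_com_wl hs hB ((com_conj_iff u).1 (by rw [huB, ← hF'u]; exact h))
  let G : F → Subgroup H := fun a => conjBy (c.ub a * c.wl) B
  have hGK : ∀ a, c.ub a * c.wl ∈ K := fun a => hLK (L.mul_mem (c.le (c.ub_mem a)) c.wl_mem)
  have hGL : ∀ a, G a ≤ L := fun a =>
    conjBy_le_iff.2 fun b hb => L.mul_mem (L.mul_mem (L.mul_mem (c.le (c.ub_mem a)) c.wl_mem) (c.le hb))
      (L.inv_mem (L.mul_mem (c.le (c.ub_mem a)) c.wl_mem))
  by_contra hne
  have hnoG : ∀ a, ¬ Com F' (G a) := by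
    intro a h
    by_cases he : F' = G a
    · refine hne (Subgroup.eq_of_le_of_card_ge ?_ (by rw [card_conjBy]))
      rw [← hgen]
      exact sup_le c.le (he ▸ hGL a)
    · have hF'w : conjBy (u * c.wl) B = F' := by rw [hF'u, conjBy_conjBy]
      have h1 := c.com_block_conj hs hF hq hB (hB.conj _) (u * c.wl) (hF'w.symm ▸ h.symm)
        (hF'w.symm ▸ Ne.symm he)
      have hBle : B ≤ conjBy (u * c.wl) L := by
        rw [← conjBy_conjBy, conjBy_eq_iff.2 (Subgroup.le_normalizer c.wl_mem)]
        exact huB.ge.trans (conjBy_mono c.le)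
      refine c.not_com_wl hs hB ((com_conj_iff (c.ub a)).1 ?_)
      rw [show conjBy (c.ub a) B = B from conjBy_eq_iff.2 (Subgroup.le_normalizer (c.ub_mem a)), conjBy_conjBy]
      exact (h1.mono le_rfl hBle).symm
  -- each commutator vector of `F'` lies in the fixed space of one `G a`
  have hsmall : ∀ a, ∀ f ∈ F', ∀ v, f • v ≠ v → f • v - v ∈ fixS V (G a) → (c.ub a * c.wl)⁻¹ * x ∈ M := by
    intro a f hf v hv hmem
    set g := c.ub a * c.wl with hg
    have hgx : g⁻¹ * x ∈ K := K.mul_mem (K.inv_mem (hGK a)) hxK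
    have htr : fixS V (conjBy (g⁻¹ * x) B) ⊓ fixS V B = tr g⁻¹ (fixS V F' ⊓ fixS V (G a)) := by
      have e1 : fixS V (conjBy (g⁻¹ * x) B) = tr g⁻¹ (fixS V F') := by
        rw [← conjBy_conjBy, fixS_conjBy]
      have e2 : fixS V B = tr g⁻¹ (fixS V (G a)) := by rw [fixS_conjBy, tr_inv_tr]
      rw [e1, e2]
      exact (AddSubgroup.map_inf _ _ _ (MulAction.injective _)).symm
    have hnc : ¬ Com (conjBy (g⁻¹ * x) B) B := fun h => hnoG a (by
      have h1 := h.conj g
      rwa [conjBy_conjBy, mul_inv_cancel_left] at h1)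
    by_cases hS : fixS V F' ⊔ fixS V (G a) = ⊤
    · -- `f` moves `G a` little
      have hGa : Root V p q (G a) := hB.conj _
      obtain ⟨w, hw, w', hw', hvw⟩ := AddSubgroup.mem_sup.1
        (hS ▸ AddSubgroup.mem_top v : v ∈ fixS V F' ⊔ fixS V (G a))
      subst hvw
      have hfw : f • (w + w') - (w + w') = f • w' - w' := by rw [smul_add, hw f hf]; abel
      have hfG : f • w' ∈ fixS V (G a) := by
        have := add_mem (hfw ▸ hmem) hw'
        rwa [sub_add_cancel] at this
      have hw'n : w' ∉ fixS V F' := fun h => hv (sub_eq_zero.1 (by rw [hfw, h f hf, sub_self]))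
      have hI : fixS V F' ⊓ fixS V (G a) ≤ fixS V (conjBy f⁻¹ (G a)) ⊓ fixS V (G a) := fun z hz =>
        ⟨by rw [fixS_conjBy]; exact mem_tr.2 (by rw [inv_inv, hz.1 f hf]; exact hz.2), hz.2⟩
      have hlt : Nat.card ↥(fixS V F' ⊓ fixS V (G a)) <
          Nat.card ↥(fixS V (conjBy f⁻¹ (G a)) ⊓ fixS V (G a)) := by
        refine lt_of_le_of_ne (AddSubgroup.card_le_of_le hI) fun e => hw'n ?_
        have h2 := AddSubgroup.eq_of_le_of_card_ge hI e.ge
        exact (h2.ge ⟨by rw [fixS_conjBy]; exact mem_tr.2 (by rw [inv_inv]; exact hfG), hw'⟩).1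
      have hI2 : q * Nat.card ↥(fixS V F' ⊓ fixS V (G a)) = Nat.card ↥(fixS V B) := by
        have h1 := card_sup_mul_card_inf (fixS V F') (fixS V (G a))
        rw [hS, AddSubgroup.card_top, hs.card_V hB, hs.card_W hF' hB, hs.card_W hGa hB] at h1
        refine Nat.eq_of_mul_eq_mul_left (Nat.card_pos : 0 < Nat.card ↥(fixS V B)) ?_
        rw [← h1]; ring
      set k := g⁻¹ * f⁻¹ * g with hk
      have hF'K : F' ≤ K := le_trans (le_sup_right.trans hgen.le) huK
      have hkK : k ∈ K := K.mul_mem (K.mul_mem (K.inv_mem (hGK a)) (K.inv_mem (hF'K hf))) (hGK a)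
      have hk' : fixS V (conjBy k B) ⊓ fixS V B = tr g⁻¹ (fixS V (conjBy f⁻¹ (G a)) ⊓ fixS V (G a)) := by
        have e1 : fixS V (conjBy k B) = tr g⁻¹ (fixS V (conjBy f⁻¹ (G a))) := by
          rw [← fixS_conjBy, conjBy_conjBy, conjBy_conjBy, hk]
        have e2 : fixS V B = tr g⁻¹ (fixS V (G a)) := by rw [fixS_conjBy, tr_inv_tr]
        rw [e1, e2]
        exact (AddSubgroup.map_inf _ _ _ (MulAction.injective _)).symm
      have hkM : k ∈ M := by
        by_cases hcm : Com (conjBy k B) B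
        · by_cases heq : conjBy k B = B
          · exact mem_M_of_le hs c hF hq hB hBT hkK (by rw [heq]; exact hBT.trans hs.ctx.le_M)
          · exfalso
            have h1 := hs.sup_eq_top_of_com (hB.conj k) hB heq hcm
            have h2 := card_sup_mul_card_inf (fixS V (conjBy k B)) (fixS V B)
            rw [h1, AddSubgroup.card_top, hs.card_V hB, hk', card_tr, hs.card_W (hB.conj k) hB] at h2
            have h3 : 0 < Nat.card ↥(fixS V B) := Nat.card_pos
            nlinarith [Nat.mul_lt_mul_of_pos_left hlt (show 0 < q by omega)]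
        · refine mem_M_of_small hs c hF hq hB hBT _ k hkK hcm (Nat.le_add_right _ _) ?_
          rw [hk', card_tr, ← hI2]
          exact Nat.mul_lt_mul_of_pos_left hlt (by omega)
      have hf1 : f ≠ 1 := fun h => hv (by rw [h, one_smul])
      refine mem_M_of_le hs c hF hq hB hBT hgx (hs.le_M_of_mem (hB.conj _) (e := g⁻¹ * f * g) ?_ ?_ ?_)
      · rw [← conjBy_conjBy, mem_conjBy, inv_inv, ← hF'def,
          show g * (g⁻¹ * f * g) * g⁻¹ = f by group]
        exact hf
      · intro h
        refine hf1 ?_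
        have h' := congrArg (fun z => g * z * g⁻¹) h
        simpa [mul_assoc] using h'
      · have := M.inv_mem hkM
        simpa [hk, mul_assoc] using this
    · refine mem_M_of_small hs c hF hq hB hBT _ _ hgx hnc (Nat.le_add_right _ _) ?_
      rw [htr, card_tr]
      have h1 := card_sup_mul_card_inf (fixS V F') (fixS V (G a))
      rw [hs.card_W hF' hB, hs.card_W (hB.conj _) hB] at h1
      have hSlt : Nat.card ↥(fixS V F' ⊔ fixS V (G a)) < q * Nat.card ↥(fixS V B) := by
        rw [← hs.card_V hB]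
        exact lt_of_le_of_ne (AddSubgroup.card_le_card_addGroup _) fun e =>
          hS (AddSubgroup.eq_top_of_le_card _ e.ge)
      have hI : 0 < Nat.card ↥(fixS V F' ⊓ fixS V (G a)) := Nat.card_pos
      have hw : 0 < Nat.card ↥(fixS V B) := Nat.card_pos
      nlinarith [Nat.mul_lt_mul_of_pos_right hSlt hI]
  -- at most one `a`
  have huniq : ∀ a a', (c.ub a * c.wl)⁻¹ * x ∈ M → (c.ub a' * c.wl)⁻¹ * x ∈ M → a = a' := by
    intro a a' h h'
    by_contra haa
    have h1 : c.wl⁻¹ * ((c.ub a)⁻¹ * c.ub a') * c.wl ∈ M := by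
      simpa [mul_assoc] using M.mul_mem h (M.inv_mem h')
    have hb : (c.ub a)⁻¹ * c.ub a' ∈ B := B.mul_mem (B.inv_mem (c.ub_mem a)) (c.ub_mem a')
    have hb1 : (c.ub a)⁻¹ * c.ub a' ≠ 1 := fun e => haa (by
      obtain ⟨v, hv⟩ := c.surj (0, 1)
      have h2 := congrArg (fun z : H => (c.ψ (z • v)).1) (inv_mul_eq_one.1 e)
      simpa [c.ub_ψ, hv] using h2)
    have h2 : conjBy c.wl⁻¹ B ≤ M := hs.le_M_of_mem (hB.conj _) (e := c.wl⁻¹ * ((c.ub a)⁻¹ * c.ub a') * c.wl)
      (by simpa using conj_mem_conjBy (g := c.wl⁻¹) hb)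
      (fun e => hb1 (by
        have e' := congrArg (fun z => c.wl * z * c.wl⁻¹) e
        simpa [mul_assoc] using e')) h1
    exact hLM (c.gen_inv ▸ sup_le h2 (hBT.trans hs.ctx.le_M))
  have hcover : ∀ f ∈ F', ∀ v, f • v ≠ v → ∃ a, f • v - v ∈ fixS V (G a) := by
    intro f hf v hv
    set z := f • v - v with hz
    have hz2 : (c.ψ z).2 ≠ 0 := by
      intro h
      have hzB : z ∈ fixS V B := (c.memW z).2 h
      -- move the block at `F'` to the block at `B`
      set g := u * c.wl with hgdef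
      obtain ⟨b, hb, hbe⟩ : ∃ b ∈ B, g * b * g⁻¹ = f := by
        rw [hF'u, conjBy_conjBy, mem_conjBy] at hf
        exact ⟨g⁻¹ * f * g, hf, by group⟩
      have hzL : g⁻¹ • z ∈ fixS V L := by
        have h1 : z ∈ fixS V (conjBy u L) := by
          rw [← hgen, fixS_sup]
          exact ⟨hzB, hs.quad hF' hf v⟩
        rw [fixS_conjBy, mem_tr] at h1
        rw [hgdef, mul_inv_rev, mul_smul, h1 _ (L.inv_mem c.wl_mem)]
        exact h1
      have h2 : c.ψ (b • (g⁻¹ • v) - g⁻¹ • v) = 0 := by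
        have e : b • (g⁻¹ • v) - g⁻¹ • v = g⁻¹ • z := by
          rw [hz, smul_sub, ← hbe, ← mul_smul, ← mul_smul]
          group
        rw [e]
        exact (c.ker _).2 hzL
      obtain ⟨d, rfl⟩ := c.exists_ub b hb
      rw [map_sub, c.ub_ψ] at h2
      have h3 : d * (c.ψ (g⁻¹ • v)).2 = 0 := by simpa using congrArg Prod.fst h2
      have h4 : c.ub d • (g⁻¹ • v) = g⁻¹ • v := by
        rcases mul_eq_zero.1 h3 with hd | hd
        · have hall : ∀ w, c.ψ (c.ub d • w - w) = 0 := fun w => by rw [map_sub, c.ub_ψ, hd]; simp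
          by_contra hmove
          have hne1 : c.ub d ≠ 1 := fun e => hmove (by rw [e, one_smul])
          -- an element of `B` acting trivially modulo the fixed points of `L`
          have hinj : Function.Surjective (fun a : F => (⟨c.ub a, c.ub_mem a⟩ : ↥B)) := fun b =>
            let ⟨a, ha⟩ := c.exists_ub b b.2
            ⟨a, Subtype.ext ha⟩
          have hbij := (Nat.bijective_iff_surjective_and_card _).2
            ⟨hinj, by rw [hB.card, Nat.card_eq_fintype_card, hF]⟩
          obtain ⟨a₁, ha₁⟩ := c.exists_ub 1 B.one_mem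
          obtain ⟨w, hw⟩ := c.surj (0, 1)
          have ha0 : a₁ = 0 := by
            have h5 := congrArg Prod.fst (c.ub_ψ a₁ w)
            rw [ha₁, one_smul, hw] at h5
            simpa using h5.symm
          exact hne1 (by rw [hd, ← ha0, ha₁])
        · exact (c.memW _).2 hd _ (c.ub_mem d)
      apply hv
      rw [← hbe, mul_smul, mul_smul, h4, smul_inv_smul]
    refine ⟨(c.ψ z).1 / (c.ψ z).2, ?_⟩
    obtain ⟨w, hw⟩ := c.surj ((c.ψ z).2, 0)
    show z ∈ fixS V (conjBy (c.ub _ * c.wl) B)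
    rw [fixS_conjBy]
    set gg := c.ub ((c.ψ z).1 / (c.ψ z).2) * c.wl with hgg
    have h1 : c.ψ (z - gg • w) = 0 := by
      rw [map_sub, hgg, mul_smul, c.ub_ψ, c.wl_ψ, hw]
      refine Prod.ext ?_ ?_
      · show (c.ψ z).1 - (-0 + (c.ψ z).1 / (c.ψ z).2 * (c.ψ z).2) = 0
        rw [div_mul_cancel₀ _ hz2]; ring
      · show (c.ψ z).2 - (c.ψ z).2 = 0
        exact sub_self _
    have h2 : z = gg • (w + (z - gg • w)) := by
      rw [smul_add, (c.ker _).1 h1 gg (L.mul_mem (c.le (c.ub_mem _)) c.wl_mem)]; abel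
    rw [h2]
    refine smul_mem_tr (add_mem ((c.memW w).2 (by rw [hw])) ?_)
    exact fixS_mono c.le ((c.ker _).1 h1)
  obtain ⟨f₀, hf₀, v₀, hv₀⟩ : ∃ f ∈ F', ∃ v : V, f • v ≠ v := by
    obtain ⟨f, hf, hf1⟩ := hF'.exists_ne_one hs.least
    by_contra! h
    exact hf1 (hs.ctx.faith f (h f hf))
  obtain ⟨a₀, ha₀⟩ := hcover f₀ hf₀ v₀ hv₀
  refine hnoG a₀ (hs.com_of_le hF' (hB.conj _) (commS_le_iff.2 fun f hf v => ?_))
  by_cases hv : f • v = v
  · rw [hv, sub_self]; exact zero_mem _
  obtain ⟨a, ha⟩ := hcover f hf v hv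
  rwa [huniq a₀ a (hsmall a₀ f₀ hf₀ v₀ hv₀ ha₀) (hsmall a f hf v hv ha)]

/-- The parts for more than two scalars. -/
theorem exists_parts_linear (hs : Sys V p q T M) (hq : 2 < q) (hA : ∃ A : Subgroup H, Root V p q A) :
    ∃ (r : ℕ) (E : Fin r → Subgroup H), Parts V (T : Subgroup H) r E ∧
      (∀ A : Subgroup H, Root V p q A → ∃ i, A ≤ E i) ∧
      ∀ i, ∃ (g : H) (B L : Subgroup H), E i = conjBy g L ∧ Root V p q B ∧ NatBlk V p M B L := by
  classical
  obtain ⟨A, hA⟩ := hA
  obtain ⟨g, L, m, hm, hBT, hb⟩ := hA.exists_conj_blk hs.least hs.ctx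
  set B := conjBy g A
  have hB : Root V p q B := hA.conj g
  obtain ⟨F, iF, iFf, hF, ⟨c⟩, -⟩ := exists_coord hb
  rw [hB.card] at hF
  set T' : Sylow p H := m • T
  have hT' : (T' : Subgroup H) = conjBy m (T : Subgroup H) := rfl
  have hs' : Sys V p q T' M := ⟨
    { vp := hs.ctx.vp
      faith := hs.ctx.faith
      le_M := conjBy_le_iff.2 fun x hx => M.mul_mem (M.mul_mem hm (hs.ctx.le_M hx)) (M.inv_mem hm)
      ne_top := hs.ctx.ne_top
      uniq := fun K hK hne => by
        by_contra hKM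
        exact hne (hs.ctx.eq_top hm hK hKM)
      core := hs.ctx.core
      moved := fun h => by
        obtain ⟨x, hx⟩ := SetLike.not_le_iff_exists.1 hb.notM
        obtain ⟨v, hv, hvL⟩ := hs.ctx.exists_moved hm hb.notM
        exact hvL (fixS_mono le_top (h hv)) }, hs.least⟩
  have hBT' : B ≤ (T' : Subgroup H) := hBT
  obtain ⟨r, E, hP, hE⟩ := exists_parts hs'.ctx hb.notM (fun u hu v hv hne => by
    refine c.com_conj_blocks hs' hF hq hB hBT' hu hv fun he => hne ?_
    have h1 : conjBy (u⁻¹ * v) B = B := by rw [← conjBy_conjBy, ← he, conjBy_inv_conjBy]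
    have h2 := conjBy_block_eq hs' c hF hq hB hBT' hb.notM ((T' : Subgroup H).mul_mem (inv_mem hu) hv) h1
    conv_lhs => rw [← h2, conjBy_conjBy, mul_inv_cancel_left]) hb.sup_fix
  refine ⟨r, fun i => conjBy m⁻¹ (E i), ?_, fun A' hA' => ?_, fun i => ?_⟩
  · have h1 := hP.conj m⁻¹
    rwa [hT', conjBy_inv_conjBy] at h1
  · obtain ⟨i, hi⟩ := hP.covered (q := q) hs'.least hs'.ctx (hA'.conj m) fun x hx => by
      have hR : Root V p q (conjBy x (conjBy m A')) := (hA'.conj m).conj x
      by_cases h : ∃ i, conjBy x (conjBy m A') ≤ E i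
      · exact Or.inl h
      refine Or.inr fun i => ?_
      obtain ⟨t, ht, he⟩ := hE i
      have htB : conjBy t B ≤ (T' : Subgroup H) :=
        conjBy_le_iff.2 fun b hb => mul_mem (mul_mem ht (hBT' hb)) (inv_mem ht)
      rw [he]
      refine c.com_block_conj hs' hF hq hB hR t (hs'.com_in T'.2 hR (hB.conj t) hx htB) fun e => h ⟨i, ?_⟩
      rw [he, e]
      exact conjBy_mono c.le
    refine ⟨i, ?_⟩
    rw [← conjBy_inv_conjBy m A']
    exact conjBy_mono hi
  · obtain ⟨t, -, he⟩ := hE i
    exact ⟨m⁻¹ * t, B, L, by show conjBy m⁻¹ (E i) = _; rw [he, conjBy_conjBy], hB, hb⟩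

end CfsgLib.CFun.MinParab.Rec
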