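import Cfsg.Agent.Lib.CFun.MinParab.Rec.Parts

/-!
# Natural modules of the parts

`IsNat2` and `IsPermNat` say that a part acts on the module modulo its fixed points as `SL(2, q)` on the natural
module, resp. as the symmetric group of degree `2 ^ n + 1` on the even-weight permutation module; both are
invariant under conjugation.
-/

set_option autoImplicit false
set_option linter.unusedSectionVars false
set_option linter.style.haveILetI false

open scoped MatrixGroups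
open CfsgLib.Char.NatSL (fixS mem_fixS tr mem_tr smul_mem_tr)
open CfsgLib.Fusion (conjBy mem_conjBy)

namespace CfsgLib.CFun.MinParab.Rec

variable {H : Type*} [Group H] {V : Type*} [AddCommGroup V] [DistribMulAction H V] {p : ℕ}

/-- The natural action of `SL(2, q)`. -/
def IsNat2 (V : Type*) [AddCommGroup V] [DistribMulAction H V] (q : ℕ) (E : Subgroup H) : Prop :=
  ∃ (F : Type) (_ : Field F) (_ : Fintype F), Fintype.card F = q ∧
    ∃ (ρ : ↥E ≃* SL(2, F)) (ψ : V →+ (Fin 2 → F)), Function.Surjective ψ ∧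
      (∀ v, ψ v = 0 ↔ v ∈ fixS V E) ∧
      ∀ (x : ↥E) (v : V), ψ ((x : H) • v) = ((ρ x : SL(2, F)) : Matrix (Fin 2) (Fin 2) F).mulVec (ψ v)

/-- The natural action of the symmetric group of degree `2 ^ n + 1`. -/
def IsPermNat (V : Type*) [AddCommGroup V] [DistribMulAction H V] (n : ℕ) (E : Subgroup H) : Prop :=
  ∃ (θ : ↥E ≃* Equiv.Perm (Fin (2 ^ n + 1))) (ψ : V →+ (Fin (2 ^ n + 1) → ZMod 2)),
    (∀ v, ∑ a, ψ v a = 0) ∧ (∀ w : Fin (2 ^ n + 1) → ZMod 2, ∑ a, w a = 0 → ∃ v, ψ v = w) ∧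
    (∀ v, ψ v = 0 ↔ v ∈ fixS V E) ∧
    ∀ (x : ↥E) (v : V) a, ψ ((x : H) • v) a = ψ v ((θ x)⁻¹ a)

theorem exists_conj_data (g : H) (E : Subgroup H) : ∃ c : ↥(conjBy g E) ≃* ↥E,
    ∀ x, (g : H) * (c x : H) * g⁻¹ = (x : H) := by
  refine ⟨(E.equivMapOfInjective _ (MulAut.conj g).injective).symm, fun x => ?_⟩
  exact congrArg Subtype.val ((E.equivMapOfInjective _ (MulAut.conj g).injective).apply_symm_apply x)

theorem IsNat2.conj {q : ℕ} {E : Subgroup H} (h : IsNat2 V q E) (g : H) : IsNat2 V q (conjBy g E) := by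
  obtain ⟨F, iF, iFf, hF, ρ, ψ, hs, hk, he⟩ := h
  obtain ⟨c, hc⟩ := exists_conj_data g E
  refine ⟨F, iF, iFf, hF, c.trans ρ, ψ.comp (DistribMulAction.toAddMonoidHom V g⁻¹),
    fun w => ?_, fun v => ?_, fun x v => ?_⟩
  · obtain ⟨v, hv⟩ := hs w
    exact ⟨g • v, by simp [hv]⟩
  · rw [fixS_conjBy, mem_tr, ← hk]
    rfl
  · show ψ (g⁻¹ • (x : H) • v) = _
    rw [← hc x, ← mul_smul, show g⁻¹ * (g * (c x : H) * g⁻¹) = (c x : H) * g⁻¹ by group, mul_smul, he]
    rfl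

theorem IsPermNat.conj {n : ℕ} {E : Subgroup H} (h : IsPermNat V n E) (g : H) : IsPermNat V n (conjBy g E) := by
  obtain ⟨θ, ψ, hsum, hs, hk, he⟩ := h
  obtain ⟨c, hc⟩ := exists_conj_data g E
  refine ⟨c.trans θ, ψ.comp (DistribMulAction.toAddMonoidHom V g⁻¹), fun v => hsum _, fun w hw => ?_,
    fun v => ?_, fun x v a => ?_⟩
  · obtain ⟨v, hv⟩ := hs w hw
    exact ⟨g • v, by simp [hv]⟩
  · rw [fixS_conjBy, mem_tr, ← hk]
    rfl
  · show ψ (g⁻¹ • (x : H) • v) a = _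
    rw [← hc x, ← mul_smul, show g⁻¹ * (g * (c x : H) * g⁻¹) = (c x : H) * g⁻¹ by group, mul_smul, he]
    rfl

variable [Finite H] [Finite V] [hp : Fact p.Prime] {M A L : Subgroup H}

theorem isNat2_of_blk (hb : NatBlk V p M A L) : IsNat2 V (Nat.card ↥A) L := by
  obtain ⟨T₀, hd⟩ := hb.data
  obtain ⟨F, iF, iFf, hF, -, ρ, ψ, hs, hk, he⟩ := hd.natural
  exact ⟨F, iF, iFf, hF.trans hb.cardA, ρ, ψ, hs, fun v => by rw [hk, NatBlk.fixL], fun x v => he x v⟩

end CfsgLib.CFun.MinParab.Rec
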