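import Cfsg.Agent.Lib.CFun.MinParab.Rec.Ctx
import Cfsg.Agent.Lib.Fusion.Thompson

/-!
# Two root groups

A root group is determined by its fixed space. Distinct commuting root groups meet trivially and their fixed
spaces fill the module. Two root groups commute as soon as the commutator space of one lies in the fixed space
of the other, and as soon as they lie in a common `p`-subgroup.
-/

set_option autoImplicit false
set_option linter.unusedSectionVars false
set_option linter.style.haveILetI false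

open CfsgLib.Char.NatSL (fixS mem_fixS fixS_mono tr mem_tr card_tr smul_mem_tr card_sup_mul_card_inf)
open CfsgLib.Fusion (conjBy mem_conjBy conj_mem_conjBy conjBy_le_iff conjBy_eq_iff conjBy_conjBy conjBy_mono
  card_conjBy conjBy_inv_conjBy conjBy_conjBy_inv)
open CfsgLib.CFun.OffenderPair (fixS_sup chainStab)

namespace CfsgLib.CFun.MinParab.Rec

variable {H : Type*} [Group H] {V : Type*} [AddCommGroup V] [DistribMulAction H V] {p q : ℕ}

/-- Two subgroups commute elementwise. -/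
def Com (A B : Subgroup H) : Prop := ∀ a ∈ A, ∀ b ∈ B, a * b = b * a

theorem Com.symm {A B : Subgroup H} (h : Com A B) : Com B A := fun b hb a ha => (h a ha b hb).symm

theorem Com.mono {A B A' B' : Subgroup H} (h : Com A B) (hA : A' ≤ A) (hB : B' ≤ B) : Com A' B' :=
  fun a ha b hb => h a (hA ha) b (hB hb)

theorem Com.conj {A B : Subgroup H} (h : Com A B) (g : H) : Com (conjBy g A) (conjBy g B) := by
  rintro _ ⟨a, ha, rfl⟩ _ ⟨b, hb, rfl⟩
  rw [← map_mul, ← map_mul, h a ha b hb]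

theorem Com.le_normalizer {A B : Subgroup H} (h : Com A B) : A ≤ Subgroup.normalizer (B : Set H) := by
  intro a ha
  refine Subgroup.mem_normalizer_iff.2 fun x => ⟨fun hx => ?_, fun hx => ?_⟩
  · rwa [h a ha x hx, mul_inv_cancel_right]
  · have h1 := h a ha _ hx
    rw [inv_mul_cancel_right] at h1
    rwa [mul_left_cancel h1] at hx

theorem exists_mul_of_mem_sup {A B : Subgroup H} (h : Com A B) {x : H} (hx : x ∈ A ⊔ B) :
    ∃ a ∈ A, ∃ b ∈ B, x = a * b := by
  have h1 : x ∈ ((A ⊔ B : Subgroup H) : Set H) := hx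
  rw [Subgroup.coe_mul_of_left_le_normalizer_right A B h.le_normalizer] at h1
  obtain ⟨a, ha, b, hb, rfl⟩ := h1
  exact ⟨a, ha, b, hb, rfl⟩

theorem card_sup_le [Finite H] {A B : Subgroup H} (h : Com A B) :
    Nat.card ↥(A ⊔ B) ≤ Nat.card ↥A * Nat.card ↥B := by
  rw [← Nat.card_prod]
  refine Nat.card_le_card_of_surjective (fun z : ↥A × ↥B => (⟨z.1 * z.2,
    mul_mem (Subgroup.mem_sup_left z.1.2) (Subgroup.mem_sup_right z.2.2)⟩ : ↥(A ⊔ B))) fun x => ?_
  obtain ⟨a, ha, b, hb, he⟩ := exists_mul_of_mem_sup h x.2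
  exact ⟨⟨⟨a, ha⟩, ⟨b, hb⟩⟩, Subtype.ext he.symm⟩

theorem card_le_sup [Finite H] {A B : Subgroup H} (hd : A ⊓ B = ⊥) :
    Nat.card ↥A * Nat.card ↥B ≤ Nat.card ↥(A ⊔ B) := by
  rw [← Nat.card_prod]
  refine Nat.card_le_card_of_injective (fun z : ↥A × ↥B => (⟨z.1 * z.2,
    mul_mem (Subgroup.mem_sup_left z.1.2) (Subgroup.mem_sup_right z.2.2)⟩ : ↥(A ⊔ B))) ?_
  rintro ⟨a, b⟩ ⟨a', b'⟩ he
  have he' : (a : H) * b = a' * b' := congrArg Subtype.val he
  have h1 : (a' : H)⁻¹ * a = b' * (b : H)⁻¹ := by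
    rw [inv_mul_eq_iff_eq_mul, ← mul_assoc, ← he', mul_inv_cancel_right]
  have h2 : (a' : H)⁻¹ * a ∈ A ⊓ B :=
    ⟨A.mul_mem (A.inv_mem a'.2) a.2, h1 ▸ B.mul_mem b'.2 (B.inv_mem b.2)⟩
  rw [hd, Subgroup.mem_bot] at h2
  rw [h2, eq_comm, mul_inv_eq_one] at h1
  rw [inv_mul_eq_one] at h2
  exact Prod.ext (Subtype.ext h2.symm) (Subtype.ext h1.symm)

/-- The system: the context and the least order of an offender. -/
structure Sys (V : Type*) [AddCommGroup V] [DistribMulAction H V] (p q : ℕ) [Fact p.Prime] (T : Sylow p H)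
    (M : Subgroup H) : Prop where
  ctx : Ctx V p T M
  least : Least (H := H) V p q

variable [Finite H] [Finite V] [hp : Fact p.Prime] {T : Sylow p H} {M A B : Subgroup H}

namespace Sys

theorem quad (hs : Sys V p q T M) (hA : Root V p q A) {a : H} (ha : a ∈ A) (u : V) :
    a • u - u ∈ fixS V A :=
  hA.quadratic hs.least hs.ctx ha u

theorem commS_le (hs : Sys V p q T M) (hA : Root V p q A) : commS V A ≤ fixS V A :=
  commS_le_iff.2 fun _ ha u => hs.quad hA ha u

theorem sep (hs : Sys V p q T M) (hA : Root V p q A) {a : H} (ha : a ∈ A) (ha1 : a ≠ 1) {v : V}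
    (hv : a • v = v) : v ∈ fixS V A :=
  hA.sep hs.least hs.ctx ha ha1 hv

theorem card_V (hs : Sys V p q T M) (hA : Root V p q A) : Nat.card V = q * Nat.card ↥(fixS V A) :=
  hA.card_V hs.ctx

theorem card_W (hs : Sys V p q T M) (hA : Root V p q A) (hB : Root V p q B) :
    Nat.card ↥(fixS V A) = Nat.card ↥(fixS V B) := by
  refine Nat.eq_of_mul_eq_mul_left (show 0 < q from ?_) ((hs.card_V hA).symm.trans (hs.card_V hB))
  have := hs.least.two_le
  omega

/-- A root group is determined by its fixed space. -/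
theorem eq_of_W (hs : Sys V p q T M) (hA : Root V p q A) (hB : Root V p q B)
    (hW : fixS V A = fixS V B) : A = B := by
  have hA' := hA.chain hs.least hs.ctx
  have hB' : B ≤ chainStab (fixS V A) := hW ▸ hB.chain hs.least hs.ctx
  have hel : El p (A ⊔ B : Subgroup H) :=
    ⟨fun a h b h' => chain_comm hs.ctx.faith (sup_le hA' hB' h) (sup_le hA' hB' h'),
      fun a h => chain_pow hs.ctx.vp hs.ctx.faith (sup_le hA' hB' h)⟩
  have h := hs.ctx.card_le hel
  rw [fixS_sup, ← hW, inf_idem, hs.card_V hA, ← hA.card] at h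
  have hle := Subgroup.eq_of_le_of_card_ge (le_sup_left : A ≤ A ⊔ B) (Nat.le_of_mul_le_mul_right h Nat.card_pos)
  exact (Subgroup.eq_of_le_of_card_ge (hle ▸ le_sup_right : B ≤ A) (by rw [hA.card, hB.card])).symm

theorem eq_of_W_le (hs : Sys V p q T M) (hA : Root V p q A) (hB : Root V p q B)
    (hW : fixS V A ≤ fixS V B) : A = B :=
  hs.eq_of_W hA hB (AddSubgroup.eq_of_le_of_card_ge hW (hs.card_W hB hA).le)

theorem inf_eq_bot (hs : Sys V p q T M) (hA : Root V p q A) (hB : Root V p q B) (hne : A ≠ B) :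
    A ⊓ B = ⊥ := by
  rw [Subgroup.eq_bot_iff_forall]
  intro c hc
  by_contra hc1
  exact hne (hs.eq_of_W_le hA hB fun v hv => hs.sep hB hc.2 hc1 (hv c hc.1))

theorem sup_eq_top_of_com (hs : Sys V p q T M) (hA : Root V p q A) (hB : Root V p q B) (hne : A ≠ B)
    (h : Com A B) : fixS V A ⊔ fixS V B = ⊤ := by
  have h1 := hs.ctx.card_le (hA.el.sup hB.el h)
  rw [fixS_sup] at h1
  have h2 := card_le_sup (hs.inf_eq_bot hA hB hne)
  rw [hA.card, hB.card] at h2
  have h3 := card_sup_mul_card_inf (fixS V A) (fixS V B)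
  rw [hs.card_W hB hA] at h3
  have h4 := hs.card_V hA
  have hq := hs.least.two_le
  have hI : 0 < Nat.card ↥(fixS V A ⊓ fixS V B) := Nat.card_pos
  have hWpos : 0 < Nat.card ↥(fixS V A) := Nat.card_pos
  refine AddSubgroup.eq_top_of_le_card _ ?_
  have h5 : q * q * Nat.card ↥(fixS V A ⊓ fixS V B) ≤ q * Nat.card ↥(fixS V A) :=
    h4 ▸ (Nat.mul_le_mul_right _ h2).trans h1
  have h6 : q * Nat.card ↥(fixS V A ⊓ fixS V B) ≤ Nat.card ↥(fixS V A) := by
    rw [mul_assoc] at h5
    exact Nat.le_of_mul_le_mul_left h5 (by omega)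
  rw [h4]
  refine Nat.le_of_mul_le_mul_right ?_ hI
  rw [h3]
  calc q * Nat.card ↥(fixS V A) * Nat.card ↥(fixS V A ⊓ fixS V B)
      = Nat.card ↥(fixS V A) * (q * Nat.card ↥(fixS V A ⊓ fixS V B)) := by ring
    _ ≤ _ := Nat.mul_le_mul_left _ h6

/-- Commuting root groups: the commutator space of one lies in the fixed space of the other. -/
theorem le_of_com (hs : Sys V p q T M) (hA : Root V p q A) (hB : Root V p q B) (h : Com A B) :
    commS V A ≤ fixS V B := by
  by_cases hne : A = B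
  · subst hne; exact hs.commS_le hA
  refine commS_le_iff.2 fun a ha v => ?_
  obtain ⟨w, hw, w', hw', rfl⟩ :=
    AddSubgroup.mem_sup.1 (hs.sup_eq_top_of_com hA hB hne h ▸ AddSubgroup.mem_top v : v ∈ fixS V A ⊔ fixS V B)
  rw [smul_add, hw a ha, add_sub_add_left_eq_sub]
  exact AddSubgroup.sub_mem _ (smul_mem_fixS (h.le_normalizer ha) hw') hw'

theorem conjBy_eq_of_le (hs : Sys V p q T M) (hB : Root V p q B)
    (h : commS V A ≤ fixS V B) {a : H} (ha : a ∈ A) : conjBy a B = B := by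
  refine (hs.eq_of_W_le hB (hB.conj a) fun w hw => ?_).symm
  rw [fixS_conjBy, mem_tr]
  have := AddSubgroup.add_mem _ (h (sub_mem_commS (A.inv_mem ha) w)) hw
  rwa [sub_add_cancel] at this

/-- Two root groups commute if each of the commutator spaces lies in the other fixed space. -/
theorem com_of_le_le (hs : Sys V p q T M) (h1 : commS V A ≤ fixS V B) (h2 : commS V B ≤ fixS V A) : Com A B := by
  intro a ha b hb
  refine inv_mul_eq_one.1 (hs.ctx.faith _ fun v => ?_)
  rw [mul_smul, inv_smul_eq_iff, mul_smul, mul_smul]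
  have e1 := h1 (sub_mem_commS ha v) b hb
  have e2 := h2 (sub_mem_commS hb v) a ha
  rw [smul_sub] at e1 e2
  linear_combination (norm := abel) e1 - e2

/-- Two root groups commute if one commutator space lies in the other fixed space. -/
theorem com_of_le (hs : Sys V p q T M) (hA : Root V p q A) (hB : Root V p q B)
    (h : commS V A ≤ fixS V B) : Com A B := by
  by_cases hne : A = B
  · subst hne; exact hA.el.comm
  have hN : ∀ a ∈ A, conjBy a B = B := fun a ha => hs.conjBy_eq_of_le hB h ha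
  have hfix : ∀ b ∈ B, ∀ u ∈ commS V A, b • u = u := fun b hb u hu => h hu b hb
  by_cases hall : ∀ b ∈ B, conjBy b A = A
  · intro a ha b hb
    have h1 : a * b * a⁻¹ ∈ B := hN a ha ▸ conj_mem_conjBy hb
    have h2 : b * a⁻¹ * b⁻¹ ∈ A := hall b hb ▸ conj_mem_conjBy (A.inv_mem ha)
    have h3 : a * b * a⁻¹ * b⁻¹ ∈ A ⊓ B :=
      ⟨by simpa [mul_assoc] using A.mul_mem ha h2, B.mul_mem h1 (B.inv_mem hb)⟩
    rw [hs.inf_eq_bot hA hB hne, Subgroup.mem_bot, mul_inv_eq_one, mul_inv_eq_iff_eq_mul] at h3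
    exact h3
  push Not at hall
  obtain ⟨b, hb, hbA⟩ := hall
  exfalso
  set A' := conjBy b A
  have hA' : Root V p q A' := hA.conj b
  have hC : Com A A' := by
    refine hs.com_of_le_le (commS_le_iff.2 fun a ha v => ?_) ((commS_conjBy_le b A).trans ?_)
    · rw [fixS_conjBy, mem_tr, hfix b⁻¹ (B.inv_mem hb) _ (sub_mem_commS ha v)]
      exact hs.quad hA ha v
    · rintro _ ⟨u, hu, rfl⟩
      show b • u ∈ fixS V A
      rw [hfix b hb u hu]
      exact hs.commS_le hA hu
  set C : Subgroup H := B ⊓ Subgroup.centralizer (A : Set H)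
  have hAC : Com A C := fun a ha c hc => Subgroup.mem_centralizer_iff.1 hc.2 a ha
  have hle : A' ≤ A ⊔ C := by
    rintro _ ⟨a, ha, rfl⟩
    set x : H := b * a * b⁻¹ * a⁻¹ with hx
    have hxC : x ∈ C := by
      refine ⟨?_, Subgroup.mem_centralizer_iff.2 fun a' ha' => ?_⟩
      · have h1 : a * b⁻¹ * a⁻¹ ∈ B := hN a ha ▸ conj_mem_conjBy (B.inv_mem hb)
        simpa [hx, mul_assoc] using B.mul_mem hb h1
      · have h1 : a' * (b * a * b⁻¹) = (b * a * b⁻¹) * a' := hC a' ha' _ (conj_mem_conjBy ha)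
        have h2 : a' * a⁻¹ = a⁻¹ * a' := hA.el.comm a' ha' a⁻¹ (A.inv_mem ha)
        show a' * (b * a * b⁻¹ * a⁻¹) = b * a * b⁻¹ * a⁻¹ * a'
        rw [← mul_assoc, h1, mul_assoc, h2, ← mul_assoc]
    have e : b * a * b⁻¹ = x * a := by rw [hx]; group
    show b * a * b⁻¹ ∈ A ⊔ C
    rw [e]
    exact mul_mem (Subgroup.mem_sup_right hxC) (Subgroup.mem_sup_left ha)
  have h1 : q * q ≤ q * Nat.card ↥C := by
    have h2 := (card_le_sup (hs.inf_eq_bot hA hA' fun e => hbA e.symm)).trans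
      ((Subgroup.card_le_of_le (sup_le le_sup_left hle)).trans (card_sup_le hAC))
    rwa [hA'.card, hA.card] at h2
  have hC' : C = B := Subgroup.eq_of_le_of_card_ge inf_le_left (by
    rw [hB.card]
    exact Nat.le_of_mul_le_mul_left h1 (by have := hs.least.two_le; omega))
  refine hbA (conjBy_eq_iff.2 (?_ : b ∈ Subgroup.normalizer (A : Set H)))
  exact (hAC.symm.mono hC'.ge le_rfl).le_normalizer hb

theorem com_iff (hs : Sys V p q T M) (hA : Root V p q A) (hB : Root V p q B) :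
    Com A B ↔ commS V A ≤ fixS V B :=
  ⟨hs.le_of_com hA hB, hs.com_of_le hA hB⟩

/-- Commuting conjugates of `B` under `A` and of `A` under `B` force commuting. -/
theorem com_aux (hs : Sys V p q T M) (hA : Root V p q A) (hB : Root V p q B)
    (hAb : ∀ b ∈ B, Com A (conjBy b A)) {a : H} (ha : a ∈ A) (hne : B ≠ conjBy a B)
    (hc : Com B (conjBy a B)) : Com A B := by
  refine (hs.com_of_le hB hA (commS_le_iff.2 fun b hb v => ?_)).symm
  have htop := hs.sup_eq_top_of_com hB (hB.conj a) hne hc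
  rw [fixS_conjBy] at htop
  obtain ⟨w, hw, u, hu, rfl⟩ :=
    AddSubgroup.mem_sup.1 (htop ▸ AddSubgroup.mem_top v : v ∈ fixS V B ⊔ tr a (fixS V B))
  obtain ⟨w', hw', rfl⟩ := hu
  show b • (w + a • w') - (w + a • w') ∈ fixS V A
  have e : b • (w + a • w') - (w + a • w') = b • (a • w' - w') - (a • w' - w') := by
    rw [smul_add, hw b hb, smul_sub, hw' b hb]; abel
  rw [e]
  refine AddSubgroup.sub_mem _ ?_ (hs.quad hA ha w')
  have h1 := hs.le_of_com hA (hA.conj b⁻¹) (hAb b⁻¹ (B.inv_mem hb)) (sub_mem_commS ha w')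
  rwa [fixS_conjBy, mem_tr, inv_inv] at h1

/-- Root groups in a common `p`-subgroup commute. -/
theorem com_of_pgroup (hs : Sys V p q T M) :
    ∀ (n : ℕ) (R A B : Subgroup H), IsPGroup p R → Nat.card ↥R ≤ n → Root V p q A → Root V p q B →
      A ≤ R → B ≤ R → Com A B := by
  intro n
  induction n with
  | zero => exact fun R _ _ _ h => absurd h (not_le.2 Nat.card_pos)
  | succ n ih =>
    intro R A B hR hn hA hB hAR hBR
    by_cases hlt : A ⊔ B < R
    · exact ih (A ⊔ B) A B (hR.to_le hlt.le) (Nat.lt_succ_iff.1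
        (((Subgroup.card_le_of_le hlt.le).lt_of_ne fun e => hlt.ne
          (Subgroup.eq_of_le_of_card_ge hlt.le e.ge)).trans_le hn)) hA hB le_sup_left le_sup_right
    have hgen : A ⊔ B = R := (sup_le hAR hBR).eq_of_not_lt hlt
    -- a proper normal subgroup over a proper subgroup
    have key : ∀ X : Subgroup H, X ≤ R → X ≠ R →
        ∃ K, X ≤ K ∧ K < R ∧ ∀ g ∈ R, conjBy g K = K := by
      intro X hX hXR
      obtain ⟨K, ⟨hXK, hKR⟩, hKmax⟩ := (Set.toFinite {K : Subgroup H | X ≤ K ∧ K < R}).exists_maximal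
        ⟨X, le_rfl, lt_of_le_of_ne hX hXR⟩
      refine ⟨K, hXK, hKR, fun g hg => conjBy_eq_iff.2 ?_⟩
      haveI : Group.IsNilpotent R := hR.isNilpotent
      have h1 := CfsgLib.Fusion.lt_inf_normalizer (P := R) (T := K) hKR.le hKR.ne
      have h2 : R ⊓ Subgroup.normalizer (K : Set H) = R := by
        by_contra hne
        exact h1.not_ge (hKmax ⟨hXK.trans h1.le, lt_of_le_of_ne inf_le_left hne⟩ h1.le)
      exact (h2.ge hg).2
    have conjcom : ∀ X : Subgroup H, Root V p q X → X ≤ R → ∀ g ∈ R, Com X (conjBy g X) := by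
      intro X hX hXR g hg
      by_cases hXeq : X = R
      · refine Com.mono (fun a ha b hb => hX.el.comm a ha b hb) le_rfl ?_
        refine conjBy_le_iff.2 fun x hx => ?_
        rw [hXeq] at hx ⊢
        exact R.mul_mem (R.mul_mem hg hx) (R.inv_mem hg)
      obtain ⟨K, hXK, hKR, hK⟩ := key X hXR hXeq
      exact ih K X (conjBy g X) (hR.to_le hKR.le) (Nat.lt_succ_iff.1
        (((Subgroup.card_le_of_le hKR.le).lt_of_ne fun e => hKR.ne
          (Subgroup.eq_of_le_of_card_ge hKR.le e.ge)).trans_le hn)) hX (hX.conj g) hXK (hK g hg ▸ conjBy_mono hXK)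
    have hAb : ∀ b ∈ B, Com A (conjBy b A) := fun b hb => conjcom A hA hAR b (hBR hb)
    have hBa : ∀ a ∈ A, Com B (conjBy a B) := fun a ha => conjcom B hB hBR a (hAR ha)
    by_cases hne : A = B
    · subst hne; exact hA.el.comm
    by_cases h1 : ∃ a ∈ A, B ≠ conjBy a B
    · obtain ⟨a, ha, hab⟩ := h1
      exact hs.com_aux hA hB hAb ha hab (hBa a ha)
    by_cases h2 : ∃ b ∈ B, A ≠ conjBy b A
    · obtain ⟨b, hb, hab⟩ := h2
      exact (hs.com_aux hB hA hBa hb hab (hAb b hb)).symm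
    push Not at h1 h2
    intro a ha b hb
    have h3 : a * b * a⁻¹ ∈ B := by
      rw [h1 a ha]; exact conj_mem_conjBy hb
    have h4 : b * a⁻¹ * b⁻¹ ∈ A := by
      rw [h2 b hb]; exact conj_mem_conjBy (A.inv_mem ha)
    have h5 : a * b * a⁻¹ * b⁻¹ ∈ A ⊓ B :=
      ⟨by simpa [mul_assoc] using A.mul_mem ha h4, B.mul_mem h3 (B.inv_mem hb)⟩
    rw [hs.inf_eq_bot hA hB hne, Subgroup.mem_bot, mul_inv_eq_one, mul_inv_eq_iff_eq_mul] at h5
    exact h5

theorem com_in (hs : Sys V p q T M) {R : Subgroup H} (hR : IsPGroup p R) (hA : Root V p q A) (hB : Root V p q B)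
    (hAR : A ≤ R) (hBR : B ≤ R) : Com A B :=
  hs.com_of_pgroup _ R A B hR le_rfl hA hB hAR hBR

end Sys

end CfsgLib.CFun.MinParab.Rec
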