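import Cfsg.Agent.Lib.CFun.MinParab.Rec.Coord

/-!
# A root group commuting with `B` centralizes its block

Let `L` be a natural block at `B` over more than two scalars and `E ≠ B` a root group commuting with `B`. If `E`
did not commute with the other root groups of `L`, the torus would produce a root group whose fixed space
contains both halves `Ux` and `Uy` of the complement `U` of the fixed points of `L`, which is impossible.
-/

set_option autoImplicit false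
set_option linter.unusedSectionVars false
set_option linter.style.haveILetI false

open CfsgLib.Char.NatSL (fixS mem_fixS fixS_mono tr mem_tr card_tr smul_mem_tr card_sup_mul_card_inf)
open CfsgLib.Fusion (conjBy mem_conjBy conj_mem_conjBy conjBy_eq_iff conjBy_conjBy_inv)
open CfsgLib.CFun.OffenderPair (fixS_sup chainStab)

namespace CfsgLib.CFun.MinParab.Rec

variable {H : Type*} [Group H] {V : Type*} [AddCommGroup V] [DistribMulAction H V] {p q : ℕ}
  {B L : Subgroup H} {F : Type} [Field F]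

namespace Coord

/-- The commutator space of a torus element. -/
def U (c : Coord V B L F) (s : F) : AddSubgroup V :=
  AddMonoidHom.range (AddMonoidHom.mk' (fun v : V => c.tor s • v - v) fun u v => by rw [smul_add]; abel)

theorem mem_U {c : Coord V B L F} {s : F} {u : V} : u ∈ c.U s ↔ ∃ w, c.tor s • w - w = u := Iff.rfl

theorem fix_L (c : Coord V B L F) {g : H} (hg : g ∈ L) {v : V} (hv : ψ c v = 0) : g • v = v :=
  (c.ker v).1 hv g hg

theorem ψ_sub_tor (c : Coord V B L F) {s : F} (hs : s ≠ 0) (w : V) :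
    c.ψ (c.tor s • w - w) = ((s - 1) * (c.ψ w).1, (s⁻¹ - 1) * (c.ψ w).2) := by
  rw [map_sub, c.tor_ψ s hs]
  exact Prod.ext (by simp [sub_mul]) (by simp [sub_mul])

theorem U_eq_zero (c : Coord V B L F) {s : F} (hs : s ≠ 0) (hs1 : s ≠ 1) {u : V} (hu : u ∈ c.U s)
    (h : c.ψ u = 0) : u = 0 := by
  obtain ⟨w, rfl⟩ := mem_U.1 hu
  rw [c.ψ_sub_tor hs] at h
  have hw : c.ψ w = 0 := by
    refine Prod.ext ?_ ?_
    · exact (mul_eq_zero.1 (congrArg Prod.fst h)).resolve_left (sub_ne_zero.2 hs1)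
    · exact (mul_eq_zero.1 (congrArg Prod.snd h)).resolve_left
        (sub_ne_zero.2 fun e => hs1 (inv_eq_one.1 e))
  rw [c.fix_L (c.tor_mem s) hw, sub_self]

theorem U_ext (c : Coord V B L F) {s : F} (hs : s ≠ 0) (hs1 : s ≠ 1) {u u' : V} (hu : u ∈ c.U s)
    (hu' : u' ∈ c.U s) (h : c.ψ u = c.ψ u') : u = u' :=
  sub_eq_zero.1 (c.U_eq_zero hs hs1 ((c.U s).sub_mem hu hu') (by rw [map_sub, h, sub_self]))

theorem exists_U (c : Coord V B L F) {s : F} (hs : s ≠ 0) (hs1 : s ≠ 1) (z : F × F) :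
    ∃ u ∈ c.U s, c.ψ u = z := by
  obtain ⟨w, hw⟩ := c.surj ((s - 1)⁻¹ * z.1, (s⁻¹ - 1)⁻¹ * z.2)
  refine ⟨_, mem_U.2 ⟨w, rfl⟩, ?_⟩
  rw [c.ψ_sub_tor hs, hw]
  exact Prod.ext (mul_inv_cancel_left₀ (sub_ne_zero.2 hs1) _)
    (mul_inv_cancel_left₀ (sub_ne_zero.2 fun e => hs1 (inv_eq_one.1 e)) _)

/-- The first half of the complement. -/
def Ux (c : Coord V B L F) (s : F) : AddSubgroup V where
  carrier := {u | u ∈ c.U s ∧ (c.ψ u).2 = 0}
  zero_mem' := ⟨zero_mem _, by simp⟩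
  add_mem' := fun {a b} ha hb => ⟨add_mem ha.1 hb.1, by simp [ha.2, hb.2]⟩
  neg_mem' := fun {a} ha => ⟨neg_mem ha.1, by simp [ha.2]⟩

/-- The second half of the complement. -/
def Uy (c : Coord V B L F) (s : F) : AddSubgroup V where
  carrier := {u | u ∈ c.U s ∧ (c.ψ u).1 = 0}
  zero_mem' := ⟨zero_mem _, by simp⟩
  add_mem' := fun {a b} ha hb => ⟨add_mem ha.1 hb.1, by simp [ha.2, hb.2]⟩
  neg_mem' := fun {a} ha => ⟨neg_mem ha.1, by simp [ha.2]⟩

theorem decomp (c : Coord V B L F) {s : F} (hs : s ≠ 0) (hs1 : s ≠ 1) (v : V) :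
    ∃ z ∈ fixS V L, ∃ x ∈ c.Ux s, ∃ y ∈ c.Uy s, v = z + x + y := by
  obtain ⟨x, hx, hxψ⟩ := c.exists_U hs hs1 ((c.ψ v).1, 0)
  obtain ⟨y, hy, hyψ⟩ := c.exists_U hs hs1 (0, (c.ψ v).2)
  refine ⟨v - x - y, (c.ker _).1 ?_, x, ⟨hx, by rw [hxψ]⟩, y, ⟨hy, by rw [hyψ]⟩, by abel⟩
  rw [map_sub, map_sub, hxψ, hyψ]
  exact Prod.ext (by simp) (by simp)

theorem tor_mem_U (c : Coord V B L F) {s t : F} (hs : s ≠ 0) (ht : t ≠ 0) {u : V} (hu : u ∈ c.U s) :
    c.tor t • u ∈ c.U s := by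
  obtain ⟨w, rfl⟩ := mem_U.1 hu
  exact mem_U.2 ⟨c.tor t • w, by rw [smul_sub, ← mul_smul, ← mul_smul, c.tor_comm s t hs ht]⟩

theorem tor_mem_Ux (c : Coord V B L F) {s t : F} (hs : s ≠ 0) (ht : t ≠ 0) {u : V} (hu : u ∈ c.Ux s) :
    c.tor t • u ∈ c.Ux s :=
  ⟨c.tor_mem_U hs ht hu.1, by rw [c.tor_ψ t ht, hu.2, mul_zero]⟩

theorem tor_mem_Uy (c : Coord V B L F) {s t : F} (hs : s ≠ 0) (ht : t ≠ 0) {u : V} (hu : u ∈ c.Uy s) :
    c.tor t • u ∈ c.Uy s :=
  ⟨c.tor_mem_U hs ht hu.1, by rw [c.tor_ψ t ht, hu.2, mul_zero]⟩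

theorem wl_mem_U (c : Coord V B L F) {s : F} (hs : s ≠ 0) {u : V} (hu : u ∈ c.U s) :
    c.wl • u ∈ c.U s := by
  obtain ⟨w, rfl⟩ := mem_U.1 hu
  refine mem_U.2 ⟨-(c.tor s⁻¹ • (c.wl • w)), ?_⟩
  rw [smul_neg, ← mul_smul, c.tor_inv s hs, one_smul, smul_sub, ← mul_smul c.wl (c.tor s), c.wl_tor s hs, mul_smul]
  abel

theorem wl_Ux (c : Coord V B L F) {s : F} (hs : s ≠ 0) {u : V} (hu : u ∈ c.Ux s) : c.wl • u ∈ c.Uy s :=
  ⟨c.wl_mem_U hs hu.1, by rw [c.wl_ψ, hu.2, neg_zero]⟩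

theorem wl_Uy (c : Coord V B L F) {s : F} (hs : s ≠ 0) {u : V} (hu : u ∈ c.Uy s) : c.wl • u ∈ c.Ux s :=
  ⟨c.wl_mem_U hs hu.1, by rw [c.wl_ψ]; exact hu.2⟩

theorem Ux_Uy_eq_zero (c : Coord V B L F) {s : F} (hs : s ≠ 0) (hs1 : s ≠ 1) {u : V} (h : u ∈ c.Ux s)
    (h' : u ∈ c.Uy s) : u = 0 :=
  c.U_eq_zero hs hs1 h.1 (Prod.ext h'.2 h.2)

theorem Ux_le_commS (c : Coord V B L F) {s : F} (hs : s ≠ 0) (hs1 : s ≠ 1) : c.Ux s ≤ commS V B := by
  intro u hu
  obtain ⟨hu1, hu2⟩ := hu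
  obtain ⟨w, rfl⟩ := mem_U.1 hu1
  rw [c.ψ_sub_tor hs] at hu2
  have hw2 : (c.ψ w).2 = 0 :=
    (mul_eq_zero.1 hu2).resolve_left (sub_ne_zero.2 fun e => hs1 (inv_eq_one.1 e))
  obtain ⟨v, hv⟩ := c.surj (0, 1)
  set v' := c.ub (c.ψ w).1 • v - v with hv'
  have h1 : c.ψ v' = c.ψ w := by
    rw [hv', map_sub, c.ub_ψ, hv]
    exact Prod.ext (by simp) (by simp [hw2])
  have h2 : c.tor s • (w - v') = w - v' := c.fix_L (c.tor_mem s) (by rw [map_sub, h1, sub_self])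
  have h3 : c.tor s • w - w = c.tor s • v' - v' := by
    rw [smul_sub] at h2
    linear_combination (norm := abel) h2
  rw [h3]
  have h4 : v' ∈ commS V B := sub_mem_commS (c.ub_mem _) v
  exact (commS V B).sub_mem (smul_mem_commS (conjBy_eq_iff.1 (c.torN s hs)) h4) h4

variable [Finite H] [Finite V] [hp : Fact p.Prime] {T : Sylow p H} {M E : Subgroup H}

/-- No root group acts into `Ux` and fixes both halves. -/
theorem no_root (hs : Sys V p q T M) (c : Coord V B L F) {s : F} (hs0 : s ≠ 0) (hs1 : s ≠ 1) {G : Subgroup H}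
    (hG : Root V p q G) (hX : commS V G ≤ c.Ux s) (hx : c.Ux s ≤ fixS V G) (hy : c.Uy s ≤ fixS V G) : False := by
  have he : conjBy c.wl G = G := by
    refine hs.eq_of_W_le (hG.conj _) hG fun v hv => ?_
    rw [fixS_conjBy] at hv
    obtain ⟨u, hu, rfl⟩ := hv
    obtain ⟨z, hz, x, hxm, y, hym, rfl⟩ := c.decomp hs0 hs1 u
    show c.wl • (z + x + y) ∈ fixS V G
    rw [smul_add, smul_add, hz _ c.wl_mem]
    refine add_mem (add_mem ?_ (hy (c.wl_Ux hs0 hxm))) (hx (c.wl_Uy hs0 hym))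
    have := sub_mem (sub_mem hu (hy hym)) (hx hxm)
    simpa using this
  obtain ⟨g, hg, hg1⟩ := hG.exists_ne_one hs.least
  refine hg1 (hs.ctx.faith g fun v => sub_eq_zero.1 ?_)
  have h1 := hX (sub_mem_commS hg v)
  refine c.Ux_Uy_eq_zero hs0 hs1 h1 ?_
  have h2 : g • v - v ∈ tr c.wl (commS V G) :=
    commS_conjBy_le c.wl G (he.symm ▸ sub_mem_commS hg v)
  obtain ⟨u, hu, hue⟩ := h2
  rw [← hue]
  exact c.wl_Ux hs0 (hX hu)

/-- A root group commuting with `B` centralizes the block. -/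
theorem com_block (hs : Sys V p q T M) [Fintype F] (c : Coord V B L F) (hF : Fintype.card F = q) (hq : 2 < q)
    (hB : Root V p q B) (hE : Root V p q E) (hEB : Com E B) (hne : E ≠ B) : Com E L := by
  classical
  obtain ⟨s, hs0, hs1⟩ : ∃ s : F, s ≠ 0 ∧ s ≠ 1 := by
    by_contra! h
    have h1 : (Finset.univ : Finset F).card ≤ ({0, 1} : Finset F).card := Finset.card_le_card fun x _ => by
      rcases eq_or_ne x 0 with h0 | h0
      · simp [h0]
      · simp [h x h0]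
    rw [Finset.card_univ, hF] at h1
    have h2 := Finset.card_le_two (a := (0 : F)) (b := 1)
    omega
  suffices hgoal : Com E (conjBy c.wl B) by
    intro e he x hx
    rw [← c.gen] at hx
    have h1 : B ⊔ conjBy c.wl B ≤ Subgroup.centralizer ({e} : Set H) :=
      sup_le (fun b hb => Subgroup.mem_centralizer_iff.2 fun z hz => by
          rw [Set.mem_singleton_iff.1 hz]; exact hEB e he b hb)
        (fun b hb => Subgroup.mem_centralizer_iff.2 fun z hz => by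
          rw [Set.mem_singleton_iff.1 hz]; exact hgoal e he b hb)
    exact Subgroup.mem_centralizer_iff.1 (h1 hx) e rfl
  set C := fixS V L with hC
  set WE := fixS V E with hWE
  set WB := fixS V B with hWB
  set I := WE ⊓ WB with hI
  have htop : WE ⊔ WB = ⊤ := hs.sup_eq_top_of_com hE hB hne hEB
  have hUxB : c.Ux s ≤ WB := fun u hu => (c.memW u).2 hu.2
  have hUxE : c.Ux s ≤ WE := (c.Ux_le_commS hs0 hs1).trans (hs.le_of_com hB hE hEB.symm)
  have hCB : C ≤ WB := fixS_mono c.le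
  -- the parts
  have hWBdec : ∀ v ∈ WB, ∃ z ∈ C, ∃ x ∈ c.Ux s, v = z + x := by
    intro v hv
    obtain ⟨z, hz, x, hx, y, hy, rfl⟩ := c.decomp hs0 hs1 v
    have h1 : y ∈ WB := by
      have := sub_mem hv (add_mem (hCB hz) (hUxB hx))
      simpa using this
    have h2 : y = 0 := c.U_eq_zero hs0 hs1 hy.1 (Prod.ext hy.2 ((c.memW y).1 h1))
    exact ⟨z, hz, x, hx, by rw [h2, add_zero]⟩
  have hσ : ∀ y : V, ∃ z ∈ C, y + z ∈ WE := by
    intro y
    obtain ⟨we, hwe, wb, hwb, hy⟩ := AddSubgroup.mem_sup.1 (htop ▸ AddSubgroup.mem_top y : y ∈ WE ⊔ WB)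
    obtain ⟨z, hz, x, hx, rfl⟩ := hWBdec wb hwb
    refine ⟨-z, neg_mem hz, ?_⟩
    have e : y + -z = we + x := by rw [← hy]; abel
    rw [e]
    exact add_mem hwe (hUxE hx)
  have hcardI : q * q * Nat.card ↥I = Nat.card V := by
    have h1 := card_sup_mul_card_inf WE WB
    rw [htop, AddSubgroup.card_top, hs.card_W hB hE, hs.card_V hE] at h1
    rw [hs.card_V hE]
    have h3 : 0 < Nat.card ↥WE := Nat.card_pos
    have h4 : q * Nat.card ↥I = Nat.card ↥WE := by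
      refine Nat.eq_of_mul_eq_mul_left h3 ?_
      rw [← h1]; ring
    rw [mul_assoc, h4]
  -- the group of elements between `V` and `I`
  set Γ := chainStab (H := H) I with hΓ
  have hEle : E ≤ Γ := fun e he =>
    ⟨fun _ hw => hw.1 e he, fun v => ⟨hs.quad hE he v, hs.le_of_com hE hB hEB (sub_mem_commS he v)⟩⟩
  have hBle : B ≤ Γ := fun b hb =>
    ⟨fun _ hw => hw.2 b hb, fun v => ⟨hs.le_of_com hB hE hEB.symm (sub_mem_commS hb v), hs.quad hB hb v⟩⟩
  have hΓel : El p Γ := ⟨fun a ha b hb => chain_comm hs.ctx.faith ha hb,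
    fun a ha => chain_pow hs.ctx.vp hs.ctx.faith ha⟩
  have hΓcard : Nat.card ↥Γ ≤ q * q := by
    refine Nat.le_of_mul_le_mul_right ?_ (Nat.card_pos : 0 < Nat.card ↥I)
    rw [hcardI]
    exact (Nat.mul_le_mul_left _ (AddSubgroup.card_le_of_le fun w hw g hg => hg.1 w hw)).trans
      (hs.ctx.card_le hΓel)
  have hΓeq : ∀ G₁ G₂ : Subgroup H, Root V p q G₁ → Root V p q G₂ → G₁ ≠ G₂ → G₁ ≤ Γ → G₂ ≤ Γ →
      G₁ ⊔ G₂ = Γ := by
    intro G₁ G₂ h1 h2 h12 h1Γ h2Γ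
    refine Subgroup.eq_of_le_of_card_ge (sup_le h1Γ h2Γ) (hΓcard.trans ?_)
    have := card_le_sup (hs.inf_eq_bot h1 h2 h12)
    rwa [h1.card, h2.card] at this
  have hBE : B ⊔ E = Γ := hΓeq B E hB hE hne.symm hBle hEle
  have hadd : ∀ {g h : H}, g ∈ Γ → h ∈ Γ → ∀ v : V, (g * h) • v - v = (g • v - v) + (h • v - v) := by
    intro g h hg hh v
    have e := hg.1 _ (hh.2 v)
    rw [smul_sub] at e
    rw [mul_smul]
    linear_combination (norm := abel) e
  have hconjΓ : ∀ t : F, t ≠ 0 → ∀ g ∈ Γ, c.tor t * g * (c.tor t)⁻¹ ∈ Γ := by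
    intro t ht g hg
    have hinv : ∀ v ∈ I, c.tor t • v ∈ I := by
      intro v hv
      obtain ⟨z, hz, x, hx, rfl⟩ := hWBdec v hv.2
      rw [smul_add, hz _ (c.tor_mem t)]
      have h1 : z ∈ I := by
        have := sub_mem hv ⟨hUxE hx, hUxB hx⟩
        simpa using this
      exact add_mem h1 ⟨hUxE (c.tor_mem_Ux hs0 ht hx), hUxB (c.tor_mem_Ux hs0 ht hx)⟩
    have hinv' : ∀ v ∈ I, (c.tor t)⁻¹ • v ∈ I := by
      intro v hv
      have h1 : (c.tor t)⁻¹ = c.tor t⁻¹ := inv_eq_of_mul_eq_one_right (c.tor_inv t ht)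
      obtain ⟨z, hz, x, hx, rfl⟩ := hWBdec v hv.2
      rw [h1, smul_add, hz _ (c.tor_mem _)]
      have h2 : z ∈ I := by
        have := sub_mem hv ⟨hUxE hx, hUxB hx⟩
        simpa using this
      exact add_mem h2 ⟨hUxE (c.tor_mem_Ux hs0 (inv_ne_zero ht) hx), hUxB (c.tor_mem_Ux hs0 (inv_ne_zero ht) hx)⟩
    refine ⟨fun w hw => ?_, fun v => ?_⟩
    · rw [mul_smul, mul_smul, hg.1 _ (hinv' w hw), smul_inv_smul]
    · have h1 := hinv _ (hg.2 ((c.tor t)⁻¹ • v))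
      rwa [smul_sub, smul_inv_smul, ← mul_smul, ← mul_smul] at h1
  have hsplit : ∀ t : F, t ≠ 0 → ∀ e ∈ E, ∃ b ∈ B, ∃ e' ∈ E, c.tor t * e * (c.tor t)⁻¹ = b * e' :=
    fun t ht e he => exists_mul_of_mem_sup hEB.symm (hBE.symm ▸ hconjΓ t ht e (hEle he))
  -- values on the fixed points of the block
  have hδ : ∀ (t : F) (e : H) (v : V), (c.tor t * e * (c.tor t)⁻¹) • (c.tor t • v) - c.tor t • v =
      c.tor t • (e • v - v) := fun t e v => by
    rw [smul_sub, ← mul_smul, ← mul_smul, inv_mul_cancel_right]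
  have hKC : ∀ {t : F} {e b e' : H}, t ≠ 0 → e ∈ E → b ∈ B → e' ∈ E →
      c.tor t * e * (c.tor t)⁻¹ = b * e' → ∀ z ∈ C, e' • z - z = c.tor t • (e • z - z) := by
    intro t e b e' ht he hb he' heq z hz
    have h1 := hδ t e z
    rw [hz _ (c.tor_mem t), heq, hadd (hBle hb) (hEle he'), hCB hz b hb, sub_self, zero_add] at h1
    exact h1
  let K : H → V → F := fun e z => (c.ψ (e • z - z)).1
  have hKmul : ∀ {e e' : H}, e ∈ E → e' ∈ E → ∀ z, K (e * e') z = K e z + K e' z := fun he he' z => by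
    show (c.ψ _).1 = _
    rw [hadd (hEle he) (hEle he') z, map_add]
    rfl
  have hKinv : ∀ {e : H}, e ∈ E → ∀ z, K e⁻¹ z = -K e z := fun he z => by
    have h := hKmul he (E.inv_mem he) z
    rw [mul_inv_cancel] at h
    have h1 : K 1 z = 0 := by show (c.ψ _).1 = 0; simp
    rw [h1] at h
    linear_combination -h
  have hψI : ∀ {e : H}, e ∈ E → ∀ v, (c.ψ (e • v - v)).2 = 0 := fun he v =>
    (c.memW _).1 ((hEle he).2 v).2
  by_cases hK0 : ∀ e ∈ E, ∀ z ∈ C, K e z = 0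
  · refine hs.com_of_le hE (hB.conj _) (commS_le_iff.2 fun e he v => ?_)
    have h0 : ∀ z ∈ C, e • z - z ∈ C := fun z hz => (c.ker _).1 (Prod.ext (hK0 e he z hz) (hψI he z))
    have hCF : C ≤ fixS V (conjBy c.wl B) := fun z hz g hg => by
      refine hz g ?_
      rw [← c.gen]
      exact Subgroup.mem_sup_right hg
    obtain ⟨z, hz, x, hx, y, hy, rfl⟩ := c.decomp hs0 hs1 v
    obtain ⟨z', hz', hz'E⟩ := hσ y
    have e1 : e • (z + x + y) - (z + x + y) = (e • z - z) - (e • z' - z') := by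
      have h1 := hz'E e he
      rw [smul_add] at h1
      rw [smul_add, smul_add, hUxE hx e he]
      linear_combination (norm := abel) h1
    rw [e1]
    exact sub_mem (hCF (h0 z hz)) (hCF (h0 z' hz'))
  exfalso
  push Not at hK0
  obtain ⟨e₀, he₀, z₀, hz₀, hk⟩ := hK0
  set k := K e₀ z₀ with hkdef
  -- every scalar occurs, so `K · z₀` is injective on `E`
  have hex : ∀ t : F, ∃ e : ↥E, K e z₀ = t * k := by
    intro t
    by_cases ht : t = 0
    · refine ⟨1, ?_⟩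
      show (c.ψ ((1 : H) • z₀ - z₀)).1 = t * k
      simp [ht]
    obtain ⟨b, hb, e', he', heq⟩ := hsplit t ht e₀ he₀
    refine ⟨⟨e', he'⟩, ?_⟩
    show (c.ψ (e' • z₀ - z₀)).1 = t * k
    rw [hKC ht he₀ hb he' heq z₀ hz₀, c.tor_ψ t ht]
  choose et het using hex
  have hetb : Function.Bijective et := by
    refine (Nat.bijective_iff_injective_and_card et).2 ⟨fun a b h => ?_, by rw [Nat.card_eq_fintype_card, hF, hE.card]⟩
    have h1 := het a
    rw [h, het b] at h1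
    exact (mul_right_cancel₀ hk h1).symm
  have hKinj : ∀ {e : H}, e ∈ E → K e z₀ = 0 → e = 1 := by
    intro e he h
    obtain ⟨t, ht⟩ := hetb.2 ⟨e, he⟩
    obtain ⟨t', ht'⟩ := hetb.2 ⟨1, E.one_mem⟩
    have h1 := het t
    have h2 := het t'
    rw [ht] at h1
    rw [ht'] at h2
    have h2' : t' * k = 0 := h2.symm.trans (by show (c.ψ ((1 : H) • z₀ - z₀)).1 = 0; simp)
    have h1' : t * k = 0 := h1.symm.trans h
    have e1 : t = t' := ((mul_eq_zero.1 h1').resolve_right hk).trans ((mul_eq_zero.1 h2').resolve_right hk).symm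
    rw [e1, ht'] at ht
    exact (congrArg Subtype.val ht).symm
  have hCUx : ∀ e ∈ E, ∀ z ∈ C, e • z - z ∈ c.Ux s := by
    intro e he z hz
    set e₁ := et (K e z₀ / k / (s - 1)) with he₁
    obtain ⟨b, hb, e', he', heq⟩ := hsplit s hs0 e₁ e₁.2
    have hf : ∀ z ∈ C, (e' * (e₁ : H)⁻¹) • z - z = c.tor s • ((e₁ : H) • z - z) - ((e₁ : H) • z - z) := by
      intro z hz
      have h1 := hadd (hEle (E.mul_mem he' (E.inv_mem e₁.2))) (hEle e₁.2) z
      rw [inv_mul_cancel_right, hKC hs0 e₁.2 hb he' heq z hz] at h1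
      linear_combination (norm := abel) -h1
    have hfe : e' * (e₁ : H)⁻¹ = e := by
      refine mul_inv_eq_one.1 (hKinj (E.mul_mem (E.mul_mem he' (E.inv_mem e₁.2)) (E.inv_mem he)) ?_)
      rw [hKmul (E.mul_mem he' (E.inv_mem e₁.2)) (E.inv_mem he), hKinv he]
      show (c.ψ ((e' * (e₁ : H)⁻¹) • z₀ - z₀)).1 + _ = 0
      rw [hf z₀ hz₀, c.ψ_sub_tor hs0]
      show (s - 1) * K e₁ z₀ + -K e z₀ = 0
      rw [he₁, het]
      have := sub_ne_zero.2 hs1
      field_simp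
      ring
    have h1 := hf z hz
    rw [hfe] at h1
    exact ⟨mem_U.2 ⟨_, h1.symm⟩, hψI he z⟩
  have hXE : commS V E ≤ c.Ux s := commS_le_iff.2 fun e he v => by
    obtain ⟨z, hz, x, hx, y, hy, rfl⟩ := c.decomp hs0 hs1 v
    obtain ⟨z', hz', hz'E⟩ := hσ y
    have e1 : e • (z + x + y) - (z + x + y) = (e • z - z) - (e • z' - z') := by
      have h1 := hz'E e he
      rw [smul_add] at h1
      rw [smul_add, smul_add, hUxE hx e he]
      linear_combination (norm := abel) h1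
    rw [e1]
    exact sub_mem (hCUx e he z hz) (hCUx e he z' hz')
  -- a torus translate of a given element of `Uy`
  have hlift : ∀ y ∈ c.Uy s, ∃ y₀ ∈ c.Uy s, y = y₀ - c.tor s • y₀ := by
    intro y hy
    obtain ⟨y₀, hy₀, hψ⟩ := c.exists_U hs0 hs1 (0, (c.ψ y).2 / (1 - s⁻¹))
    have hy₀' : y₀ ∈ c.Uy s := ⟨hy₀, by rw [hψ]⟩
    refine ⟨y₀, hy₀', c.U_ext hs0 hs1 hy.1 (sub_mem hy₀ (c.tor_mem_U hs0 hs0 hy₀)) ?_⟩
    rw [map_sub, c.tor_ψ s hs0, hψ]
    have h1 : (1 : F) - s⁻¹ ≠ 0 := sub_ne_zero.2 fun e => hs1 (inv_eq_one.1 e.symm)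
    refine Prod.ext (by simp [hy.2]) ?_
    show (c.ψ y).2 = (c.ψ y).2 / (1 - s⁻¹) - s⁻¹ * ((c.ψ y).2 / (1 - s⁻¹))
    field_simp
  by_cases hEs : conjBy (c.tor s) E = E
  · refine c.no_root hs hs0 hs1 hE hXE hUxE fun y hy => ?_
    obtain ⟨y₀, hy₀, rfl⟩ := hlift y hy
    obtain ⟨z, hz, hzE⟩ := hσ y₀
    have h1 : c.tor s • (y₀ + z) ∈ fixS V E := smul_mem_fixS (conjBy_eq_iff.1 hEs) hzE
    have := sub_mem hzE h1
    rw [smul_add, hz _ (c.tor_mem s)] at this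
    simpa using this
  have hXΓ : commS V Γ ≤ c.Ux s := by
    have h1 : conjBy (c.tor s) E ≤ Γ := by
      rintro _ ⟨e, he, rfl⟩
      exact hconjΓ s hs0 e (hEle he)
    rw [← hΓeq E _ hE (hE.conj _) (fun e => hEs e.symm) hEle h1, commS_sup]
    refine sup_le hXE ((commS_conjBy_le _ E).trans ?_)
    rintro _ ⟨u, hu, rfl⟩
    exact c.tor_mem_Ux hs0 hs0 (hXE hu)
  have hlin : ∀ e ∈ E, ∃ b ∈ B, ∀ y ∈ c.Uy s, b • y - y = e • y - y := by
    intro e he
    obtain ⟨b₁, hb₁, e', he', heq⟩ := hsplit s hs0 e he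
    obtain ⟨d, hd⟩ := c.exists_ub b₁ hb₁
    refine ⟨c.ub (d / (s * s * (1 - s⁻¹))), c.ub_mem _, fun y hy => ?_⟩
    have hyb : (c.ub (d / (s * s * (1 - s⁻¹)))) • y - y ∈ c.Ux s :=
      hXΓ (sub_mem_commS (hBle (c.ub_mem _)) y)
    refine c.U_ext hs0 hs1 hyb.1 (hXE (sub_mem_commS he y)).1 (Prod.ext ?_ ?_)
    swap
    · rw [hyb.2, (hXE (sub_mem_commS he y)).2]
    obtain ⟨y₀, hy₀, hye⟩ := hlift y hy
    obtain ⟨z, hz, hzE⟩ := hσ y₀
    have h1 := hδ s e y₀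
    rw [heq, hadd (hBle hb₁) (hEle he')] at h1
    have h2 : e' • (c.tor s • y₀) - c.tor s • y₀ =
        c.tor s • (e • y₀ - y₀) - (b₁ • (c.tor s • y₀) - c.tor s • y₀) := by
      linear_combination (norm := abel) h1
    -- the element `e'` on the graph of `y₀` and of `tor s • y₀`
    obtain ⟨z₁, hz₁, hz₁E⟩ := hσ (c.tor s • y₀)
    have h3 : c.ψ (e • y - y) = c.ψ (e • y₀ - y₀) - c.ψ (e • (c.tor s • y₀) - c.tor s • y₀) := by
      rw [← map_sub, hye, smul_sub]; congr 1; abel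
    have h4 : e' • (c.tor s • y₀) - c.tor s • y₀ = c.tor s • (e • (c.tor s • y₀) - c.tor s • y₀) := by
      have i1 := hz₁E e' he'
      have i2 := hz₁E e he
      rw [smul_add] at i1 i2
      have i1' : e' • (c.tor s • y₀) - c.tor s • y₀ = -(e' • z₁ - z₁) := by
        linear_combination (norm := abel) i1
      have i2' : e • (c.tor s • y₀) - c.tor s • y₀ = -(e • z₁ - z₁) := by
        linear_combination (norm := abel) i2
      rw [i1', i2', smul_neg, hKC hs0 he hb₁ he' heq z₁ hz₁]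
    rw [h4] at h2
    have h5 := congrArg (fun v => (c.ψ v).1) h2
    simp only [map_sub, c.tor_ψ s hs0, Prod.fst_sub, ← hd, c.ub_ψ, hy₀.2, mul_zero] at h5
    rw [h3]
    simp only [map_sub, c.tor_ψ s hs0, Prod.fst_sub, c.ub_ψ, hy.2, hy₀.2, mul_zero] at h5 ⊢
    have hy2 : (c.ψ y).2 = (1 - s⁻¹) * (c.ψ y₀).2 := by
      rw [hye, map_sub, c.tor_ψ s hs0]; show _ - _ = _; ring
    have h1' : (1 : F) - s⁻¹ ≠ 0 := sub_ne_zero.2 fun e => hs1 (inv_eq_one.1 e.symm)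
    rw [hy2]
    field_simp at h5 ⊢
    linear_combination h5
  set Pg : Subgroup H := Γ ⊓ ⨅ y ∈ c.Uy s, MulAction.stabilizer H y with hP
  have hPmem : ∀ e ∈ E, ∃ b ∈ B, e * b⁻¹ ∈ Pg := by
    intro e he
    obtain ⟨b, hb, hby⟩ := hlin e he
    refine ⟨b, hb, Γ.mul_mem (hEle he) (Γ.inv_mem (hBle hb)), Subgroup.mem_iInf.2 fun y =>
      Subgroup.mem_iInf.2 fun hy => MulAction.mem_stabilizer_iff.2 (sub_eq_zero.1 ?_)⟩
    have h1 := hadd (hBle hb) (Γ.inv_mem (hBle hb)) y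
    rw [mul_inv_cancel, one_smul, sub_self, hby y hy] at h1
    rw [hadd (hEle he) (Γ.inv_mem (hBle hb))]
    exact h1.symm
  choose! bE hbE hbEP using hPmem
  have hPcard : q ≤ Nat.card ↥Pg := by
    rw [← hE.card]
    refine Nat.card_le_card_of_injective (fun e : ↥E => (⟨e * (bE e)⁻¹, hbEP e e.2⟩ : ↥Pg)) fun e e' h => ?_
    have h' : (e : H) * (bE e)⁻¹ = e' * (bE e')⁻¹ := congrArg Subtype.val h
    have h1 : (e' : H)⁻¹ * e = (bE e')⁻¹ * bE e := by
      rw [inv_mul_eq_iff_eq_mul, ← mul_assoc, ← h', inv_mul_cancel_right]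
    have h2 : (e' : H)⁻¹ * e ∈ E ⊓ B :=
      ⟨E.mul_mem (E.inv_mem e'.2) e.2, h1 ▸ B.mul_mem (B.inv_mem (hbE _ e'.2)) (hbE _ e.2)⟩
    rw [hs.inf_eq_bot hE hB hne, Subgroup.mem_bot, inv_mul_eq_one] at h2
    exact Subtype.ext h2.symm
  have hPfix : I ⊔ c.Uy s ≤ fixS V Pg := sup_le (fun w hw g hg => hg.1.1 w hw)
    (fun y hy g hg => MulAction.mem_stabilizer_iff.1 (Subgroup.mem_iInf.1 (Subgroup.mem_iInf.1 hg.2 y) hy))
  have hIy : q * Nat.card ↥I ≤ Nat.card ↥(fixS V Pg) := by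
    refine le_trans ?_ (AddSubgroup.card_le_of_le hPfix)
    have h1 := card_sup_mul_card_inf I (c.Uy s)
    have h2 : I ⊓ c.Uy s = ⊥ := by
      rw [eq_bot_iff]
      intro y hy
      exact AddSubgroup.mem_bot.2 (c.U_eq_zero hs0 hs1 hy.2.1 (Prod.ext hy.2.2 ((c.memW y).1 hy.1.2)))
    have h3 : q ≤ Nat.card ↥(c.Uy s) := by
      rw [← hF, ← Nat.card_eq_fintype_card]
      have hu : ∀ z : F, ∃ u, u ∈ c.U s ∧ c.ψ u = (0, z) := fun z => c.exists_U hs0 hs1 _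
      choose u hu huψ using hu
      exact Nat.card_le_card_of_injective (fun z => (⟨u z, hu z, by rw [huψ]⟩ : ↥(c.Uy s))) fun a b h => by
        have h' := congrArg (fun w : ↥(c.Uy s) => (c.ψ (w : V)).2) h
        simpa [huψ] using h'
    rw [h2, AddSubgroup.card_bot, mul_one] at h1
    rw [h1, mul_comm]
    exact Nat.mul_le_mul_left _ h3
  have hPel : El p Pg := hΓel.mono inf_le_left
  have hPle : Nat.card ↥Pg ≤ q := by
    refine Nat.le_of_mul_le_mul_right ?_ (show 0 < q * Nat.card ↥I from Nat.mul_pos (by omega) Nat.card_pos)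
    rw [← mul_assoc q, hcardI]
    exact (Nat.mul_le_mul_left _ hIy).trans (hs.ctx.card_le hPel)
  refine c.no_root hs hs0 hs1 ⟨hPel, le_antisymm hPle hPcard, ?_⟩ ((commS_mono inf_le_left).trans hXΓ)
    ((le_inf hUxE hUxB).trans (le_sup_left.trans hPfix)) (le_sup_right.trans hPfix)
  rw [← hcardI, mul_assoc]
  exact Nat.mul_le_mul_left _ hIy

end Coord

end CfsgLib.CFun.MinParab.Rec
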