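import Mathlib

/-!
# Systems of transvections with independent commuting axes

`D` is a set of involutions of a group acting faithfully on an elementary abelian `2`-group, each `t ∈ D` a
transvection with centre `x t`. Two of them commute exactly when one fixes the centre of the other, the
commuting graph complement is connected and every pairwise commuting set of them has independent axes. The
forms `phi t`, the effect of conjugation on them and the dependence lemma.
-/

set_option autoImplicit false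
set_option linter.unusedSectionVars false

namespace CfsgLib.CFun.MinParab.Rec

variable {H : Type*} [Group H] {V : Type*} [AddCommGroup V] [DistribMulAction H V]

/-- The hypotheses. -/
structure SymSys (D : Set H) (x : H → V) : Prop where
  two : ∀ v : V, v + v = 0
  faith : ∀ g : H, (∀ v : V, g • v = v) → g = 1
  invol : ∀ t ∈ D, t * t = 1
  conj : ∀ t ∈ D, ∀ u ∈ D, t * u * t ∈ D
  x_ne : ∀ t ∈ D, x t ≠ 0
  x_fix : ∀ t ∈ D, t • x t = x t
  step : ∀ t ∈ D, ∀ v : V, t • v = v ∨ t • v = v + x t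
  comm_iff : ∀ t ∈ D, ∀ u ∈ D, t * u = u * t ↔ u • x t = x t
  conn : ∀ E ⊆ D, E.Nonempty → (∀ t ∈ E, ∀ u ∈ D, t * u ≠ u * t → u ∈ E) → E = D
  bound : ∀ s : Finset H, (↑s : Set H) ⊆ D → (∀ t ∈ s, ∀ u ∈ s, t * u = u * t) →
    2 ^ s.card * Nat.card {v : V // ∀ t ∈ s, t • v = v} ≤ Nat.card V
  noncomm : ∃ t ∈ D, ∃ u ∈ D, t * u ≠ u * t

open scoped Classical in
/-- The form of a transvection. -/
noncomputable def phi (t : H) (v : V) : ZMod 2 := if t • v = v then 0 else 1

theorem phi_eq_zero {t : H} {v : V} : phi t v = 0 ↔ t • v = v := by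
  unfold phi
  split_ifs with h <;> simp [h]

theorem phi_eq_one {t : H} {v : V} : phi t v = 1 ↔ t • v ≠ v := by
  unfold phi
  split_ifs with h <;> simp [h]

theorem zmod_two_cases : ∀ a : ZMod 2, a = 0 ∨ a = 1 := by decide

variable {D : Set H} {x : H → V}

theorem SymSys.smul_of_one (hs : SymSys D x) {t : H} (ht : t ∈ D) {v : V} (h : phi t v = 1) :
    t • v = v + x t :=
  (hs.step t ht v).resolve_left (phi_eq_one.1 h)

theorem SymSys.phi_add (hs : SymSys D x) {t : H} (ht : t ∈ D) (u v : V) :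
    phi t (u + v) = phi t u + phi t v := by
  rcases zmod_two_cases (phi t u) with h1 | h1 <;> rcases zmod_two_cases (phi t v) with h2 | h2 <;> rw [h1, h2]
  · rw [phi_eq_zero.2 (by rw [smul_add, phi_eq_zero.1 h1, phi_eq_zero.1 h2]), add_zero]
  · rw [zero_add, phi_eq_one, smul_add, phi_eq_zero.1 h1, hs.smul_of_one ht h2, ← add_assoc]
    simpa using hs.x_ne t ht
  · rw [add_zero, phi_eq_one, smul_add, phi_eq_zero.1 h2, hs.smul_of_one ht h1, add_right_comm]
    simpa using hs.x_ne t ht
  · rw [phi_eq_zero.2 (by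
      rw [smul_add, hs.smul_of_one ht h1, hs.smul_of_one ht h2, add_add_add_comm, hs.two, add_zero])]
    decide

theorem phi_zero (t : H) : phi t (0 : V) = 0 := phi_eq_zero.2 (smul_zero t)

theorem SymSys.phi_self (hs : SymSys D x) {t : H} (ht : t ∈ D) : phi t (x t) = 0 := phi_eq_zero.2 (hs.x_fix t ht)

theorem SymSys.comm_iff_phi (hs : SymSys D x) {t u : H} (ht : t ∈ D) (hu : u ∈ D) :
    t * u = u * t ↔ phi t (x u) = 0 := by
  rw [phi_eq_zero, ← hs.comm_iff u hu t ht]
  exact eq_comm

theorem SymSys.phi_symm (hs : SymSys D x) {t u : H} (ht : t ∈ D) (hu : u ∈ D) : phi t (x u) = phi u (x t) := by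
  rcases zmod_two_cases (phi t (x u)) with h | h <;> rcases zmod_two_cases (phi u (x t)) with h' | h' <;>
    rw [h, h']
  · exfalso
    rw [(hs.comm_iff_phi hu ht).1 ((hs.comm_iff_phi ht hu).2 h).symm] at h'
    exact zero_ne_one h'
  · exfalso
    rw [(hs.comm_iff_phi ht hu).1 ((hs.comm_iff_phi hu ht).2 h').symm] at h
    exact zero_ne_one h

theorem SymSys.smul_smul_self (hs : SymSys D x) {t : H} (ht : t ∈ D) (v : V) : t • t • v = v := by
  rw [← mul_smul, hs.invol t ht, one_smul]

/-- The centre of a transvection is determined by it. -/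
theorem SymSys.eq_of_data (hs : SymSys D x) {t u : H} (ht : t ∈ D) (hu : u ∈ D)
    (h : ∀ v : V, phi t v = phi u v) (hx : x t = x u) : t = u := by
  have h1 : u⁻¹ * t = 1 := hs.faith _ fun v => by
    rw [mul_smul, inv_smul_eq_iff]
    rcases zmod_two_cases (phi t v) with h0 | h0
    · rw [phi_eq_zero.1 h0, phi_eq_zero.1 ((h v).symm.trans h0)]
    · rw [hs.smul_of_one ht h0, hs.smul_of_one hu ((h v).symm.trans h0), hx]
  exact (inv_mul_eq_one.1 h1).symm

theorem SymSys.x_conj (hs : SymSys D x) {t u : H} (ht : t ∈ D) (hu : u ∈ D) :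
    x (t * u * t) = t • x u := by
  have hw := hs.conj t ht u hu
  obtain ⟨v, hv⟩ : ∃ v, u • v ≠ v := by
    by_contra! h
    obtain ⟨a, ha, b, hb, hab⟩ := hs.noncomm
    have h1 := hs.faith u h
    subst h1
    have h2 := hs.conn {1} (by simpa using hu) ⟨1, rfl⟩ fun c hc d _ hne => by
      rw [Set.mem_singleton_iff.1 hc, one_mul, mul_one] at hne
      exact absurd rfl hne
    rw [← h2] at ha hb
    rw [Set.mem_singleton_iff.1 ha, Set.mem_singleton_iff.1 hb] at hab
    exact hab rfl
  have e : (t * u * t) • (t • v) = t • v + t • x u := by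
    rw [mul_smul, mul_smul, hs.smul_smul_self ht, (hs.step u hu v).resolve_left hv, smul_add]
  have hne : (t * u * t) • (t • v) ≠ t • v := by
    rw [e, ne_eq, add_eq_left, smul_eq_zero_iff_eq]
    exact hs.x_ne u hu
  have e2 := (hs.step _ hw (t • v)).resolve_left hne
  rw [e] at e2
  exact (add_left_cancel e2).symm

theorem SymSys.x_conj_of_zero (hs : SymSys D x) {t u : H} (ht : t ∈ D) (hu : u ∈ D) (h : phi t (x u) = 0) :
    x (t * u * t) = x u := by rw [hs.x_conj ht hu, phi_eq_zero.1 h]

theorem SymSys.x_conj_of_one (hs : SymSys D x) {t u : H} (ht : t ∈ D) (hu : u ∈ D) (h : phi t (x u) = 1) :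
    x (t * u * t) = x u + x t := by rw [hs.x_conj ht hu, hs.smul_of_one ht h]

theorem SymSys.phi_conj (hs : SymSys D x) {t u : H} (ht : t ∈ D) (hu : u ∈ D) (v : V) :
    phi (t * u * t) v = phi u v + phi u (x t) * phi t v := by
  have h1 : phi (t * u * t) v = phi u (t • v) := by
    unfold phi
    congr 1
    rw [mul_smul, mul_smul]
    conv_lhs => rhs; rw [← hs.smul_smul_self ht v]
    rw [smul_left_cancel_iff]
  rw [h1]
  rcases zmod_two_cases (phi t v) with h | h
  · rw [phi_eq_zero.1 h, h, mul_zero, add_zero]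
  · rw [hs.smul_of_one ht h, hs.phi_add hu, h, mul_one]

variable [Finite V]

/-- Commuting members have independent forms. -/
theorem SymSys.false_of_dep (hs : SymSys D x) (s : Finset H) (hsD : (↑s : Set H) ⊆ D) (hne : s.Nonempty)
    (hcomm : ∀ t ∈ s, ∀ u ∈ s, phi t (x u) = 0) (hsum : ∀ v : V, ∑ t ∈ s, phi t v = 0) : False := by
  classical
  obtain ⟨t₀, ht₀⟩ := hne
  have hb := hs.bound s hsD fun t ht u hu => (hs.comm_iff_phi (hsD ht) (hsD hu)).2 (hcomm t ht u hu)
  let s' := s.erase t₀
  have hD' : ∀ t : s', (t : H) ∈ D := fun t => hsD (Finset.mem_of_mem_erase t.2)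
  let F : V →+ (s' → ZMod 2) := AddMonoidHom.mk' (fun v t => phi (t : H) v) fun u v =>
    funext fun t => hs.phi_add (hD' t) u v
  have hker : Nat.card ↥F.ker ≤ Nat.card {v : V // ∀ t ∈ s, t • v = v} := by
    refine Nat.card_le_card_of_injective (fun v => ⟨v, fun t ht => phi_eq_zero.1 ?_⟩) fun u v h =>
      Subtype.ext (congrArg (fun z : {v : V // ∀ t ∈ s, t • v = v} => (z : V)) h)
    have h0 : ∀ r ∈ s', phi r (v : V) = 0 := fun r hr => congrFun (AddMonoidHom.mem_ker.1 v.2) ⟨r, hr⟩
    by_cases htt : t = t₀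
    · subst htt
      have h1 := hsum (v : V)
      rw [← Finset.add_sum_erase s _ ht, Finset.sum_eq_zero h0, add_zero] at h1
      exact h1
    · exact h0 t (Finset.mem_erase.2 ⟨htt, ht⟩)
  have hV : Nat.card V ≤ 2 ^ s'.card * Nat.card ↥F.ker := by
    rw [← AddSubgroup.index_mul_card F.ker, AddSubgroup.index_ker]
    refine Nat.mul_le_mul_right _ ((AddSubgroup.card_le_card_addGroup F.range).trans (le_of_eq ?_))
    rw [Nat.card_fun, Nat.card_zmod, Nat.card_eq_fintype_card, Fintype.card_coe]
  have hc : s'.card + 1 = s.card := Finset.card_erase_add_one ht₀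
  rw [← hc, pow_succ, mul_assoc] at hb
  have h2 := hb.trans (hV.trans (Nat.mul_le_mul_left _ hker))
  have h3 : 0 < Nat.card {v : V // ∀ t ∈ s, t • v = v} :=
    Nat.card_pos_iff.2 ⟨⟨⟨0, fun t _ => smul_zero t⟩⟩, inferInstance⟩
  have := Nat.le_of_mul_le_mul_left h2 (pow_pos two_pos _)
  omega

end CfsgLib.CFun.MinParab.Rec
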