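import Cfsg.Agent.Lib.CFun.MinParab.Rec.SymMax

/-!
# The members are the transpositions of a symmetric group

A system `SymSys` is indexed by the pairs of points of `Fin k`, `k ≥ 3`, conjugation being that of transpositions.
For odd `k` the group they generate is the symmetric group and the module modulo its fixed points is the
even-weight permutation module.
-/

set_option autoImplicit false
set_option linter.unusedSectionVars false

namespace CfsgLib.CFun.MinParab.Rec

variable {H : Type*} [Group H] [Finite H] {V : Type*} [AddCommGroup V] [Finite V] [DistribMulAction H V]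
  {D : Set H} {x : H → V}

theorem IsPair.comm_of_disjoint (hs : SymSys D x) {n : ℕ} {s : Fin n → H} (hS : Star D x s)
    {a b c d : Fin (n + 1)} {t u : H} (ht : IsPair D x s a b t) (hu : IsPair D x s c d u) :
    t * u = u * t ↔ dlt a c + dlt a d + dlt b c + dlt b d = 0 := by
  rw [hs.comm_iff_phi ht.mem hu.mem, IsPair.meet hs hS ht hu]

theorem IsPair.set_eq {n : ℕ} {s : Fin n → H} (hS : Star D x s)
    {a b c d : Fin (n + 1)} {t : H} (hab : a ≠ b) (hcd : c ≠ d) (h : IsPair D x s a b t)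
    (h' : IsPair D x s c d t) : (a = c ∧ b = d) ∨ (a = d ∧ b = c) := by
  classical
  have key : ∀ {a b c d : Fin (n + 1)}, a ≠ b → c ≠ d → IsPair D x s a b t → IsPair D x s c d t →
      a = c ∨ a = d := by
    intro a b c d hab hcd h h'
    by_contra! hno
    by_cases hb : b = c ∨ b = d
    · obtain ⟨e, hea, hsum⟩ : ∃ e, a ≠ e ∧ ∀ v : V, pf s a v + pf s e v = 0 := by
        rcases hb with rfl | rfl
        · refine ⟨d, hno.2, fun v => ?_⟩
          have h1 := (h.form v).symm.trans (h'.form v)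
          rw [add_comm (pf s a v)] at h1
          exact CharTwo.add_eq_zero.2 (add_left_cancel h1)
        · refine ⟨c, hno.1, fun v => ?_⟩
          exact CharTwo.add_eq_zero.2 (add_right_cancel ((h.form v).symm.trans (h'.form v)))
      refine hS.pf_indep {a, e} (Finset.insert_nonempty _ _) (by rw [Finset.card_pair hea]; decide) fun v => ?_
      rw [Finset.sum_pair hea]
      exact hsum v
    · push Not at hb
      exact hS.pf_indep {a, b, c, d} (Finset.insert_nonempty _ _) (by
        rw [Finset.card_insert_of_notMem (by simp [hab, hno.1, hno.2]),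
          Finset.card_insert_of_notMem (by simp [hb.1, hb.2]), Finset.card_pair hcd]
        decide) fun v => by
        rw [Finset.sum_insert (by simp [hab, hno.1, hno.2]), Finset.sum_insert (by simp [hb.1, hb.2]),
          Finset.sum_pair hcd, ← add_assoc, ← h.form, ← h'.form, CharTwo.add_self_eq_zero]
  rcases key hab hcd h h' with h0 | h0
  · refine Or.inl ⟨h0, ?_⟩
    rcases key hab.symm hcd h.symm h' with h1 | h1
    · exact absurd (h0.trans h1.symm) hab
    · exact h1
  · refine Or.inr ⟨h0, ?_⟩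
    rcases key hab.symm hcd h.symm h' with h1 | h1
    · exact h1
    · exact absurd (h0.trans h1.symm) hab

/-- The even-weight vectors determine a permutation. -/
theorem perm_eq_of_even {k : ℕ} (hk : 3 ≤ k) (σ τ : Equiv.Perm (Fin k))
    (h : ∀ w : Fin k → ZMod 2, ∑ a, w a = 0 → ∀ a, w (σ⁻¹ a) = w (τ⁻¹ a)) : σ = τ := by
  classical
  refine inv_injective (Equiv.ext fun a => ?_)
  by_contra hne
  obtain ⟨r, -, hr⟩ := Finset.exists_mem_notMem_of_card_lt_card
    (s := ({σ⁻¹ a, τ⁻¹ a} : Finset (Fin k))) (t := Finset.univ)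
    (by rw [Finset.card_univ, Fintype.card_fin, Finset.card_pair hne]; omega)
  simp only [Finset.mem_insert, Finset.mem_singleton, not_or] at hr
  let w : Fin k → ZMod 2 := fun c => if c = σ⁻¹ a ∨ c = r then 1 else 0
  have hw : ∑ c, w c = 0 := by
    rw [Finset.sum_ite, Finset.sum_const_zero, add_zero, Finset.sum_const, nsmul_one,
      show (Finset.univ.filter fun c => c = σ⁻¹ a ∨ c = r) = {σ⁻¹ a, r} by ext c; simp,
      Finset.card_pair (Ne.symm hr.1)]
    decide
  have h1 := h w hw a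
  rw [show w (σ⁻¹ a) = 1 from if_pos (Or.inl rfl),
    show w (τ⁻¹ a) = 0 from if_neg (not_or.2 ⟨Ne.symm hne, Ne.symm hr.2⟩)] at h1
  exact one_ne_zero h1

/-- The members are the transpositions of a symmetric group. -/
theorem SymSys.exists_sym (hs : SymSys D x) :
    ∃ (k : ℕ) (e : Fin k → Fin k → H), 3 ≤ k ∧ (∀ a b, a ≠ b → e a b ∈ D) ∧ (∀ a b, e a b = e b a) ∧
      (∀ t ∈ D, ∃ a b, a ≠ b ∧ e a b = t) ∧
      (∀ a b c d, a ≠ b → c ≠ d → e a b = e c d → (a = c ∧ b = d) ∨ (a = d ∧ b = c)) ∧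
      (∀ a b c d, a ≠ b → c ≠ d → e a b * e c d * e a b = e (Equiv.swap a b c) (Equiv.swap a b d)) ∧
      (∀ a b c d, a ≠ b → c ≠ d → (e a b * e c d = e c d * e a b ↔
        ((a = c ∧ b = d) ∨ (a = d ∧ b = c)) ∨ (a ≠ c ∧ a ≠ d ∧ b ≠ c ∧ b ≠ d))) ∧
      (∀ (s : Finset (Fin k)), s.Nonempty → Even s.card → ∀ b ∈ s, ¬ ∀ v : V, ∑ a ∈ s.erase b, phi (e a b) v = 0) ∧
      (Odd k → ∃ (θ : ↥(Subgroup.closure D) ≃* Equiv.Perm (Fin k)) (ψ : V →+ (Fin k → ZMod 2)),
        (∀ (a b : Fin k) (g : ↥(Subgroup.closure D)), a ≠ b → (g : H) = e a b → θ g = Equiv.swap a b) ∧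
        (∀ v, ∑ a, ψ v a = 0) ∧ (∀ w : Fin k → ZMod 2, ∑ a, w a = 0 → ∃ v, ψ v = w) ∧
        (∀ v, ψ v = 0 ↔ ∀ t ∈ D, t • v = v) ∧
        ∀ (g : ↥(Subgroup.closure D)) (v : V) (a : Fin k), ψ ((g : H) • v) a = ψ v ((θ g)⁻¹ a)) := by
  classical
  obtain ⟨n, s, hn, hS, hall⟩ := hs.exists_star
  let e : Fin (n + 1) → Fin (n + 1) → H := fun a b => if h : a ≠ b then (hS.exists_pair hs h).choose else 1
  have he : ∀ a b, a ≠ b → IsPair D x s a b (e a b) := fun a b h => by
    simp only [e, dif_pos h]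
    exact (hS.exists_pair hs h).choose_spec
  refine ⟨n + 1, e, by omega, fun a b h => (he a b h).mem, fun a b => ?_, fun t ht => ?_,
    fun a b c d hab hcd h => IsPair.set_eq hS hab hcd (h ▸ he a b hab) (he c d hcd),
    fun a b c d hab hcd => IsPair.unique hs (IsPair.conj hs hS hab (he a b hab) (he c d hcd))
      (he _ _ fun h => hcd ((Equiv.swap a b).injective h)), fun a b c d hab hcd => ?_, ?_, ?_⟩
  · rcases eq_or_ne a b with h | h
    · rw [h]
    · exact IsPair.unique hs (he a b h) (he b a h.symm).symm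
  · obtain ⟨a, b, hab, hp⟩ := hall t ht
    exact ⟨a, b, hab, IsPair.unique hs (he a b hab) hp⟩
  · rw [IsPair.comm_of_disjoint hs hS (he a b hab) (he c d hcd)]
    unfold dlt
    by_cases h1 : a = c <;> by_cases h2 : a = d <;> by_cases h3 : b = c <;> by_cases h4 : b = d <;>
      simp_all <;> decide
  · intro J hJ hev b hb h
    refine hS.pf_indep J hJ ((ZMod.natCast_eq_zero_iff_even).2 hev) fun v => ?_
    have h1 := h v
    rw [Finset.sum_congr rfl fun a ha => (he a b (Finset.ne_of_mem_erase ha)).form v, Finset.sum_add_distrib,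
      Finset.sum_const, Finset.card_erase_of_mem hb, nsmul_eq_mul] at h1
    have hodd : ((J.card - 1 : ℕ) : ZMod 2) = 1 := by
      obtain ⟨r, hr⟩ := hev
      have hpos := hJ.card_pos
      exact ZMod.natCast_eq_one_iff_odd.2 ⟨r - 1, by omega⟩
    rw [hodd, one_mul] at h1
    rw [← Finset.sum_erase_add J _ hb]
    exact h1
  -- the symmetric group
  intro hodd
  letI : Module (ZMod 2) V := AddCommGroup.zmodModule (n := 2) fun v => (two_nsmul v).trans (hs.two v)
  have hk1 : ((n + 1 : ℕ) : ZMod 2) = 1 := ZMod.natCast_eq_one_iff_odd.2 hodd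
  let ψ : V →+ (Fin (n + 1) → ZMod 2) := AddMonoidHom.mk' (fun v a => pf s a v + ∑ b, pf s b v) fun u v => by
    funext a
    simp only [Pi.add_apply, pf_add hs hS, Finset.sum_add_distrib]
    abel
  have hψsum : ∀ v, ∑ a, ψ v a = 0 := fun v => by
    show ∑ a, (pf s a v + ∑ b, pf s b v) = 0
    rw [Finset.sum_add_distrib, Finset.sum_const, Finset.card_univ, Fintype.card_fin, nsmul_eq_mul, hk1,
      one_mul, CharTwo.add_self_eq_zero]
  have hψab : ∀ a b (v : V), a ≠ b → phi (e a b) v = ψ v a + ψ v b := fun a b v h => by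
    rw [(he a b h).form]
    show _ = (pf s a v + ∑ c, pf s c v) + (pf s b v + ∑ c, pf s c v)
    rw [add_add_add_comm, CharTwo.add_self_eq_zero, add_zero]
  have hψx : ∀ a b, a ≠ b → ∀ c, ψ (x (e a b)) c = dlt c a + dlt c b := fun a b h c => by
    show pf s c (x (e a b)) + ∑ d, pf s d (x (e a b)) = _
    have h1 : ∀ d, pf s d (x (e a b)) = dlt a 0 + dlt b 0 + (dlt d a + dlt d b) := fun d => by
      rw [(he a b h).centre, pf_add hs hS, pf_px hs hS, pf_px hs hS]
      linear_combination (1 + dlt d (0 : Fin (n + 1))) * (CharTwo.two_eq_zero : (2 : ZMod 2) = 0)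
    rw [Finset.sum_congr rfl fun d _ => h1 d, h1, Finset.sum_add_distrib, Finset.sum_const, Finset.card_univ,
      Fintype.card_fin, nsmul_eq_mul, hk1, one_mul, Finset.sum_add_distrib]
    simp only [dlt, Finset.sum_ite_eq', Finset.mem_univ, if_true]
    linear_combination ((if a = (0 : Fin (n + 1)) then (1 : ZMod 2) else 0) + (if b = (0 : Fin (n + 1)) then (1 : ZMod 2) else 0) + 1) *
      (CharTwo.two_eq_zero : (2 : ZMod 2) = 0)
  let Λ : (Fin n → ZMod 2) →+ V := AddMonoidHom.mk' (fun w => ∑ i, w i • x (s i)) fun u w => by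
    simp [add_smul, Finset.sum_add_distrib]
  have hψΛ : ∀ (w : Fin n → ZMod 2) (i : Fin n), ψ (Λ w) i.succ = w i := fun w i => by
    show ψ (∑ j, w j • x (s j)) i.succ = w i
    rw [map_sum, Finset.sum_apply, Finset.sum_eq_single i]
    · rw [ZMod.map_smul, Pi.smul_apply, smul_eq_mul]
      have h1 := hψx 0 i.succ (Fin.succ_ne_zero i).symm i.succ
      rw [IsPair.unique hs (he 0 i.succ (Fin.succ_ne_zero i).symm) ⟨hS.mem i,
        fun v => by rw [pf_zero, pf_succ, zero_add], by rw [px_zero, px_succ, zero_add]⟩] at h1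
      rw [h1, dlt_ne (Fin.succ_ne_zero i), dlt_self, zero_add, mul_one]
    · intro j _ hji
      rw [ZMod.map_smul, Pi.smul_apply, smul_eq_mul]
      have h1 := hψx 0 j.succ (Fin.succ_ne_zero j).symm i.succ
      rw [IsPair.unique hs (he 0 j.succ (Fin.succ_ne_zero j).symm) ⟨hS.mem j,
        fun v => by rw [pf_zero, pf_succ, zero_add], by rw [px_zero, px_succ, zero_add]⟩] at h1
      rw [h1, dlt_ne (Fin.succ_ne_zero i), dlt_ne fun h => hji (Fin.succ_inj.1 h).symm, add_zero, mul_zero]
    · exact fun h => absurd (Finset.mem_univ i) h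
  have hpx : ∀ a, px x s a ∈ Λ.range := fun a => by
    induction a using Fin.cases with
    | zero => rw [px_zero]; exact zero_mem _
    | succ i =>
      refine ⟨(Pi.single i 1 : Fin n → ZMod 2), ?_⟩
      show ∑ j, (Pi.single i 1 : Fin n → ZMod 2) j • x (s j) = px x s i.succ
      rw [px_succ, Finset.sum_eq_single i (fun j _ hj => by rw [Pi.single_eq_of_ne hj, zero_smul])
        (fun h => absurd (Finset.mem_univ i) h), Pi.single_eq_same, one_smul]
  have hxD : ∀ t ∈ D, x t ∈ Λ.range := fun t ht => by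
    obtain ⟨a, b, -, hp⟩ := hall t ht
    rw [hp.centre]
    exact add_mem (hpx a) (hpx b)
  have hψt : ∀ a b, a ≠ b → ∀ (v : V) c, ψ (e a b • v) c = ψ v (Equiv.swap a b c) := fun a b h v c => by
    have hc : ψ v (Equiv.swap a b c) = ψ v c + (dlt c a + dlt c b) * (ψ v a + ψ v b) := by
      rcases eq_or_ne c a with h1 | h1
      · subst h1
        rw [Equiv.swap_apply_left, dlt_self, dlt_ne h, add_zero, one_mul, ← add_assoc,
          CharTwo.add_self_eq_zero, zero_add]
      · rcases eq_or_ne c b with h2 | h2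
        · subst h2
          rw [Equiv.swap_apply_right, dlt_self, dlt_ne h1, zero_add, one_mul, add_left_comm,
            CharTwo.add_self_eq_zero, add_zero]
        · rw [Equiv.swap_apply_of_ne_of_ne h1 h2, dlt_ne h1, dlt_ne h2, add_zero, zero_mul, add_zero]
    rw [hc, ← hψab a b v h]
    rcases zmod_two_cases (phi (e a b) v) with h0 | h0
    · rw [phi_eq_zero.1 h0, h0, mul_zero, add_zero]
    · rw [hs.smul_of_one (he a b h).mem h0, h0, mul_one, map_add, Pi.add_apply, hψx a b h]
  have hex : ∀ g ∈ Subgroup.closure D, ∃ σ : Equiv.Perm (Fin (n + 1)),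
      (∀ (v : V) a, ψ (g • v) a = ψ v (σ⁻¹ a)) ∧ ∀ v : V, g • v - v ∈ Λ.range := by
    intro g hg
    induction hg using Subgroup.closure_induction with
    | mem t ht =>
      obtain ⟨a, b, hab, hp⟩ := hall t ht
      obtain rfl := IsPair.unique hs hp (he a b hab)
      refine ⟨Equiv.swap a b, fun v c => by rw [Equiv.swap_inv]; exact hψt a b hab v c, fun v => ?_⟩
      rcases hs.step _ ht v with h | h <;> rw [h]
      · rw [sub_self]; exact zero_mem _
      · rw [add_sub_cancel_left]; exact hxD _ ht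
    | one => exact ⟨1, fun v a => by simp, fun v => by simp⟩
    | mul g h _ _ hg hh =>
      obtain ⟨σ, hσ, hσ'⟩ := hg
      obtain ⟨τ, hτ, hτ'⟩ := hh
      refine ⟨σ * τ, fun v a => by rw [mul_smul, hσ, hτ, mul_inv_rev, Equiv.Perm.mul_apply], fun v => ?_⟩
      have := add_mem (hσ' (h • v)) (hτ' v)
      rwa [sub_add_sub_cancel, ← mul_smul] at this
    | inv g _ hg =>
      obtain ⟨σ, hσ, hσ'⟩ := hg
      refine ⟨σ⁻¹, fun v a => ?_, fun v => ?_⟩
      · have h1 := hσ (g⁻¹ • v) (σ a)
        rw [smul_inv_smul, Equiv.Perm.inv_def, Equiv.symm_apply_apply] at h1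
        rw [inv_inv, h1]
      · have := neg_mem (hσ' (g⁻¹ • v))
        rwa [smul_inv_smul, neg_sub] at this
  choose σ hσ hσΛ using hex
  have hwex : ∀ w : Fin (n + 1) → ZMod 2, ∑ a, w a = 0 → ∃ v, ψ v = w := fun w hw => by
    refine ⟨Λ (fun i => w i.succ), ?_⟩
    funext a
    induction a using Fin.cases with
    | succ i => exact hψΛ _ i
    | zero =>
      have h1 := hψsum (Λ fun i => w i.succ)
      rw [Fin.sum_univ_succ, Finset.sum_congr rfl fun i _ => hψΛ _ i] at h1
      rw [Fin.sum_univ_succ] at hw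
      exact add_right_cancel (h1.trans hw.symm)
  have huniq : ∀ (g : H) (hg : g ∈ Subgroup.closure D) (τ : Equiv.Perm (Fin (n + 1))),
      (∀ (v : V) a, ψ (g • v) a = ψ v (τ⁻¹ a)) → σ g hg = τ := fun g hg τ hτ =>
    perm_eq_of_even (by omega) _ _ fun w hw a => by
      obtain ⟨v, rfl⟩ := hwex w hw
      exact (hσ g hg v a).symm.trans (hτ v a)
  let θ₀ : ↥(Subgroup.closure D) →* Equiv.Perm (Fin (n + 1)) := MonoidHom.mk' (fun g => σ g g.2) fun g h => by
    refine huniq _ _ _ fun v a => ?_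
    rw [Subgroup.coe_mul, mul_smul, hσ g g.2, hσ h h.2, mul_inv_rev, Equiv.Perm.mul_apply]
  have hswap : ∀ a b (g : ↥(Subgroup.closure D)), a ≠ b → (g : H) = e a b → θ₀ g = Equiv.swap a b :=
    fun a b g hab hg => huniq _ g.2 _ fun v c => by rw [hg, Equiv.swap_inv]; exact hψt a b hab v c
  have hθi : Function.Injective θ₀ := by
    rw [← MonoidHom.ker_eq_bot_iff, Subgroup.eq_bot_iff_forall]
    intro g hg
    refine Subtype.ext (hs.faith _ fun v => sub_eq_zero.1 ?_)
    obtain ⟨w, hw⟩ := hσΛ g g.2 v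
    rw [← hw]
    have h1 : ψ (Λ w) = 0 := by
      rw [hw, map_sub, sub_eq_zero]
      funext a
      rw [hσ g g.2 v a, show σ g g.2 = 1 from hg, inv_one]
      rfl
    rw [show w = 0 from funext fun i => by rw [← hψΛ w i, h1]; rfl, map_zero]
  have hθs : Function.Surjective θ₀ := by
    intro τ
    induction τ using Equiv.Perm.swap_induction_on with
    | one => exact ⟨1, map_one θ₀⟩
    | swap_mul f a b hab ih =>
      obtain ⟨g, rfl⟩ := ih
      exact ⟨⟨e a b, Subgroup.subset_closure (he a b hab).mem⟩ * g, by rw [map_mul, hswap a b _ hab rfl]⟩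
  refine ⟨MulEquiv.ofBijective θ₀ ⟨hθi, hθs⟩, ψ, hswap, hψsum, hwex, fun v => ⟨fun h t ht => ?_, fun h => ?_⟩,
    fun g v a => hσ g g.2 v a⟩
  · obtain ⟨a, b, hab, hp⟩ := hall t ht
    obtain rfl := IsPair.unique hs hp (he a b hab)
    rw [← phi_eq_zero, hψab a b v hab, h]
    exact add_zero _
  · have hconst : ∀ a, ψ v a = ψ v 0 := fun a => by
      rcases eq_or_ne a 0 with h0 | h0
      · rw [h0]
      · have h1 := hψab a 0 v h0
        rw [phi_eq_zero.2 (h _ (he a 0 h0).mem)] at h1
        exact CharTwo.add_eq_zero.1 h1.symm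
    have h0 := hψsum v
    rw [Finset.sum_congr rfl fun a _ => hconst a, Finset.sum_const, Finset.card_univ, Fintype.card_fin,
      nsmul_eq_mul, hk1, one_mul] at h0
    funext a
    rw [hconst, h0]
    rfl

end CfsgLib.CFun.MinParab.Rec
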