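import Cfsg.Agent.Lib.CFun.MinParab.Rec.SymStar

/-!
# A largest star exhausts the members

A member outside the star separating some pair of points either extends a star at one point or gives a
dependent commuting set.
-/

set_option autoImplicit false
set_option linter.unusedSectionVars false

namespace CfsgLib.CFun.MinParab.Rec

variable {H : Type*} [Group H] {V : Type*} [AddCommGroup V] [Finite V] [DistribMulAction H V] {D : Set H}
  {x : H → V} {n : ℕ} {s : Fin n → H}

/-- A member outside meeting every member at the base point. -/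
theorem Star.false_of_meet_all (hs : SymSys D x) (hS : Star D x s) (hn : 0 < n)
    (hmax : ∀ s' : Fin (n + 1) → H, ¬ Star D x s') {u : H} (hu : u ∈ D) (hout : ¬ InStar D x s u)
    (hg : ∀ i, phi u (x (s i)) = 1) : False := by
  classical
  by_cases hdep : ∃ J : Finset (Fin n), ∀ v : V, phi u v = ∑ i ∈ J, phi (s i) v
  · obtain ⟨J, hJ⟩ := hdep
    have hl : ∀ l, (1 : ZMod 2) = (J.card : ZMod 2) + if l ∈ J then 1 else 0 := fun l => by
      have h1 := hJ (x (s l))
      rw [hg, Finset.sum_congr rfl fun i _ => (show phi (s i) (x (s l)) = 1 + if i = l then 1 else 0 by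
        rw [hS.meet]; split_ifs <;> decide), Finset.sum_add_distrib, Finset.sum_ite_eq', Finset.sum_const,
        nsmul_one] at h1
      exact h1
    have huniv : ∀ l, l ∈ J := by
      by_contra! h
      obtain ⟨l, hl0⟩ := h
      rcases J.eq_empty_or_nonempty with h0 | ⟨l', hl'⟩
      · have := hJ (x (s ⟨0, hn⟩))
        rw [hg, h0, Finset.sum_empty] at this
        exact one_ne_zero this
      · have e1 := hl l
        have e2 := hl l'
        rw [if_neg hl0, add_zero] at e1
        rw [if_pos hl', ← e1] at e2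
        exact absurd e2 (by decide)
    have hJu : J = Finset.univ := Finset.eq_univ_of_forall huniv
    subst hJu
    have hneven : 2 ∣ n := by
      have e1 := hl ⟨0, hn⟩
      rw [if_pos (Finset.mem_univ _), Finset.card_univ, Fintype.card_fin, right_eq_add] at e1
      exact (ZMod.natCast_eq_zero_iff_even.1 e1).two_dvd
    obtain ⟨m, hm⟩ := hneven
    -- the matching
    let e : Fin m × Fin 2 ≃ Fin n := finProdFinEquiv.trans (finCongr (by omega))
    have hne : ∀ i, (e (i, 0)).succ ≠ (e (i, 1)).succ := fun i h => by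
      have := congrArg Prod.snd (e.injective (Fin.succ_inj.1 h))
      exact zero_ne_one (show (0 : Fin 2) = 1 from this)
    choose t ht using fun i : Fin m => hS.exists_pair hs (hne i)
    have hdist : ∀ i j, i ≠ j → ∀ a b : Fin 2, dlt (e (i, a)).succ (e (j, b)).succ = 0 := fun i j hij a b =>
      dlt_ne fun h => hij (congrArg Prod.fst (e.injective (Fin.succ_inj.1 h)))
    have htt : ∀ i j, phi (t i) (x (t j)) = 0 := fun i j => by
      rcases eq_or_ne i j with h | h
      · rw [h, hs.phi_self (ht j).mem]
      · rw [IsPair.meet hs hS (ht i) (ht j), hdist i j h, hdist i j h, hdist i j h, hdist i j h, add_zero,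
          add_zero, add_zero]
    have htu : ∀ i, phi u (x (t i)) = 0 := fun i => by
      rw [(ht i).centre, hs.phi_add hu, px_succ, px_succ, hg, hg]
      decide
    let f : Option (Fin m) → H := fun o => o.elim u t
    have htinj : ∀ i j, t i = t j → i = j := fun i j h => by
      by_contra hij
      have h1 : phi (t i) (x (s (e (i, 0)))) = phi (t j) (x (s (e (i, 0)))) := by rw [h]
      have h0 : ∀ k, phi (t k) (x (s (e (i, 0)))) =
          dlt (e (k, 0)).succ (e (i, 0)).succ + dlt (e (k, 1)).succ (e (i, 0)).succ := fun k => by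
        have hp : IsPair D x s 0 (e (i, 0)).succ (s (e (i, 0))) :=
          ⟨hS.mem _, fun v => by rw [pf_zero, pf_succ, zero_add], by rw [px_zero, px_succ, zero_add]⟩
        rw [IsPair.meet hs hS (ht k) hp, dlt_ne (Fin.succ_ne_zero _), dlt_ne (Fin.succ_ne_zero _), zero_add,
          add_zero]
      rw [h0, h0, hdist j i (Ne.symm hij), hdist j i (Ne.symm hij), dlt_self, dlt_ne (hne i).symm, add_zero,
        add_zero] at h1
      exact one_ne_zero h1
    have hfinj : Function.Injective f := by
      rintro (_ | i) (_ | j) h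
      · rfl
      · exact absurd ⟨_, _, hne j, (show u = t j from h).symm ▸ ht j⟩ hout
      · exact absurd ⟨_, _, hne i, (show t i = u from h) ▸ ht i⟩ hout
      · rw [htinj i j h]
    have hsum : ∀ v : V, ∑ a ∈ Finset.univ.image f, phi a v = 0 := fun v => by
      rw [Finset.sum_image fun a _ b _ h => hfinj h, Fintype.sum_option]
      show phi u v + ∑ i, phi (t i) v = 0
      rw [hJ, ← e.sum_comp, Fintype.sum_prod_type, ← Finset.sum_add_distrib]
      refine Finset.sum_eq_zero fun i _ => ?_
      rw [Fin.sum_univ_two, (ht i).form, pf_succ, pf_succ, CharTwo.add_self_eq_zero]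
    refine hs.false_of_dep (Finset.univ.image f) ?_ ⟨u, Finset.mem_image.2 ⟨none, Finset.mem_univ _, rfl⟩⟩ ?_ hsum
    · intro a ha
      obtain ⟨o, -, rfl⟩ := Finset.mem_image.1 (Finset.mem_coe.1 ha)
      cases o with
      | none => exact hu
      | some i => exact (ht i).mem
    · intro a ha b hb
      obtain ⟨o, -, rfl⟩ := Finset.mem_image.1 ha
      obtain ⟨o', -, rfl⟩ := Finset.mem_image.1 hb
      cases o with
      | none =>
        cases o' with
        | none => exact hs.phi_self hu
        | some j => exact htu j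
      | some i =>
        cases o' with
        | none => exact (hs.phi_symm (ht i).mem hu).trans (htu i)
        | some j => exact htt i j
  · push Not at hdep
    refine hmax (Fin.cons u s) ⟨fun i => ?_, fun i j => ?_, fun J hJ h => ?_⟩
    · induction i using Fin.cases with
      | zero => exact hu
      | succ i => simpa using hS.mem i
    · induction i using Fin.cases with
      | zero =>
        induction j using Fin.cases with
        | zero => simpa using hs.phi_self hu
        | succ j => simpa [(Fin.succ_ne_zero j).symm] using hg j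
      | succ i =>
        induction j using Fin.cases with
        | zero => simpa [Fin.succ_ne_zero] using (hs.phi_symm (hS.mem i) hu).trans (hg i)
        | succ j => simpa [Fin.succ_inj] using hS.meet i j
    · set J' : Finset (Fin n) := Finset.univ.filter fun i => i.succ ∈ J with hJ'
      have himg : J'.image Fin.succ = J.erase 0 := by
        ext a
        induction a using Fin.cases with
        | zero => simp [Fin.succ_ne_zero]
        | succ i => simp [J', Fin.succ_ne_zero, Fin.succ_inj]
      have hsum : ∀ v : V, ∑ i ∈ J.erase 0, phi ((Fin.cons u s : Fin (n + 1) → H) i) v =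
          ∑ i ∈ J', phi (s i) v := fun v => by
        rw [← himg, Finset.sum_image fun i _ j _ hij => Fin.succ_inj.1 hij]
        simp
      by_cases h0 : (0 : Fin (n + 1)) ∈ J
      · obtain ⟨v, hv⟩ := hdep J'
        have h1 := h v
        rw [← Finset.add_sum_erase J _ h0, hsum, Fin.cons_zero, CharTwo.add_eq_zero] at h1
        exact hv h1
      · refine hS.indep J' ?_ fun v => ?_
        · rw [← Finset.image_nonempty (f := Fin.succ), himg, Finset.erase_eq_of_notMem h0]
          exact hJ
        · rw [← hsum, Finset.erase_eq_of_notMem h0]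
          exact h v

/-- A member meeting a member of a largest star lies in it. -/
theorem Star.closed (hs : SymSys D x) (hS : Star D x s) (hn : 0 < n)
    (hmax : ∀ s' : Fin (n + 1) → H, ¬ Star D x s') {t u : H} (ht : InStar D x s t) (hu : u ∈ D)
    (htu : phi t (x u) = 1) : InStar D x s u := by
  classical
  by_contra hout
  let g : Fin (n + 1) → ZMod 2 := fun a => phi u (px x s a)
  by_cases hc : ∃ c, ∀ a, a ≠ c → g c + g a = 1
  · obtain ⟨c, hc⟩ := hc
    obtain ⟨s', hS', hs', himp⟩ := hS.rebase hs c
    exact hS'.false_of_meet_all hs hn hmax hu (fun h => hout (himp u h)) fun i => by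
      rw [IsPair.meet_mem hs hS (hs' i) hu]
      exact hc _ (Fin.succAbove_ne c i)
  push Not at hc
  obtain ⟨a, b, hab, htp⟩ := ht
  have hgab : g a + g b = 1 := by
    rw [← IsPair.meet_mem hs hS htp hu, ← hs.phi_symm htp.mem hu]
    exact htu
  obtain ⟨a', haa', hga'⟩ := hc a
  obtain ⟨b', hbb', hgb'⟩ := hc b
  have hga : g a + g a' = 0 := (zmod_two_cases _).resolve_right hga'
  have hgb : g b + g b' = 0 := (zmod_two_cases _).resolve_right hgb'
  have ea : g a' = g a := (CharTwo.add_eq_zero.1 hga).symm
  have eb : g b' = g b := (CharTwo.add_eq_zero.1 hgb).symm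
  have hne : g a ≠ g b := fun h => by rw [h, CharTwo.add_self_eq_zero] at hgab; exact zero_ne_one hgab
  have hab' : a ≠ b' := fun h => hne (by rw [h, eb])
  have ha'b : a' ≠ b := fun h => hne (by rw [← h, ea])
  have ha'b' : a' ≠ b' := fun h => hne (by rw [← ea, h, eb])
  obtain ⟨q, hq⟩ := hS.exists_pair hs ha'b'
  obtain ⟨r, hr⟩ := hS.exists_pair hs haa'.symm
  obtain ⟨r', hr'⟩ := hS.exists_pair hs hbb'.symm
  set p := t with hp
  have hpu : phi u (x p) = 1 := by rw [IsPair.meet_mem hs hS htp hu]; exact hgab
  have hqu : phi u (x q) = 1 := by rw [IsPair.meet_mem hs hS hq hu]; show g a' + g b' = 1; rw [ea, eb]; exact hgab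
  have hru : phi u (x r) = 0 := by rw [IsPair.meet_mem hs hS hr hu]; exact hga
  have hr'u : phi u (x r') = 0 := by rw [IsPair.meet_mem hs hS hr' hu]; exact hgb
  have hpq : phi p (x q) = 0 := by
    rw [IsPair.meet hs hS htp hq, dlt_ne haa'.symm, dlt_ne hab', dlt_ne ha'b.symm, dlt_ne hbb'.symm]
    decide
  have hpr : phi p (x r) = 1 := by
    rw [IsPair.meet hs hS htp hr, dlt_self, dlt_ne haa'.symm, dlt_ne hab.symm, dlt_ne ha'b.symm]
    decide
  have hpr' : phi p (x r') = 1 := by
    rw [IsPair.meet hs hS htp hr', dlt_self, dlt_ne hab', dlt_ne hab, dlt_ne hbb'.symm]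
    decide
  have hqr : phi q (x r) = 1 := by
    rw [IsPair.meet hs hS hq hr, dlt_self, dlt_ne haa', dlt_ne hab'.symm, dlt_ne ha'b'.symm]
    decide
  have hqr' : phi q (x r') = 1 := by
    rw [IsPair.meet hs hS hq hr', dlt_self, dlt_ne ha'b, dlt_ne ha'b', dlt_ne hbb']
    decide
  have hrr' : phi r (x r') = 0 := by
    rw [IsPair.meet hs hS hr hr', dlt_ne hab, dlt_ne hab', dlt_ne ha'b, dlt_ne ha'b']
    decide
  set w := q * u * q with hw
  have hwD := hs.conj q hq.mem u hu
  have hqu' : phi q (x u) = 1 := (hs.phi_symm hq.mem hu).trans hqu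
  have hwx : x w = x u + x q := hs.x_conj_of_one hq.mem hu hqu'
  have hwf : ∀ v, phi w v = phi u v + phi q v := fun v => by rw [hs.phi_conj hq.mem hu, hqu, one_mul]
  have hpw : phi p (x w) = 1 := by
    rw [hwx, hs.phi_add htp.mem, hpq, add_zero]
    exact htu
  set u' := p * w * p with hu'
  have hu'D := hs.conj p htp.mem w hwD
  have hu'f : ∀ v, phi u' v = phi u v + phi q v + phi p v := fun v => by
    rw [hs.phi_conj htp.mem hwD, hwf, (hs.phi_symm hwD htp.mem).trans hpw, one_mul]
  have hu'x : x u' = x u + x q + x p := by rw [hs.x_conj_of_one htp.mem hwD hpw, hwx]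
  have hu'out : ¬ InStar D x s u' := fun h => hout (by
    have h1 := InStar.conj hs hS ⟨_, _, ha'b', hq⟩ (InStar.conj hs hS ⟨a, b, hab, htp⟩ h)
    have hpp := hs.invol p htp.mem
    have hqq := hs.invol q hq.mem
    rwa [hu', show p * (p * w * p) * p = (p * p) * w * (p * p) by group, hpp, one_mul, mul_one, hw,
      show q * (q * u * q) * q = (q * q) * u * (q * q) by group, hqq, one_mul, mul_one] at h1)
  have hur : u ≠ r := fun h => hout ⟨_, _, haa'.symm, h ▸ hr⟩
  have hur' : u ≠ r' := fun h => hout ⟨_, _, hbb'.symm, h ▸ hr'⟩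
  have hu'r : u' ≠ r := fun h => hu'out ⟨_, _, haa'.symm, h ▸ hr⟩
  have hu'r' : u' ≠ r' := fun h => hu'out ⟨_, _, hbb'.symm, h ▸ hr'⟩
  have hfour : ∀ v : V, pf s a v + pf s a' v + (pf s b v + pf s b' v) =
      ∑ c ∈ ({a, a', b, b'} : Finset (Fin (n + 1))), pf s c v := fun v => by
    rw [Finset.sum_insert (by simp [haa'.symm, hab, hab']), Finset.sum_insert (by simp [ha'b, ha'b']),
      Finset.sum_insert (by simp [hbb'.symm]), Finset.sum_singleton]
    ring
  have hindep : ¬ ∀ v : V, pf s a v + pf s a' v + (pf s b v + pf s b' v) = 0 := fun h => by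
    refine hS.pf_indep {a, a', b, b'} (Finset.insert_nonempty _ _) ?_ fun v => (hfour v).symm.trans (h v)
    rw [Finset.card_insert_of_notMem (by simp [haa'.symm, hab, hab']),
      Finset.card_insert_of_notMem (by simp [ha'b, ha'b']), Finset.card_insert_of_notMem (by simp [hbb'.symm]),
      Finset.card_singleton]
    decide
  have hrne : r ≠ r' := fun h => hindep fun v => by
    rw [← hr.form, ← hr'.form, h, CharTwo.add_self_eq_zero]
  have huu' : u ≠ u' := fun h => hindep fun v => by
    have h1 := hu'f v
    rw [← h, add_assoc, left_eq_add, hq.form, htp.form] at h1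
    linear_combination h1
  refine hs.false_of_dep {u, u', r, r'} ?_ (Finset.insert_nonempty _ _) ?_ fun v => ?_
  · intro c hc
    simp only [Finset.coe_insert, Finset.coe_singleton, Set.mem_insert_iff, Set.mem_singleton_iff] at hc
    rcases hc with rfl | rfl | rfl | rfl
    exacts [hu, hu'D, hr.mem, hr'.mem]
  · have huu : phi u (x u') = 0 := by
      rw [hu'x, hs.phi_add hu, hs.phi_add hu, hs.phi_self hu, hqu, hpu]
      decide
    have hu'r1 : phi u' (x r) = 0 := by
      rw [hu'f, hru, hqr, hpr]
      decide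
    have hu'r2 : phi u' (x r') = 0 := by
      rw [hu'f, hr'u, hqr', hpr']
      decide
    intro c hc d hd
    simp only [Finset.mem_insert, Finset.mem_singleton] at hc hd
    rcases hc with rfl | rfl | rfl | rfl <;> rcases hd with rfl | rfl | rfl | rfl
    exacts [hs.phi_self hu, huu, hru, hr'u,
      (hs.phi_symm hu'D hu).trans huu, hs.phi_self hu'D, hu'r1, hu'r2,
      (hs.phi_symm hr.mem hu).trans hru, (hs.phi_symm hr.mem hu'D).trans hu'r1, hs.phi_self hr.mem, hrr',
      (hs.phi_symm hr'.mem hu).trans hr'u, (hs.phi_symm hr'.mem hu'D).trans hu'r2,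
      (hs.phi_symm hr'.mem hr.mem).trans hrr', hs.phi_self hr'.mem]
  · rw [Finset.sum_insert (by simp [huu', hur, hur']), Finset.sum_insert (by simp [hu'r, hu'r']),
      Finset.sum_insert (by simp [hrne]), Finset.sum_singleton, hu'f, hr.form, hr'.form, hq.form, htp.form]
    linear_combination (phi u v + pf s a v + pf s a' v + pf s b v + pf s b' v) *
      (CharTwo.two_eq_zero : (2 : ZMod 2) = 0)

/-- A star exhausting the members. -/
theorem SymSys.exists_star [Finite H] (hs : SymSys D x) :
    ∃ (n : ℕ) (s : Fin n → H), 2 ≤ n ∧ Star D x s ∧ ∀ t ∈ D, InStar D x s t := by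
  classical
  obtain ⟨t, ht, u, hu, hne⟩ := hs.noncomm
  have h1 : phi t (x u) = 1 := (zmod_two_cases _).resolve_left fun h => hne ((hs.comm_iff_phi ht hu).2 h)
  have h2 : phi u (x t) = 1 := (hs.phi_symm hu ht).trans h1
  have hS₂ : Star D x ![t, u] := by
    refine ⟨fun i => ?_, fun i j => ?_, fun J hJ h => ?_⟩
    · fin_cases i <;> simpa
    · fin_cases i <;> fin_cases j <;> simp [hs.phi_self ht, hs.phi_self hu, h1, h2]
    · have e1 := h (x t)
      have e2 := h (x u)
      rw [show J = ({0, 1} : Finset (Fin 2)).filter (· ∈ J) by ext l; fin_cases l <;> simp,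
        Finset.sum_filter, Finset.sum_pair (by decide)] at e1 e2
      obtain ⟨l, hl⟩ := hJ
      fin_cases l <;> simp_all [hs.phi_self]
  let P : ℕ → Prop := fun n => ∃ s : Fin n → H, Star D x s
  have hbd : ∀ n, P n → n ≤ Nat.card H := fun n ⟨s, hS⟩ => by
    have hinj : Function.Injective s := fun i j h => by
      by_contra hij
      have := hS.meet i j
      rw [if_neg hij, h, hs.phi_self (hS.mem j)] at this
      exact zero_ne_one this
    simpa using Nat.card_le_card_of_injective s hinj
  set n := Nat.findGreatest P (Nat.card H) with hn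
  have hP2 : P 2 := ⟨_, hS₂⟩
  have hn2 : 2 ≤ n := Nat.le_findGreatest (hbd 2 hP2) hP2
  obtain ⟨s, hS⟩ := (Nat.findGreatest_spec (hbd 2 hP2) hP2 : P n)
  have hmax : ∀ s' : Fin (n + 1) → H, ¬ Star D x s' := fun s' h =>
    Nat.findGreatest_is_greatest (Nat.lt_succ_self n) (hbd (n + 1) ⟨s', h⟩) ⟨s', h⟩
  refine ⟨n, s, hn2, hS, fun w hw => ?_⟩
  have hE := hs.conn {w | InStar D x s w} (fun w ⟨_, _, _, hp⟩ => hp.mem) ?_ ?_
  · rw [← hE] at hw
    exact hw
  · exact ⟨s ⟨0, by omega⟩, 0, _, (Fin.succ_ne_zero _).symm, hS.mem _,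
      fun v => by rw [pf_zero, pf_succ, zero_add], by rw [px_zero, px_succ, zero_add]⟩
  · rintro c hc d hd hcd
    obtain ⟨a, b, hab, hp⟩ := hc
    exact hS.closed hs (by omega) hmax ⟨a, b, hab, hp⟩ hd
      ((zmod_two_cases _).resolve_left fun h => hcd ((hs.comm_iff_phi hp.mem hd).2 h))

end CfsgLib.CFun.MinParab.Rec
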