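import Cfsg.Agent.Lib.CFun.MinParab.Rec.Degree
import Cfsg.Agent.Lib.CFun.MinParab.Rec.Linear
import Cfsg.Agent.Lib.CFun.MinParab.Rec.Natural

/-!
# The parts for two scalars

A class of transvections not generating inside `M` gives a symmetric group of degree `2 ^ n + 1`, whose
translates under the Sylow subgroup are the parts; every transvection lies in one of them.
-/

set_option autoImplicit false
set_option linter.unusedSectionVars false
set_option linter.style.haveILetI false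

open CfsgLib.Char.NatSL (fixS mem_fixS fixS_mono tr mem_tr smul_mem_tr)
open CfsgLib.Fusion (conjBy mem_conjBy conj_mem_conjBy conjBy_one conjBy_mono)

namespace CfsgLib.CFun.MinParab.Rec

variable {H : Type*} [Group H] [Finite H] {V : Type*} [AddCommGroup V] [Finite V] [DistribMulAction H V]
  {p : ℕ} [hp : Fact p.Prime] {T : Sylow p H} {M : Subgroup H} {t₀ : H}

/-- Some class does not generate inside `M`. -/
theorem Sys.exists_cls_notM (hs : Sys V p 2 T M) {A : Subgroup H} (hA : Root V p 2 A) :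
    ∃ t₀ ∈ Tv V p, ¬ Subgroup.closure (Cls V p t₀) ≤ M := by
  obtain ⟨g, L, m, -, -, hb⟩ := hA.exists_conj_blk hs.least hs.ctx
  obtain ⟨F, iF, iFf, -, ⟨c⟩, -⟩ := exists_coord hb
  have hB : Root V p 2 (conjBy g A) := hA.conj g
  obtain ⟨b, hb', hb1⟩ := hB.exists_ne_one hs.least
  have hbB := hB.eq_zpowers hb' hb1
  have hbt : b ∈ Tv V p := by show Root V p 2 (Subgroup.zpowers b); rw [hbB]; exact hB
  refine ⟨b, hbt, fun h => hb.notM ?_⟩
  have hwB : conjBy c.wl (conjBy g A) = Subgroup.zpowers (c.wl * b * c.wl⁻¹) :=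
    (congrArg (conjBy c.wl) hbB.symm).trans (conjBy_zpowers _ _)
  rw [← c.gen, hwB]
  refine (sup_le (hbB.symm.le.trans (Subgroup.zpowers_le.2 (Subgroup.subset_closure (mem_cls_self b))))
    (Subgroup.zpowers_le.2 (Subgroup.subset_closure (Relation.ReflTransGen.single
      ⟨hbt, Tv.conj hbt c.wl, fun e => ?_⟩)))).trans h
  refine c.not_com_wl hs hB ?_
  rw [hwB]
  exact (com_zpowers.2 e).mono hbB.symm.le le_rfl

/-- The standard matching of the points. -/
theorem exists_matching (k : ℕ) : ∃ μ : Fin k → Fin k,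
    (∀ a, μ (μ a) = a) ∧ ∀ a b, μ a = a → μ b = b → a = b := by
  let m : ℕ → ℕ := fun a => if a % 2 = 1 then a - 1 else if a + 1 < k then a + 1 else a
  have hm : ∀ a < k, m a < k ∧ m (m a) = a := fun a ha => by
    refine ⟨?_, ?_⟩ <;> simp only [m] <;> split_ifs <;> omega
  have hf : ∀ a < k, m a = a → a + 1 = k := fun a ha h => by
    simp only [m] at h
    split_ifs at h <;> omega
  refine ⟨fun a => ⟨m a, (hm a a.2).1⟩, fun a => Fin.ext (hm a a.2).2, fun a b ha hb => Fin.ext ?_⟩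
  have h1 := hf a a.2 (congrArg Fin.val ha)
  have h2 := hf b b.2 (congrArg Fin.val hb)
  omega

theorem Sys.sym_data (hs : Sys V p 2 T M) (ht₀ : t₀ ∈ Tv V p) (hLM : ¬ Subgroup.closure (Cls V p t₀) ≤ M) :
    ∃ n, 1 ≤ n ∧ IsPermNat V n (Subgroup.closure (Cls V p t₀)) := by
  classical
  obtain ⟨k, e, hk3, hmem, hsymm, hsurj, hinj, hconj, hcomm, -, hodd⟩ := (hs.symSys_cls ht₀).exists_sym
  have hP : Pairs V p t₀ k e := ⟨hk3, hmem, hsymm, hsurj, hinj, hconj, hcomm⟩
  obtain ⟨n, hn, rfl⟩ : ∃ n, 1 ≤ n ∧ k = 2 ^ n + 1 := by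
    have h4 := hs.ne_four ht₀ hP
    by_cases h3 : k = 3
    · exact ⟨1, le_rfl, h3⟩
    have hk : 5 ≤ k := by omega
    obtain ⟨μ, hμ, hμf⟩ := exists_matching k
    set s : Finset H := (Finset.univ.filter fun a => μ a ≠ a).image fun a => e a (μ a) with hsdef
    have hsmem : ∀ u ∈ s, ∃ a, μ a ≠ a ∧ e a (μ a) = u := fun u hu => by
      simp only [hsdef, Finset.mem_image, Finset.mem_filter] at hu
      obtain ⟨a, ha, rfl⟩ := hu
      exact ⟨a, ha.2, rfl⟩
    have hsTv : (↑s : Set H) ⊆ Tv V p := fun u hu => by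
      obtain ⟨a, ha, rfl⟩ := hsmem u hu
      exact cls_tv ht₀ (hP.mem _ _ (Ne.symm ha))
    have hscomm : ∀ t ∈ s, ∀ u ∈ s, t * u = u * t := fun t ht u hu => by
      obtain ⟨a, ha, rfl⟩ := hsmem t ht
      obtain ⟨b, hb, rfl⟩ := hsmem u hu
      refine (hP.comm _ _ _ _ (Ne.symm ha) (Ne.symm hb)).2 ?_
      by_cases h1 : a = b
      · exact Or.inl (Or.inl ⟨h1, by rw [h1]⟩)
      by_cases h2 : a = μ b
      · exact Or.inl (Or.inr ⟨h2, by rw [h2, hμ]⟩)
      exact Or.inr ⟨h1, h2, fun h => h2 (by rw [← h, hμ]), fun h => h1 (by rw [← hμ a, h, hμ])⟩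
    obtain ⟨Q, hQ⟩ := (hs.bound_aux s hsTv hscomm).2.1.pgroup.exists_le_sylow
    obtain ⟨h, rfl⟩ := MulAction.exists_smul_eq H T Q
    exact (hs.move h).degree ht₀ (hs.cls_notM ht₀ hLM h) hP hk μ hμ hμf fun a ha =>
      hQ (Subgroup.subset_closure (Finset.mem_image.2 ⟨a, Finset.mem_filter.2 ⟨Finset.mem_univ _, ha⟩, rfl⟩))
  obtain ⟨θ, ψ, -, hsum, hev, hker, hequiv⟩ :=
    hodd ⟨2 ^ (n - 1), by rw [← pow_succ', show n - 1 + 1 = n by omega]⟩
  refine ⟨n, hn, θ, ψ, hsum, hev, fun v => (hker v).trans ⟨fun h g hg => ?_, fun h t ht =>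
    h t (Subgroup.subset_closure ht)⟩, hequiv⟩
  exact MulAction.mem_stabilizer_iff.1
    ((Subgroup.closure_le _).2 (fun t ht => MulAction.mem_stabilizer_iff.2 (h t ht)) hg)

/-- The even-weight module is spanned by commutators. -/
theorem IsPermNat.sup_eq_top {n : ℕ} (hn : 1 ≤ n) {E : Subgroup H} (h : IsPermNat V n E) :
    commS V E ⊔ fixS V E = ⊤ := by
  classical
  obtain ⟨θ, ψ, hsum, hev, hker, hequiv⟩ := h
  have hk3 : 3 ≤ 2 ^ n + 1 := by
    have : 2 ^ 1 ≤ 2 ^ n := Nat.pow_le_pow_right (by norm_num) hn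
    omega
  let S := (commS V E).map ψ
  let δ : Fin (2 ^ n + 1) → Fin (2 ^ n + 1) → ZMod 2 := fun a => Pi.single a 1
  have hpair : ∀ a b, δ a + δ b ∈ S := by
    intro a b
    rcases eq_or_ne a b with rfl | hab
    · rw [show δ a + δ a = 0 from funext fun _ => CharTwo.add_self_eq_zero _]
      exact zero_mem _
    obtain ⟨c, -, hc⟩ := Finset.exists_mem_notMem_of_card_lt_card (s := ({a, b} : Finset (Fin (2 ^ n + 1))))
      (t := Finset.univ) (by rw [Finset.card_univ, Fintype.card_fin, Finset.card_pair hab]; omega)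
    simp only [Finset.mem_insert, Finset.mem_singleton, not_or] at hc
    obtain ⟨v, hv⟩ := hev (δ a + δ c) (by
      simp only [δ, Pi.add_apply, Finset.sum_add_distrib, Finset.sum_pi_single', Finset.mem_univ, if_true]
      exact CharTwo.add_self_eq_zero _)
    refine ⟨(θ.symm (Equiv.swap a b) : H) • v - v, sub_mem_commS (SetLike.coe_mem _) v, ?_⟩
    funext i
    rw [map_sub, Pi.sub_apply, hequiv, MulEquiv.apply_symm_apply, Equiv.swap_inv, hv]
    simp only [δ, Pi.add_apply, Pi.single_apply, Equiv.swap_apply_def, CharTwo.sub_eq_add]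
    split_ifs <;> simp_all <;> decide
  refine top_le_iff.1 fun v _ => ?_
  have hmem : ψ v ∈ S := by
    have h1 : ψ v = ∑ a, ψ v a • (δ a + δ 0) := by
      funext i
      simp only [δ, Finset.sum_apply, Pi.smul_apply, Pi.add_apply, smul_eq_mul, mul_add, Finset.sum_add_distrib,
        ← Finset.sum_mul, hsum, zero_mul, add_zero, Pi.single_apply, mul_ite, mul_one, mul_zero,
        Finset.sum_ite_eq, Finset.mem_univ, if_true]
      split_ifs <;> simp [hsum]
    rw [h1]
    refine sum_mem fun a _ => ?_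
    rcases zmod_two_cases (ψ v a) with h | h
    · rw [h, zero_smul]; exact zero_mem _
    · rw [h, one_smul]; exact hpair a 0
  obtain ⟨c, hc, he⟩ := hmem
  refine AddSubgroup.mem_sup.2 ⟨c, hc, v - c, (hker _).1 ?_, add_sub_cancel c v⟩
  rw [map_sub, he, sub_self]

/-- The parts for two scalars. -/
theorem exists_parts_sym (hs : Sys V p 2 T M) (hA : ∃ A : Subgroup H, Root V p 2 A) :
    ∃ (r : ℕ) (E : Fin r → Subgroup H), Parts V (T : Subgroup H) r E ∧
      (∀ A : Subgroup H, Root V p 2 A → ∃ i, A ≤ E i) ∧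
      ∃ n, 1 ≤ n ∧ ∀ i, IsPermNat V n (E i) ∧ ∃ t ∈ Tv V p, E i = Subgroup.closure (Cls V p t) := by
  classical
  obtain ⟨A, hA⟩ := hA
  obtain ⟨t₀, ht₀, hLM⟩ := hs.exists_cls_notM hA
  obtain ⟨n, hn, hnat⟩ := hs.sym_data ht₀ hLM
  obtain ⟨r, E, hP, hE⟩ := exists_parts hs.ctx hLM (fun u _ v _ hne => by
    rw [conjBy_closure_cls, conjBy_closure_cls] at hne ⊢
    exact hs.com_cls (Tv.conj ht₀ u) (Tv.conj ht₀ v) fun h => hne (by rw [h])) (hnat.sup_eq_top hn)
  refine ⟨r, E, hP, fun A' hA' => hP.covered hs.least hs.ctx hA' fun x _ => ?_, n, hn, fun i => ?_⟩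
  · have hR : Root V p 2 (conjBy x A') := hA'.conj x
    obtain ⟨u, hu, hu1⟩ := hR.exists_ne_one hs.least
    have huB := hR.eq_zpowers hu hu1
    have hut : u ∈ Tv V p := by show Root V p 2 (Subgroup.zpowers u); rw [huB]; exact hR
    have hle : conjBy x A' ≤ Subgroup.closure (Cls V p u) :=
      huB ▸ Subgroup.zpowers_le.2 (Subgroup.subset_closure (mem_cls_self u))
    by_cases h : ∃ i, Subgroup.closure (Cls V p u) ≤ E i
    · obtain ⟨i, hi⟩ := h
      exact Or.inl ⟨i, hle.trans hi⟩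
    refine Or.inr fun i => ?_
    obtain ⟨t, -, he⟩ := hE i
    rw [conjBy_closure_cls] at he
    rw [he]
    exact (hs.com_cls hut (Tv.conj ht₀ t) fun e => h ⟨i, by rw [he, e]⟩).1.mono hle le_rfl
  · obtain ⟨t, -, he⟩ := hE i
    exact ⟨he ▸ hnat.conj t, _, Tv.conj ht₀ t, he.trans (conjBy_closure_cls t t₀)⟩

end CfsgLib.CFun.MinParab.Rec
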