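import Cfsg.Agent.Lib.CFun.MinParab.Rec.SymBasic

/-!
# Stars: members behaving like the transpositions at one point

A star is a family `s i` of members, any two noncommuting, with independent forms. It gives for every pair of
points of `Fin (n + 1)` a member `IsPair`, closed under conjugation; any point gives a new star. A largest star
exhausts `D`.
-/

set_option autoImplicit false
set_option linter.unusedSectionVars false

namespace CfsgLib.CFun.MinParab.Rec

variable {H : Type*} [Group H] {V : Type*} [AddCommGroup V] [DistribMulAction H V] {D : Set H} {x : H → V}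

/-- A star. -/
structure Star (D : Set H) (x : H → V) {n : ℕ} (s : Fin n → H) : Prop where
  mem : ∀ i, s i ∈ D
  meet : ∀ i j, phi (s i) (x (s j)) = if i = j then 0 else 1
  indep : ∀ J : Finset (Fin n), J.Nonempty → ¬ ∀ v : V, ∑ i ∈ J, phi (s i) v = 0

/-- The form at a point. -/
noncomputable def pf {n : ℕ} (s : Fin n → H) : Fin (n + 1) → V → ZMod 2 :=
  Fin.cons (α := fun _ => V → ZMod 2) (fun _ => 0) fun i v => phi (s i) v

/-- The centre at a point. -/
def px {n : ℕ} (x : H → V) (s : Fin n → H) : Fin (n + 1) → V :=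
  Fin.cons (α := fun _ => V) 0 fun i => x (s i)

theorem pf_zero {n : ℕ} (s : Fin n → H) (v : V) : pf s 0 v = 0 := rfl

theorem pf_succ {n : ℕ} (s : Fin n → H) (i : Fin n) (v : V) : pf s i.succ v = phi (s i) v := by
  simp [pf]

theorem px_zero {n : ℕ} (s : Fin n → H) : px x s 0 = 0 := rfl

theorem px_succ {n : ℕ} (s : Fin n → H) (i : Fin n) : px x s i.succ = x (s i) := by
  simp [px]

/-- The member at the pair `a`, `b`. -/
structure IsPair (D : Set H) (x : H → V) {n : ℕ} (s : Fin n → H) (a b : Fin (n + 1)) (t : H) : Prop where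
  mem : t ∈ D
  form : ∀ v : V, phi t v = pf s a v + pf s b v
  centre : x t = px x s a + px x s b

theorem IsPair.symm {n : ℕ} {s : Fin n → H} {a b : Fin (n + 1)} {t : H} (h : IsPair D x s a b t) :
    IsPair D x s b a t :=
  ⟨h.mem, fun v => (h.form v).trans (add_comm _ _), h.centre.trans (add_comm _ _)⟩

/-- `1` at equal points. -/
def dlt {n : ℕ} (a b : Fin n) : ZMod 2 := if a = b then 1 else 0

theorem dlt_self {n : ℕ} (a : Fin n) : dlt a a = 1 := if_pos rfl

theorem dlt_ne {n : ℕ} {a b : Fin n} (h : a ≠ b) : dlt a b = 0 := if_neg h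

theorem dlt_comm {n : ℕ} (a b : Fin n) : dlt a b = dlt b a := by
  rcases eq_or_ne a b with h | h
  · rw [h]
  · rw [dlt_ne h, dlt_ne h.symm]

theorem pf_add (hs : SymSys D x) {n : ℕ} {s : Fin n → H} (hS : Star D x s) (a : Fin (n + 1)) (u v : V) :
    pf s a (u + v) = pf s a u + pf s a v := by
  induction a using Fin.cases with
  | zero => simp [pf_zero]
  | succ i => simp only [pf_succ, hs.phi_add (hS.mem i)]

theorem pf_px (hs : SymSys D x) {n : ℕ} {s : Fin n → H} (hS : Star D x s) (a c : Fin (n + 1)) :
    pf s a (px x s c) = 1 + dlt a 0 + dlt c 0 + dlt a c := by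
  induction a using Fin.cases with
  | zero =>
    rw [pf_zero, dlt_self, dlt_comm 0 c]
    generalize dlt c 0 = z
    revert z
    decide
  | succ i =>
    induction c using Fin.cases with
    | zero =>
      rw [px_zero, pf_succ, phi_zero, dlt_self, dlt_ne (Fin.succ_ne_zero i)]
      decide
    | succ j =>
      rw [px_succ, pf_succ, hS.meet, dlt_ne (Fin.succ_ne_zero i), dlt_ne (Fin.succ_ne_zero j), add_zero, add_zero]
      rcases eq_or_ne i j with h | h
      · subst h
        rw [if_pos rfl, dlt_self]
        decide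
      · rw [if_neg h, dlt_ne fun he => h (Fin.succ_inj.1 he), add_zero]

/-- The meet of two pairs. -/
theorem IsPair.meet (hs : SymSys D x) {n : ℕ} {s : Fin n → H} (hS : Star D x s) {a b c d : Fin (n + 1)}
    {t u : H} (ht : IsPair D x s a b t) (hu : IsPair D x s c d u) :
    phi t (x u) = dlt a c + dlt a d + dlt b c + dlt b d := by
  rw [hu.centre, ht.form, pf_add hs hS a, pf_add hs hS b, pf_px hs hS, pf_px hs hS, pf_px hs hS, pf_px hs hS]
  linear_combination (2 + dlt a (0 : Fin (n + 1)) + dlt b (0 : Fin (n + 1)) + dlt c (0 : Fin (n + 1)) +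
    dlt d (0 : Fin (n + 1))) * (CharTwo.two_eq_zero : (2 : ZMod 2) = 0)

theorem IsPair.meet_mem (hs : SymSys D x) {n : ℕ} {s : Fin n → H} (hS : Star D x s) {a b : Fin (n + 1)} {u w : H}
    (hw : IsPair D x s a b w) (hu : u ∈ D) :
    phi u (x w) = phi u (px x s a) + phi u (px x s b) := by rw [hw.centre, hs.phi_add hu]

theorem IsPair.unique (hs : SymSys D x) {n : ℕ} {s : Fin n → H} {a b : Fin (n + 1)} {t u : H}
    (ht : IsPair D x s a b t) (hu : IsPair D x s a b u) : t = u :=
  hs.eq_of_data ht.mem hu.mem (fun v => (ht.form v).trans (hu.form v).symm) (ht.centre.trans hu.centre.symm)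

theorem Star.exists_pair (hs : SymSys D x) {n : ℕ} {s : Fin n → H} (hS : Star D x s) {a b : Fin (n + 1)}
    (hab : a ≠ b) : ∃ t, IsPair D x s a b t := by
  induction a using Fin.cases with
  | zero =>
    induction b using Fin.cases with
    | zero => exact absurd rfl hab
    | succ j => exact ⟨s j, hS.mem j, fun v => by rw [pf_zero, pf_succ, zero_add], by rw [px_zero, px_succ, zero_add]⟩
  | succ i =>
    induction b using Fin.cases with
    | zero => exact ⟨s i, hS.mem i, fun v => by rw [pf_zero, pf_succ, add_zero], by rw [px_zero, px_succ, add_zero]⟩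
    | succ j =>
      have hij : i ≠ j := fun h => hab (by rw [h])
      have h1 : phi (s i) (x (s j)) = 1 := by rw [hS.meet, if_neg hij]
      have h2 : phi (s j) (x (s i)) = 1 := by rw [hS.meet, if_neg hij.symm]
      refine ⟨s i * s j * s i, hs.conj _ (hS.mem i) _ (hS.mem j), fun v => ?_, ?_⟩
      · rw [hs.phi_conj (hS.mem i) (hS.mem j), h2, one_mul, pf_succ, pf_succ, add_comm]
      · rw [hs.x_conj_of_one (hS.mem i) (hS.mem j) h1, px_succ, px_succ, add_comm]

/-- The pair after a conjugation. -/
theorem IsPair.conj (hs : SymSys D x) {n : ℕ} {s : Fin n → H} (hS : Star D x s) {a b c d : Fin (n + 1)}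
    {t u : H} (hab : a ≠ b) (ht : IsPair D x s a b t) (hu : IsPair D x s c d u) :
    IsPair D x s (Equiv.swap a b c) (Equiv.swap a b d) (t * u * t) := by
  have hw := hs.conj t ht.mem u hu.mem
  have hf : ∀ e : Fin (n + 1), ∀ v : V, pf s (Equiv.swap a b e) v =
      pf s e v + (dlt e a + dlt e b) * (pf s a v + pf s b v) := fun e v => by
    rcases eq_or_ne e a with h | h
    · subst h
      rw [Equiv.swap_apply_left, dlt_self, dlt_ne hab, add_zero, one_mul, ← add_assoc, CharTwo.add_self_eq_zero,
        zero_add]
    · rcases eq_or_ne e b with h' | h'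
      · subst h'
        rw [Equiv.swap_apply_right, dlt_self, dlt_ne h, zero_add, one_mul, add_left_comm,
          CharTwo.add_self_eq_zero, add_zero]
      · rw [Equiv.swap_apply_of_ne_of_ne h h', dlt_ne h, dlt_ne h', add_zero, zero_mul, add_zero]
  have hx : ∀ e : Fin (n + 1), px x s (Equiv.swap a b e) =
      px x s e + (if dlt e a + dlt e b = 1 then px x s a + px x s b else 0) := fun e => by
    rcases eq_or_ne e a with h | h
    · subst h
      rw [Equiv.swap_apply_left, dlt_self, dlt_ne hab, add_zero, if_pos rfl, ← add_assoc, hs.two, zero_add]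
    · rcases eq_or_ne e b with h' | h'
      · subst h'
        rw [Equiv.swap_apply_right, dlt_self, dlt_ne h, zero_add, if_pos rfl, add_left_comm, hs.two, add_zero]
      · rw [Equiv.swap_apply_of_ne_of_ne h h', dlt_ne h, dlt_ne h', add_zero, if_neg zero_ne_one, add_zero]
  refine ⟨hw, fun v => ?_, ?_⟩
  · rw [hs.phi_conj ht.mem hu.mem, IsPair.meet hs hS hu ht, hu.form, ht.form, hf c, hf d]
    ring
  · have hm := IsPair.meet hs hS ht hu
    have e : dlt c a + dlt c b + (dlt d a + dlt d b) = phi t (x u) := by
      rw [hm, dlt_comm c a, dlt_comm c b, dlt_comm d a, dlt_comm d b]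
      ring
    rw [hx c, hx d, ← ht.centre]
    rcases zmod_two_cases (dlt c a + dlt c b) with h1 | h1 <;>
      rcases zmod_two_cases (dlt d a + dlt d b) with h2 | h2 <;> rw [h1, h2] at e <;> rw [h1, h2]
    · rw [hs.x_conj_of_zero ht.mem hu.mem (e.symm.trans (add_zero 0)), hu.centre, if_neg zero_ne_one,
        add_zero, add_zero]
    · rw [hs.x_conj_of_one ht.mem hu.mem (e.symm.trans (zero_add 1)), hu.centre, if_pos rfl,
        if_neg zero_ne_one, add_zero, add_assoc]
    · rw [hs.x_conj_of_one ht.mem hu.mem (e.symm.trans (add_zero 1)), hu.centre, if_pos rfl,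
        if_neg zero_ne_one, add_zero, add_right_comm]
    · rw [hs.x_conj_of_zero ht.mem hu.mem (e.symm.trans (CharTwo.add_self_eq_zero 1)), hu.centre, if_pos rfl,
        add_add_add_comm _ (x t), hs.two, add_zero]

/-- The members of a star. -/
def InStar (D : Set H) (x : H → V) {n : ℕ} (s : Fin n → H) (t : H) : Prop :=
  ∃ a b, a ≠ b ∧ IsPair D x s a b t

theorem InStar.conj (hs : SymSys D x) {n : ℕ} {s : Fin n → H} (hS : Star D x s) {t u : H}
    (ht : InStar D x s t) (hu : InStar D x s u) : InStar D x s (t * u * t) := by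
  obtain ⟨a, b, hab, ht⟩ := ht
  obtain ⟨c, d, hcd, hu⟩ := hu
  exact ⟨_, _, fun h => hcd ((Equiv.swap a b).injective h), IsPair.conj hs hS hab ht hu⟩

theorem Star.pf_indep {n : ℕ} {s : Fin n → H} (hS : Star D x s) (J : Finset (Fin (n + 1)))
    (hne : J.Nonempty) (heven : (J.card : ZMod 2) = 0) : ¬ ∀ v : V, ∑ a ∈ J, pf s a v = 0 := by
  classical
  set J' : Finset (Fin n) := Finset.univ.filter fun i => i.succ ∈ J with hJ'
  have himg : J'.image Fin.succ = J.erase 0 := by
    ext a
    induction a using Fin.cases with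
    | zero => simp [Fin.succ_ne_zero]
    | succ i => simp [J', Fin.succ_ne_zero, Fin.succ_inj]
  have hJ'ne : J'.Nonempty := by
    rw [Finset.nonempty_iff_ne_empty]
    intro h0
    rw [h0, Finset.image_empty] at himg
    rcases Finset.erase_eq_empty_iff _ _ |>.1 himg.symm with h | h
    · exact hne.ne_empty h
    · rw [h, Finset.card_singleton, Nat.cast_one] at heven
      exact one_ne_zero heven
  intro h
  refine hS.indep J' hJ'ne fun v => ?_
  have h1 := h v
  rw [← Finset.sum_erase J (pf_zero s v), ← himg, Finset.sum_image fun i _ j _ hij => Fin.succ_inj.1 hij] at h1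
  simpa only [pf_succ] using h1

/-- Every point gives a star with the same members. -/
theorem Star.rebase (hs : SymSys D x) {n : ℕ} {s : Fin n → H} (hS : Star D x s) (c : Fin (n + 1)) :
    ∃ s' : Fin n → H, Star D x s' ∧ (∀ i, IsPair D x s c (c.succAbove i) (s' i)) ∧
      ∀ t, InStar D x s' t → InStar D x s t := by
  classical
  choose s' hs' using fun i : Fin n => hS.exists_pair hs (Fin.succAbove_ne c i).symm
  have hS' : Star D x s' := by
    refine ⟨fun i => (hs' i).mem, fun i j => ?_, fun J hJ h => ?_⟩
    · rw [IsPair.meet hs hS (hs' i) (hs' j), dlt_self, dlt_ne (Fin.succAbove_ne c j).symm,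
        dlt_ne (Fin.succAbove_ne c i), add_zero, add_zero]
      rcases eq_or_ne i j with h | h
      · subst h
        rw [if_pos rfl, dlt_self]
        decide
      · rw [if_neg h, dlt_ne fun he => h (Fin.succAbove_right_injective he), add_zero]
    · have hinj : ∀ i ∈ J, ∀ j ∈ J, c.succAbove i = c.succAbove j → i = j := fun i _ j _ he =>
        Fin.succAbove_right_injective he
      have hsum : ∀ v : V, (J.card : ZMod 2) * pf s c v + ∑ a ∈ J.image c.succAbove, pf s a v = 0 := fun v => by
        rw [Finset.sum_image hinj]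
        have h1 := h v
        rw [Finset.sum_congr rfl fun i _ => (hs' i).form v, Finset.sum_add_distrib, Finset.sum_const,
          nsmul_eq_mul] at h1
        exact h1
      have hc : c ∉ J.image c.succAbove := fun hm => by
        obtain ⟨i, -, he⟩ := Finset.mem_image.1 hm
        exact Fin.succAbove_ne c i he
      rcases zmod_two_cases (J.card : ZMod 2) with h0 | h0
      · refine hS.pf_indep (J.image c.succAbove) (hJ.image _)
          (by rwa [Finset.card_image_of_injOn fun i hi j hj he => hinj i hi j hj he]) fun v => ?_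
        have := hsum v
        rwa [h0, zero_mul, zero_add] at this
      · refine hS.pf_indep (insert c (J.image c.succAbove)) (Finset.insert_nonempty _ _) ?_ fun v => ?_
        · rw [Finset.card_insert_of_notMem hc, Finset.card_image_of_injOn fun i hi j hj he => hinj i hi j hj he,
            Nat.cast_add, h0, Nat.cast_one]
          decide
        · rw [Finset.sum_insert hc]
          have := hsum v
          rwa [h0, one_mul] at this
  refine ⟨s', hS', hs', fun t => ?_⟩
  rintro ⟨a, b, hab, ht⟩
  have key : ∀ a : Fin (n + 1), ∃ p : Fin (n + 1), (∀ v : V, pf s' a v = pf s p v + pf s c v) ∧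
      px x s' a = px x s p + px x s c ∧ p = Fin.cons (α := fun _ => Fin (n + 1)) c c.succAbove a := by
    intro a
    induction a using Fin.cases with
    | zero => exact ⟨c, fun v => by rw [pf_zero, CharTwo.add_self_eq_zero], by rw [px_zero, hs.two], rfl⟩
    | succ i =>
      refine ⟨c.succAbove i, fun v => ?_, ?_, by rw [Fin.cons_succ]⟩
      · rw [pf_succ, (hs' i).form, add_comm]
      · rw [px_succ, (hs' i).centre, add_comm]
  obtain ⟨p, hpf, hpx, hp⟩ := key a
  obtain ⟨q, hqf, hqx, hq⟩ := key b
  have hinj : Function.Injective (Fin.cons (α := fun _ => Fin (n + 1)) c c.succAbove) :=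
    Fin.cons_injective_iff.2 ⟨fun ⟨i, hi⟩ => Fin.succAbove_ne c i hi, Fin.succAbove_right_injective⟩
  refine ⟨p, q, fun he => hab (hinj (hp ▸ hq ▸ he)), ht.mem, fun v => ?_, ?_⟩
  · rw [ht.form, hpf, hqf, add_add_add_comm, CharTwo.add_self_eq_zero, add_zero]
  · rw [ht.centre, hpx, hqx, add_add_add_comm, hs.two, add_zero]

end CfsgLib.CFun.MinParab.Rec
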