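import Cfsg.Agent.Lib.CFun.MinParab.Rec.Coord
import Cfsg.Agent.Lib.CFun.MinParab.Rec.Parts
import Cfsg.Agent.Lib.CFun.MinParab.Rec.SymConcl

/-!
# Root groups of order two

For `q = 2` the roots are transvections. Distinct roots have distinct centres, so commuting sets have
independent axes, and every class of the graph of non-commuting roots is a system of transpositions. The classes
commute pairwise, and the translates under a Sylow subgroup of one not inside `M` are all classes.
-/

set_option autoImplicit false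
set_option linter.unusedSectionVars false
set_option linter.style.haveILetI false

open CfsgLib.Char.NatSL (fixS mem_fixS fixS_mono tr mem_tr card_tr smul_mem_tr card_sup_mul_card_inf)
open CfsgLib.Fusion (conjBy mem_conjBy conj_mem_conjBy conjBy_le_iff conjBy_eq_iff conjBy_conjBy conjBy_one
  conjBy_mono card_conjBy conjBy_inv_conjBy conjBy_conjBy_inv)
open CfsgLib.CFun.OffenderPair (fixS_sup)

namespace CfsgLib.CFun.MinParab.Rec

variable {H : Type*} [Group H] {V : Type*} [AddCommGroup V] [DistribMulAction H V] {p : ℕ}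

theorem fixS_zpowers (t : H) : fixS V (Subgroup.zpowers t) = fixS V (Subgroup.closure {t}) := by
  rw [Subgroup.zpowers_eq_closure]

theorem mem_fixS_zpowers {t : H} {v : V} : v ∈ fixS V (Subgroup.zpowers t) ↔ t • v = v :=
  ⟨fun h => h t (Subgroup.mem_zpowers t), fun h => fun g hg =>
    MulAction.mem_stabilizer_iff.1 (Subgroup.zpowers_le.2 (MulAction.mem_stabilizer_iff.2 h) hg)⟩

theorem conjBy_zpowers (g t : H) : conjBy g (Subgroup.zpowers t) = Subgroup.zpowers (g * t * g⁻¹) := by
  rw [CfsgLib.Fusion.conjBy, MonoidHom.map_zpowers]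
  rfl

theorem com_zpowers {t u : H} : Com (Subgroup.zpowers t) (Subgroup.zpowers u) ↔ t * u = u * t := by
  refine ⟨fun h => h t (Subgroup.mem_zpowers t) u (Subgroup.mem_zpowers u), fun h => ?_⟩
  rintro _ ⟨i, rfl⟩ _ ⟨j, rfl⟩
  exact ((show Commute t u from h).zpow_zpow i j).eq

/-- The transvections of the system. -/
def Tv (V : Type*) [AddCommGroup V] [DistribMulAction H V] (p : ℕ) : Set H :=
  {t | Root V p 2 (Subgroup.zpowers t)}

variable [Finite H] [Finite V] [hp : Fact p.Prime] {T : Sylow p H} {M : Subgroup H}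

theorem Tv.conj {t : H} (ht : t ∈ Tv V p) (g : H) : g * t * g⁻¹ ∈ Tv V p := by
  have h := Root.conj (V := V) (p := p) (q := 2) (show Root V p 2 (Subgroup.zpowers t) from ht) g
  rwa [conjBy_zpowers] at h

theorem Tv.orderOf {t : H} (ht : t ∈ Tv V p) : orderOf t = 2 := by
  rw [← Nat.card_zpowers]
  exact (show Root V p 2 (Subgroup.zpowers t) from ht).card

theorem Tv.sq {t : H} (ht : t ∈ Tv V p) : t * t = 1 := by
  rw [← pow_two, ← Tv.orderOf ht, pow_orderOf_eq_one]

theorem Tv.ne_one {t : H} (ht : t ∈ Tv V p) : t ≠ 1 := fun h => by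
  have := Tv.orderOf ht
  rw [h, orderOf_one] at this
  omega

theorem Root.eq_zpowers {A : Subgroup H} (hA : Root V p 2 A) {a : H} (ha : a ∈ A) (ha1 : a ≠ 1) :
    Subgroup.zpowers a = A := by
  refine Subgroup.eq_of_le_of_card_ge (Subgroup.zpowers_le.2 ha) ?_
  rw [hA.card]
  exact Subgroup.one_lt_card_iff_ne_bot _ |>.2 (by rw [Ne, Subgroup.zpowers_eq_bot]; exact ha1)

namespace Sys

theorem p_eq_two (hs : Sys V p 2 T M) {A : Subgroup H} (hA : Root V p 2 A) : p = 2 := by
  obtain ⟨a, ha, ha1⟩ := hA.exists_ne_one hs.least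
  have h1 : orderOf a ∣ p := orderOf_dvd_of_pow_eq_one (hA.el.pow a ha)
  have h2 : orderOf a = 2 := by rw [← Nat.card_zpowers, hA.eq_zpowers ha ha1, hA.card]
  rw [h2] at h1
  exact ((Nat.prime_dvd_prime_iff_eq Nat.prime_two hp.out).1 h1).symm

theorem two (hs : Sys V p 2 T M) {t : H} (ht : t ∈ Tv V p) (v : V) : v + v = 0 := by
  have h := hs.ctx.vp v
  rw [hs.p_eq_two ht] at h
  rwa [two_nsmul] at h

theorem sub_eq (hs : Sys V p 2 T M) {t : H} (ht : t ∈ Tv V p) (v w : V) (hv : t • v ≠ v) (hw : t • w ≠ w) :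
    t • v - v = t • w - w := by
  set W := fixS V (Subgroup.zpowers t)
  have hcard : Nat.card V = 2 * Nat.card ↥W := hs.card_V ht
  have hidx : W.index = 2 := by
    have h1 := W.card_mul_index
    rw [hcard] at h1
    exact Nat.eq_of_mul_eq_mul_left Nat.card_pos (h1.trans (mul_comm _ _))
  have hmem : v - w ∈ W := by
    rw [sub_eq_add_neg, AddSubgroup.add_mem_iff_of_index_two hidx, W.neg_mem_iff]
    exact ⟨fun h => absurd (mem_fixS_zpowers.1 h) hv, fun h => absurd (mem_fixS_zpowers.1 h) hw⟩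
  have h2 := mem_fixS_zpowers.1 hmem
  rw [smul_sub] at h2
  linear_combination (norm := abel) h2

end Sys

open scoped Classical in
/-- The centre of a transvection. -/
noncomputable def xc (V : Type*) [AddCommGroup V] [DistribMulAction H V] (t : H) : V :=
  if h : ∃ v : V, t • v ≠ v then t • h.choose - h.choose else 0

namespace Sys

theorem exists_moved_tv (hs : Sys V p 2 T M) {t : H} (ht : t ∈ Tv V p) : ∃ v : V, t • v ≠ v := by
  by_contra! h
  exact Tv.ne_one ht (hs.ctx.faith t h)

theorem sub_eq_xc (hs : Sys V p 2 T M) {t : H} (ht : t ∈ Tv V p) {v : V} (hv : t • v ≠ v) :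
    t • v - v = xc V t := by
  have h := hs.exists_moved_tv (V := V) ht
  rw [xc, dif_pos h]
  exact hs.sub_eq ht _ _ hv h.choose_spec

theorem step (hs : Sys V p 2 T M) {t : H} (ht : t ∈ Tv V p) (v : V) : t • v = v ∨ t • v = v + xc V t := by
  by_cases h : t • v = v
  · exact Or.inl h
  · exact Or.inr (by rw [← hs.sub_eq_xc ht h]; abel)

theorem xc_ne (hs : Sys V p 2 T M) {t : H} (ht : t ∈ Tv V p) : xc V t ≠ 0 := by
  obtain ⟨v, hv⟩ := hs.exists_moved_tv ht
  rw [← hs.sub_eq_xc ht hv]
  exact sub_ne_zero.2 hv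

theorem xc_fix (hs : Sys V p 2 T M) {t : H} (ht : t ∈ Tv V p) : t • xc V t = xc V t := by
  obtain ⟨v, hv⟩ := hs.exists_moved_tv ht
  rw [← hs.sub_eq_xc ht hv]
  exact mem_fixS_zpowers.1 (hs.quad ht (Subgroup.mem_zpowers t) v)

theorem comm_iff_tv (hs : Sys V p 2 T M) {t u : H} (ht : t ∈ Tv V p) (hu : u ∈ Tv V p) :
    t * u = u * t ↔ u • xc V t = xc V t := by
  rw [← com_zpowers, hs.com_iff ht hu]
  refine ⟨fun h => ?_, fun h => commS_le_iff.2 fun g hg v => ?_⟩
  · obtain ⟨v, hv⟩ := hs.exists_moved_tv ht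
    rw [← hs.sub_eq_xc ht hv]
    exact mem_fixS_zpowers.1 (h (sub_mem_commS (Subgroup.mem_zpowers t) v))
  · by_cases hg1 : g = 1
    · rw [hg1, one_smul, sub_self]; exact zero_mem _
    have hgt : g = t := by
      obtain ⟨n, rfl⟩ := Subgroup.mem_zpowers_iff.1 hg
      rcases Int.even_or_odd n with ⟨m, hm⟩ | ⟨m, hm⟩
      · exact absurd (by rw [hm, ← two_mul, zpow_mul, zpow_two, Tv.sq ht, one_zpow]) hg1
      · rw [hm, zpow_add, zpow_mul, zpow_two, Tv.sq ht, one_zpow, one_mul, zpow_one]
    subst hgt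
    rw [mem_fixS_zpowers]
    rcases hs.step ht v with h1 | h1 <;> rw [h1]
    · rw [sub_self, smul_zero]
    · rw [add_sub_cancel_left, h]

theorem exists_partner (hs : Sys V p 2 T M) {t : H} (ht : t ∈ Tv V p) : ∃ f ∈ Tv V p, t * f ≠ f * t := by
  obtain ⟨g, L, m, -, -, hb⟩ := Root.exists_conj_blk (show Root V p 2 (Subgroup.zpowers t) from ht) hs.least hs.ctx
  obtain ⟨F, iF, iFf, -, ⟨c⟩, -⟩ := exists_coord hb
  have hB : Root V p 2 (conjBy g (Subgroup.zpowers t)) := Root.conj ht g
  have hF : Root V p 2 (conjBy c.wl (conjBy g (Subgroup.zpowers t))) := hB.conj _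
  refine ⟨g⁻¹ * (c.wl * (g * t * g⁻¹) * c.wl⁻¹) * g, ?_, fun h => ?_⟩
  · have h1 := Tv.conj (Tv.conj (Tv.conj ht g) c.wl) g⁻¹
    rwa [inv_inv] at h1
  · obtain ⟨v, hv⟩ := c.surj (0, 1)
    have e : ∀ w : H, conjBy g (Subgroup.zpowers (g⁻¹ * (w * (g * t * g⁻¹) * w⁻¹) * g)) =
        conjBy w (conjBy g (Subgroup.zpowers t)) := fun w => by
      rw [conjBy_zpowers, conjBy_zpowers, conjBy_zpowers]; group
    have hcom : Com (conjBy g (Subgroup.zpowers t)) (conjBy c.wl (conjBy g (Subgroup.zpowers t))) :=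
      e c.wl ▸ (com_zpowers.2 h).conj g
    have h1 := hs.le_of_com hB hF hcom (sub_mem_commS (c.ub_mem 1) v)
    rw [fixS_conjBy] at h1
    obtain ⟨u, hu, hue⟩ := h1
    have h2 : c.ψ (c.wl • u) = c.ψ (c.ub 1 • v - v) := congrArg c.ψ hue
    rw [c.wl_ψ, (c.memW u).1 hu, map_sub, c.ub_ψ, hv] at h2
    simpa using congrArg Prod.fst h2

/-- Distinct transvections have distinct centres. -/
theorem xc_inj (hs : Sys V p 2 T M) {t u : H} (ht : t ∈ Tv V p) (hu : u ∈ Tv V p) (h : xc V t = xc V u) :
    t = u := by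
  by_contra hne
  have hp2 := hs.p_eq_two ht
  have htu : t * u = u * t := (hs.comm_iff_tv ht hu).2 (by rw [h]; exact hs.xc_fix hu)
  set π := t * u with hπ
  have hπ1 : π ≠ 1 := fun e => hne (by
    have h1 := congrArg (· * u) e
    simpa [hπ, mul_assoc, Tv.sq hu] using h1)
  have hππ : π * π = 1 := by
    rw [hπ]
    calc t * u * (t * u) = t * (u * t) * u := by group
      _ = t * (t * u) * u := by rw [← htu]
      _ = 1 := by rw [← mul_assoc, mul_assoc (t * t), Tv.sq ht, Tv.sq hu, mul_one]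
  have hact : ∀ v : V, π • v = v ∨ π • v = v + xc V t := by
    intro v
    rw [hπ, mul_smul]
    rcases hs.step hu v with h1 | h1
    · rw [h1]; exact hs.step ht v
    · rw [h1, smul_add, ← h, hs.xc_fix ht]
      rcases hs.step ht v with h2 | h2
      · exact Or.inr (by rw [h2])
      · exact Or.inl (by rw [h2, add_assoc, hs.two ht, add_zero])
  have hπord : orderOf π = 2 := orderOf_eq_prime (p := 2) (by rw [pow_two]; exact hππ) hπ1
  have hπtv : π ∈ Tv V p := by
    refine ⟨⟨fun a ha b hb => ?_, fun a ha => ?_⟩, by rw [Nat.card_zpowers, hπord], ?_⟩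
    · obtain ⟨i, rfl⟩ := Subgroup.mem_zpowers_iff.1 ha
      obtain ⟨j, rfl⟩ := Subgroup.mem_zpowers_iff.1 hb
      exact zpow_mul_comm π i j
    · obtain ⟨i, rfl⟩ := Subgroup.mem_zpowers_iff.1 ha
      rw [hp2, ← zpow_natCast, ← zpow_mul, mul_comm, zpow_mul, zpow_natCast, pow_two, hππ, one_zpow]
    · classical
      set W := fixS V (Subgroup.zpowers π)
      let f : V → Bool × ↥W → Prop := fun _ _ => True
      obtain ⟨w, hw⟩ : ∃ w : V, π • w ≠ w := by
        by_contra! h'
        exact hπ1 (hs.ctx.faith π h')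
      have hsurj : Function.Surjective fun z : Bool × ↥W => (if z.1 then w else 0) + (z.2 : V) := by
        intro v
        by_cases hv : π • v = v
        · exact ⟨(false, ⟨v, mem_fixS_zpowers.2 hv⟩), by simp⟩
        · refine ⟨(true, ⟨v - w, mem_fixS_zpowers.2 ?_⟩), by simp⟩
          rw [smul_sub, (hact v).resolve_left hv, (hact w).resolve_left hw]
          abel
      have := Nat.card_le_card_of_surjective _ hsurj
      rwa [Nat.card_prod, Nat.card_eq_fintype_card (α := Bool), Fintype.card_bool] at this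
  have hxπ : xc V π = xc V t := by
    obtain ⟨v, hv⟩ := hs.exists_moved_tv hπtv
    rw [← hs.sub_eq_xc hπtv hv, (hact v).resolve_left hv, add_sub_cancel_left]
  obtain ⟨f, hf, hft⟩ := hs.exists_partner ht
  have h1 : f • xc V t ≠ xc V t := fun e => hft ((hs.comm_iff_tv ht hf).2 e)
  have h2 : t • xc V f = xc V f + xc V t :=
    (hs.step ht _).resolve_left fun e => hft ((hs.comm_iff_tv hf ht).2 e).symm
  have h3 : u • xc V f = xc V f + xc V t := h ▸ (hs.step hu _).resolve_left fun e =>
    h1 (by rw [h]; exact (hs.comm_iff_tv hu hf).1 ((hs.comm_iff_tv hf hu).2 e).symm)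
  refine h1 (hxπ ▸ (hs.comm_iff_tv hπtv hf).1 ((hs.comm_iff_tv hf hπtv).2 ?_).symm)
  rw [hπ, mul_smul, h3, smul_add, h2, hs.xc_fix ht, add_assoc, hs.two ht, add_zero]

theorem fix_halve (hs : Sys V p 2 T M) (s : Finset H) (hsD : (↑s : Set H) ⊆ Tv V p) :
    Nat.card V ≤ 2 ^ s.card * Nat.card ↥(fixS V (Subgroup.closure (↑s : Set H))) := by
  classical
  induction s using Finset.induction with
  | empty =>
    rw [Finset.card_empty, pow_zero, one_mul, Finset.coe_empty, Subgroup.closure_empty]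
    refine Nat.card_le_card_of_injective (fun v => (⟨v, fun g hg => by rw [Subgroup.mem_bot.1 hg, one_smul]⟩ :
      ↥(fixS V (⊥ : Subgroup H)))) fun a b h => congrArg Subtype.val h
  | insert u s hus ih =>
    rw [Finset.coe_insert, Set.insert_subset_iff] at hsD
    rw [Finset.card_insert_of_notMem hus, Finset.coe_insert, Set.insert_eq, Subgroup.closure_union,
      ← Subgroup.zpowers_eq_closure, fixS_sup]
    have h1 := card_sup_mul_card_inf (fixS V (Subgroup.zpowers u)) (fixS V (Subgroup.closure (↑s : Set H)))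
    have h2 : Nat.card ↥(fixS V (Subgroup.zpowers u) ⊔ fixS V (Subgroup.closure (↑s : Set H))) ≤ Nat.card V :=
      AddSubgroup.card_le_card_addGroup _
    have h3 := hs.card_V (show Root V p 2 (Subgroup.zpowers u) from hsD.1)
    have h4 := ih hsD.2
    have h5 : 0 < Nat.card ↥(fixS V (Subgroup.zpowers u)) := Nat.card_pos
    rw [pow_succ]
    refine Nat.le_of_mul_le_mul_left ?_ h5
    set a := Nat.card ↥(fixS V (Subgroup.zpowers u))
    set b := Nat.card ↥(fixS V (Subgroup.closure (↑s : Set H)))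
    set i := Nat.card ↥(fixS V (Subgroup.zpowers u) ⊓ fixS V (Subgroup.closure (↑s : Set H)))
    calc a * Nat.card V ≤ a * (2 ^ s.card * b) := Nat.mul_le_mul_left _ h4
      _ = 2 ^ s.card * (a * b) := by ring
      _ ≤ 2 ^ s.card * (2 * a * i) := by
        rw [← h1, ← h3]; exact Nat.mul_le_mul_left _ (Nat.mul_le_mul_right _ h2)
      _ = a * (2 ^ s.card * 2 * i) := by ring

theorem bound_aux (hs : Sys V p 2 T M) (s : Finset H) (hsD : (↑s : Set H) ⊆ Tv V p)
    (hc : ∀ t ∈ s, ∀ u ∈ s, t * u = u * t) :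
    2 ^ s.card * Nat.card ↥(fixS V (Subgroup.closure (↑s : Set H))) ≤ Nat.card V ∧
      El p (Subgroup.closure (↑s : Set H)) ∧
      2 ^ s.card ≤ Nat.card ↥(Subgroup.closure (↑s : Set H)) ∧
      ∀ t ∈ Tv V p, (∀ u ∈ s, t * u = u * t) → t ∉ s → t ∉ Subgroup.closure (↑s : Set H) := by
  classical
  induction s using Finset.induction with
  | empty =>
    refine ⟨?_, ?_, ?_, fun t ht _ _ => ?_⟩
    · rw [Finset.card_empty, pow_zero, one_mul]
      exact AddSubgroup.card_le_card_addGroup _
    · rw [Finset.coe_empty, Subgroup.closure_empty]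
      exact ⟨fun a ha b hb => by rw [Subgroup.mem_bot.1 ha, Subgroup.mem_bot.1 hb],
        fun a ha => by rw [Subgroup.mem_bot.1 ha, one_pow]⟩
    · rw [Finset.card_empty, pow_zero]; exact Nat.card_pos
    · rw [Finset.coe_empty, Subgroup.closure_empty, Subgroup.mem_bot]
      exact Tv.ne_one ht
  | insert u s hus ih =>
    rw [Finset.coe_insert, Set.insert_subset_iff] at hsD
    have hc' : ∀ t ∈ s, ∀ v ∈ s, t * v = v * t := fun t ht v hv =>
      hc t (Finset.mem_insert_of_mem ht) v (Finset.mem_insert_of_mem hv)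
    have hcu : ∀ t ∈ s, u * t = t * u := fun t ht => hc u (Finset.mem_insert_self _ _) t (Finset.mem_insert_of_mem ht)
    obtain ⟨hb, hel, hcard, hnot⟩ := ih hsD.2 hc'
    have hu : Root V p 2 (Subgroup.zpowers u) := hsD.1
    rw [Finset.card_insert_of_notMem hus, Finset.coe_insert, Set.insert_eq, Subgroup.closure_union,
      ← Subgroup.zpowers_eq_closure]
    set C := Subgroup.closure (↑s : Set H) with hC
    have hcom : Com (Subgroup.zpowers u) C := by
      intro a ha c hc''
      have h1 : Subgroup.zpowers u ≤ Subgroup.centralizer (C : Set H) := by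
        refine Subgroup.zpowers_le.2 (Subgroup.mem_centralizer_iff.2 fun z hz => ?_)
        have h2 : C ≤ Subgroup.centralizer ({u} : Set H) :=
          (Subgroup.closure_le _).2 fun t ht => Subgroup.mem_centralizer_iff.2 fun z hz => by
            rw [Set.mem_singleton_iff.1 hz]; exact hcu t ht
        exact (Subgroup.mem_centralizer_iff.1 (h2 hz) u rfl).symm
      exact (Subgroup.mem_centralizer_iff.1 (h1 ha) c hc'').symm
    have hdisj : Subgroup.zpowers u ⊓ C = ⊥ := by
      rw [Subgroup.eq_bot_iff_forall]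
      intro z hz
      by_contra hz1
      have h1 := Root.eq_zpowers hu hz.1 hz1
      exact hnot u hsD.1 hcu hus ((h1 ▸ Subgroup.zpowers_le.2 hz.2 : Subgroup.zpowers u ≤ C) (Subgroup.mem_zpowers u))
    have hel' : El p (Subgroup.zpowers u ⊔ C) := hu.el.sup hel hcom
    have hcard' : 2 ^ (s.card + 1) ≤ Nat.card ↥(Subgroup.zpowers u ⊔ C) := by
      refine le_trans ?_ (card_le_sup hdisj)
      rw [hu.card, pow_succ, mul_comm]
      exact Nat.mul_le_mul_left _ hcard
    have hb' : 2 ^ (s.card + 1) * Nat.card ↥(fixS V (Subgroup.zpowers u ⊔ C)) ≤ Nat.card V :=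
      (Nat.mul_le_mul_right _ hcard').trans (hs.ctx.card_le hel')
    refine ⟨hb', hel', hcard', fun t ht htc htn hmem => ?_⟩
    rw [Finset.mem_insert, not_or] at htn
    obtain ⟨a, ha, c, hc'', he⟩ := exists_mul_of_mem_sup hcom hmem
    by_cases ha1 : a = 1
    · rw [ha1, one_mul] at he
      exact hnot t ht (fun v hv => htc v (Finset.mem_insert_of_mem hv)) htn.2 (he ▸ hc'')
    -- a vector fixed by `s` and moved by `u`
    obtain ⟨v, hv, hvu⟩ : ∃ v ∈ fixS V C, u • v ≠ v := by
      by_contra! h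
      have h1 : fixS V C ≤ fixS V (Subgroup.zpowers u ⊔ C) := by
        rw [fixS_sup]
        exact le_inf (fun v hv => mem_fixS_zpowers.2 (h v hv)) le_rfl
      have h2 := (hs.fix_halve s hsD.2).trans
        (Nat.mul_le_mul_left _ (AddSubgroup.card_le_of_le h1))
      have h3 : 0 < 2 ^ s.card * Nat.card ↥(fixS V (Subgroup.zpowers u ⊔ C)) :=
        Nat.mul_pos (pow_pos (by norm_num) _) Nat.card_pos
      rw [pow_succ] at hb'
      nlinarith
    obtain rfl : a = u := by
      have h1 : a ∈ Subgroup.zpowers u := ha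
      obtain ⟨i, rfl⟩ := Subgroup.mem_zpowers_iff.1 h1
      rcases Int.even_or_odd i with ⟨m, hm⟩ | ⟨m, hm⟩
      · exact absurd (by rw [hm, ← two_mul, zpow_mul, zpow_two, Tv.sq hsD.1, one_zpow]) ha1
      · rw [hm, zpow_add, zpow_mul, zpow_two, Tv.sq hsD.1, one_zpow, one_mul, zpow_one]
    refine htn.1 (hs.xc_inj ht hsD.1 ?_)
    have h2 : t • v = v + xc V a := by
      rw [he, mul_smul, hv c hc'', (hs.step hsD.1 v).resolve_left hvu]
    have h3 : t • v ≠ v := fun e => by
      rw [e] at h2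
      exact hs.xc_ne hsD.1 (left_eq_add.1 h2)
    rw [← hs.sub_eq_xc ht h3, h2, add_sub_cancel_left]

end Sys

/-- Adjacency: transvections that do not commute. -/
def Adj (V : Type*) [AddCommGroup V] [DistribMulAction H V] (p : ℕ) (t u : H) : Prop :=
  t ∈ Tv V p ∧ u ∈ Tv V p ∧ t * u ≠ u * t

/-- The class of `t`. -/
def Cls (V : Type*) [AddCommGroup V] [DistribMulAction H V] (p : ℕ) (t : H) : Set H :=
  {u | Relation.ReflTransGen (Adj V p) t u}

theorem Adj.conj {t u : H} (h : Adj V p t u) (g : H) : Adj V p (g * t * g⁻¹) (g * u * g⁻¹) :=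
  ⟨Tv.conj h.1 g, Tv.conj h.2.1 g, fun e => h.2.2 (by
    simpa [mul_assoc] using congrArg (fun z => g⁻¹ * z * g) e)⟩

theorem Adj.symm {t u : H} (h : Adj V p t u) : Adj V p u t := ⟨h.2.1, h.1, fun e => h.2.2 e.symm⟩

theorem mem_cls_self (t : H) : t ∈ Cls V p t := Relation.ReflTransGen.refl

theorem cls_tv {t u : H} (ht : t ∈ Tv V p) (hu : u ∈ Cls V p t) : u ∈ Tv V p := by
  rcases Relation.ReflTransGen.cases_tail hu with h | ⟨v, -, h⟩
  · exact h ▸ ht
  · exact h.2.1

theorem cls_symm {t u : H} (hu : u ∈ Cls V p t) : t ∈ Cls V p u := by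
  induction hu with
  | refl => exact Relation.ReflTransGen.refl
  | tail _ h ih => exact Relation.ReflTransGen.head h.symm ih

theorem cls_eq {t u : H} (hu : u ∈ Cls V p t) : Cls V p u = Cls V p t := by
  ext v
  exact ⟨fun h => Relation.ReflTransGen.trans hu h, fun h => Relation.ReflTransGen.trans (cls_symm hu) h⟩

theorem comm_of_cls_ne {t u a b : H} (ht : t ∈ Tv V p) (hu : u ∈ Tv V p) (hne : Cls V p t ≠ Cls V p u)
    (ha : a ∈ Cls V p t) (hb : b ∈ Cls V p u) : a * b = b * a := by
  by_contra h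
  have h1 : b ∈ Cls V p a := Relation.ReflTransGen.single ⟨cls_tv ht ha, cls_tv hu hb, h⟩
  exact hne (by rw [← cls_eq ha, ← cls_eq h1, cls_eq hb])

theorem cls_conj (g t : H) {u : H} : u ∈ Cls V p t → g * u * g⁻¹ ∈ Cls V p (g * t * g⁻¹) := by
  intro h
  induction h with
  | refl => exact Relation.ReflTransGen.refl
  | tail _ h ih => exact ih.tail (h.conj g)

theorem cls_conj_image (g t : H) : (fun u => g * u * g⁻¹) '' Cls V p t = Cls V p (g * t * g⁻¹) := by
  refine Set.Subset.antisymm (by rintro _ ⟨u, hu, rfl⟩; exact cls_conj g t hu) fun u hu => ?_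
  have h := cls_conj (V := V) (p := p) g⁻¹ _ hu
  simp only [inv_inv] at h
  exact ⟨g⁻¹ * u * g, by simpa [mul_assoc] using h, by group⟩

theorem conjBy_closure_cls (g t : H) :
    conjBy g (Subgroup.closure (Cls V p t)) = Subgroup.closure (Cls V p (g * t * g⁻¹)) := by
  rw [CfsgLib.Fusion.conjBy, MonoidHom.map_closure, ← cls_conj_image]
  rfl

namespace Sys

theorem symSys_cls (hs : Sys V p 2 T M) {t₀ : H} (ht₀ : t₀ ∈ Tv V p) :
    SymSys (Cls V p t₀) (xc (H := H) V) := by
  classical
  have hmem : ∀ t ∈ Cls V p t₀, t ∈ Tv V p := fun t ht => cls_tv ht₀ ht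
  exact
    { two := hs.two ht₀
      faith := hs.ctx.faith
      invol := fun t ht => Tv.sq (hmem t ht)
      conj := fun t ht u hu => by
        have hti : t⁻¹ = t := inv_eq_of_mul_eq_one_right (Tv.sq (hmem t ht))
        have h1 : t * u * t ∈ Cls V p (t * t₀ * t) := by
          have := cls_conj (V := V) (p := p) t t₀ hu
          rwa [hti] at this
        have h2 : Cls V p (t * t₀ * t) = Cls V p t₀ := by
          have h3 : t * t₀ * t ∈ Cls V p t := by
            have h4 := cls_conj (V := V) (p := p) t t (u := t₀) (by rw [cls_eq ht]; exact mem_cls_self t₀)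
            rwa [hti, Tv.sq (hmem t ht), one_mul] at h4
          rw [cls_eq h3, cls_eq ht]
        rwa [h2] at h1
      x_ne := fun t ht => hs.xc_ne (hmem t ht)
      x_fix := fun t ht => hs.xc_fix (hmem t ht)
      step := fun t ht v => hs.step (hmem t ht) v
      comm_iff := fun t ht u hu => hs.comm_iff_tv (hmem t ht) (hmem u hu)
      conn := fun E hE hne hcl => by
        refine Set.Subset.antisymm hE fun u hu => ?_
        obtain ⟨t, ht⟩ := hne
        have h1 : u ∈ Cls V p t := by rw [cls_eq (hE ht)]; exact hu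
        clear hu
        induction h1 with
        | refl => exact ht
        | tail hab h ih => exact hcl _ ih _ ((cls_eq (hE ih)) ▸ Relation.ReflTransGen.single h) h.2.2
      bound := fun s hsD hc => by
        have h := (hs.bound_aux s (fun t ht => hmem t (hsD ht)) hc).1
        refine le_trans (Nat.mul_le_mul_left _ ?_) h
        refine Nat.card_le_card_of_injective (fun v => (⟨v.1, fun g hg => ?_⟩ :
          ↥(fixS V (Subgroup.closure (↑s : Set H))))) fun a b e => Subtype.ext (congrArg Subtype.val e : _)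
        exact MulAction.mem_stabilizer_iff.1 ((Subgroup.closure_le _).2
          (fun t ht => MulAction.mem_stabilizer_iff.2 (v.2 t ht)) hg)
      noncomm := by
        obtain ⟨f, hf, hft⟩ := hs.exists_partner ht₀
        exact ⟨t₀, mem_cls_self t₀, f, Relation.ReflTransGen.single ⟨ht₀, hf, hft⟩, hft⟩ }

theorem com_cls (hs : Sys V p 2 T M) {t u : H} (ht : t ∈ Tv V p) (hu : u ∈ Tv V p)
    (hne : Cls V p t ≠ Cls V p u) :
    Com (Subgroup.closure (Cls V p t)) (Subgroup.closure (Cls V p u)) ∧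
      commS V (Subgroup.closure (Cls V p t)) ≤ fixS V (Subgroup.closure (Cls V p u)) := by
  constructor
  · intro a ha b hb
    have h1 : Subgroup.closure (Cls V p u) ≤ Subgroup.centralizer (Cls V p t) :=
      (Subgroup.closure_le _).2 fun b hb => Subgroup.mem_centralizer_iff.2 fun a ha =>
        comm_of_cls_ne ht hu hne ha hb
    rw [← Subgroup.centralizer_closure] at h1
    exact Subgroup.mem_centralizer_iff.1 (h1 hb) a ha
  · refine commS_le_iff.2 ((Subgroup.closure_le _).2 fun a ha v g hg => ?_)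
    refine MulAction.mem_stabilizer_iff.1 ((Subgroup.closure_le _).2 (fun b hb => ?_) hg)
    refine MulAction.mem_stabilizer_iff.2 ?_
    rcases hs.step (cls_tv ht ha) v with h | h <;> rw [h]
    · rw [sub_self, smul_zero]
    · rw [add_sub_cancel_left]
      exact (hs.comm_iff_tv (cls_tv ht ha) (cls_tv hu hb)).1 (comm_of_cls_ne ht hu hne ha hb)

end Sys

end CfsgLib.CFun.MinParab.Rec
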